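/-
The Sylow 2-subgroups of the Mathieu group of degree twelve are the model of order 64.
-/
import Cfsg.Agent.Lib.G2Sylow.Embed
import Cfsg.Agent.Lib.M12Amalgam.ModelM
import Cfsg.Agent.Lib.Golay.Mathieu

set_option autoImplicit false
set_option maxRecDepth 100000
set_option linter.style.haveILetI false

namespace CfsgLib.M12Sylow

open Cfsg CfsgLib.G2Sylow CfsgM12Amalgam CfsgGolay

/-- The product of a word in the six involutions. -/
def wd (l : List ℕ) : Equiv.Perm GolayPt := (l.map mu).prod

theorem wd_mem (l : List ℕ) : wd l ∈ Spor.M12 :=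
  Subgroup.list_prod_mem _ fun a ha => by
    obtain ⟨j, -, rfl⟩ := List.mem_map.1 ha
    exact mu_mem j

/-- The four generators. -/
def gx : List ℕ := [0, 4, 0, 5]
/-- The reflection. -/
def gE : List ℕ := [0, 4, 0]
/-- The exchange. -/
def gS : List ℕ := [3, 2, 5, 3, 4, 5, 3, 2, 4, 5]

theorem checks : ∀ q : GolayPt,
    wd (gx ++ gx ++ gx ++ gx) q = q ∧ wd (gx ++ (gS ++ gx ++ gS)) q = wd (gS ++ gx ++ gS ++ gx) q ∧
      wd (gE ++ gE) q = q ∧ wd (gS ++ gS) q = q ∧ wd (gE ++ gS) q = wd (gS ++ gE) q ∧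
      wd (gx ++ gE ++ gx ++ gE) q = q ∧ wd (gS ++ gx ++ gS ++ gE ++ (gS ++ gx ++ gS) ++ gE) q = q := by
  decide +kernel

theorem z_ne : ¬ ∀ q : GolayPt, wd (gx ++ gx ++ ((gS ++ gx ++ gS) ++ (gS ++ gx ++ gS))) q = q := by
  decide +kernel

theorem wd_append (a b : List ℕ) : wd (a ++ b) = wd a * wd b := by simp [wd]

theorem rels : Rels 4 (wd gx) (wd (gS ++ gx ++ gS)) (wd gE) (wd gS) := by
  have h : ∀ {a b : List ℕ}, (∀ q, wd a q = wd b q) → wd a = wd b := fun h => Equiv.ext h
  have h1 : ∀ {a : List ℕ}, (∀ q, wd a q = q) → wd a = 1 := fun h => Equiv.ext h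
  have hE : (wd gE)⁻¹ = wd gE := inv_eq_of_mul_eq_one_right ((wd_append _ _).symm.trans (h1 fun q => (checks q).2.2.1))
  constructor
  · rw [show (4 : ℕ) = 3 + 1 from rfl, pow_succ, pow_succ, pow_two, ← wd_append, ← wd_append, ← wd_append]
    exact h1 fun q => (checks q).1
  · show _ * _ = _ * _
    rw [← wd_append, ← wd_append]
    exact h fun q => (checks q).2.1
  · rw [← wd_append]; exact h1 fun q => (checks q).2.2.1
  · rw [← wd_append]; exact h1 fun q => (checks q).2.2.2.1
  · rw [← wd_append, ← wd_append]; exact h fun q => (checks q).2.2.2.2.1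
  · refine eq_inv_of_mul_eq_one_right ?_
    rw [← wd_append, ← wd_append, ← wd_append, ← List.append_assoc, ← List.append_assoc]
    exact h1 fun q => (checks q).2.2.2.2.2.1
  · refine eq_inv_of_mul_eq_one_right ?_
    rw [← wd_append, ← wd_append, ← wd_append]
    refine h1 fun q => ?_
    simpa only [List.append_assoc] using (checks q).2.2.2.2.2.2
  · rw [← wd_append, ← wd_append]

/-- The model embeds as a Sylow 2-subgroup. -/
theorem exists_iso (P : Sylow 2 ↥Spor.M12) : Nonempty (W 4 ≃* ↥(P : Subgroup ↥Spor.M12)) := by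
  haveI : Fact (Nat.Prime 2) := ⟨Nat.prime_two⟩
  have hinj : Function.Injective rels.hom := by
    refine rels.hom_injective (n := 2) (h := 2) (by norm_num) (by norm_num) le_rfl ?_
    intro e
    refine z_ne fun q => ?_
    have h := Equiv.congr_fun e q
    rw [pow_two, pow_two, ← wd_append, ← wd_append, ← wd_append] at h
    exact h
  have hmem : ∀ w : W 4, rels.hom w ∈ Spor.M12 := by
    intro w
    show wd gx ^ w.i.val * wd (gS ++ gx ++ gS) ^ w.j.val * fl (wd gE) (wd gS) w.e w.s ∈ Spor.M12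
    refine mul_mem (mul_mem (pow_mem (wd_mem _) _) (pow_mem (wd_mem _) _)) (mul_mem ?_ ?_) <;>
      split <;> first | exact wd_mem _ | exact one_mem _
  set f : W 4 →* ↥Spor.M12 := rels.hom.codRestrict _ hmem
  have hf : Function.Injective f := fun a b e => hinj (congrArg Subtype.val e)
  have hc : Nat.card f.range = 2 ^ (Nat.card ↥Spor.M12).factorization 2 := by
    rw [← Nat.card_congr (MonoidHom.ofInjective hf).toEquiv, card_W, card_sporM12]
    have : (95040 : ℕ).factorization 2 = 6 := by
      rw [show (95040 : ℕ) = 2 ^ 6 * 1485 by norm_num, Nat.factorization_mul (by norm_num) (by norm_num),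
        Finsupp.add_apply, Nat.Prime.factorization_pow Nat.prime_two, Finsupp.single_eq_same,
        Nat.factorization_eq_zero_of_not_dvd (show ¬ 2 ∣ 1485 by norm_num)]
    rw [this]; norm_num
  exact ⟨(MonoidHom.ofInjective hf).trans ((Sylow.ofCard f.range hc).equiv P)⟩

end CfsgLib.M12Sylow
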