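/-
Computations in the model of order 64.
-/
import Cfsg.Agent.Lib.G2Sylow.Model

set_option autoImplicit false
set_option maxRecDepth 100000

namespace CfsgLib.M12Sylow

open CfsgLib.G2Sylow

/-- The central involution. -/
abbrev zz : W 4 := rot 2 2
/-- A non-central rotation involution. -/
abbrev uu : W 4 := rot 2 0
/-- Its partner. -/
abbrev vv : W 4 := rot 0 2
/-- The reflection of parity (0,0). -/
abbrev r0 : W 4 := CfsgLib.G2Sylow.refl 0 0
/-- The reflection of parity (1,1). -/
abbrev r1 : W 4 := CfsgLib.G2Sylow.refl 1 1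
/-- The reflection of odd parity. -/
abbrev tt : W 4 := CfsgLib.G2Sylow.refl 1 0

/-- The order of the centraliser. -/
def cw (w : W 4) : ℕ := (Finset.univ.filter fun v : W 4 => v * w = w * v).card

theorem zz_sq : zz * zz = 1 := by decide
theorem zz_ne : zz ≠ 1 := by decide
theorem uu_sq : uu * uu = 1 := by decide
theorem uu_ne : uu ≠ 1 := by decide
theorem uu_ne_zz : uu ≠ zz := by decide
theorem vv_sq : vv * vv = 1 := by decide
theorem vv_ne : vv ≠ 1 := by decide
theorem vv_ne_zz : vv ≠ zz := by decide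
theorem uu_ne_vv : uu ≠ vv := by decide

theorem zz_comm : ∀ w : W 4, w * zz = zz * w := by decide +kernel

theorem swp_uu : swp * uu * swp⁻¹ = vv ∧ swp * vv * swp⁻¹ = uu ∧ swp * zz * swp⁻¹ = zz := by decide

theorem big_cent : ∀ w : W 4, w * w = 1 → 32 < cw w → w = 1 ∨ w = zz := by decide +kernel

theorem large_cent : ∀ w : W 4, w * w = 1 → 16 < cw w → w = 1 ∨ w = zz ∨ w = uu ∨ w = vv := by decide +kernel

theorem center_Ks : ∀ w : W 4, w.s = false → w * w = 1 → (∀ v : W 4, v.s = false → v * w = w * v) →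
    w = 1 ∨ w = zz ∨ w = uu ∨ w = vv := by decide +kernel

theorem Ks_comm : ∀ v : W 4, v.s = false → v * uu = uu * v ∧ v * vv = vv * v := by decide +kernel

theorem card_Ks : Nat.card (Ks : Subgroup (W 4)) = 32 := by
  have h := (Ks : Subgroup (W 4)).card_mul_index
  rw [index_Ks, card_W] at h
  omega

theorem card_cw (w : W 4) : Nat.card (Subgroup.centralizer ({w} : Set (W 4))) = cw w := by
  classical
  rw [Nat.card_eq_fintype_card, cw, ← Fintype.card_subtype]
  exact Fintype.card_congr (Equiv.subtypeEquivRight fun v => Subgroup.mem_centralizer_singleton_iff)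

/-- The parity class of a reflection. -/
def pr (v : W 4) : ZMod 2 × ZMod 2 := ((v.i.val : ZMod 2), (v.j.val : ZMod 2))

theorem pr_Ks : ∀ k v : W 4, k.s = false → v.s = false → v.e = true →
    (k * v * k⁻¹).s = false ∧ (k * v * k⁻¹).e = true ∧ pr (k * v * k⁻¹) = pr v := by decide +kernel

theorem pr_mul : ∀ v a : W 4, v.s = false → v.e = true → (a = 1 ∨ a = zz ∨ a = uu ∨ a = vv) →
    (v * a).s = false ∧ (v * a).e = true ∧ pr (v * a) = pr v := by decide +kernel

/-- The images of the generators of the second kernel under an automorphism. -/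
def OkImg (za zb : W 4) (a b c : W 4) : Prop :=
  a.s = false ∧ b.s = false ∧ c.s = false ∧ a * a = za ∧ b * b = zb ∧ c * c = 1 ∧ c * a * c = a⁻¹

instance (za zb a b c : W 4) : Decidable (OkImg za zb a b c) := by unfold OkImg; infer_instance

/-- The image of an element. -/
def img (a b c : W 4) (v : W 4) : W 4 := a ^ v.i.val * b ^ v.j.val * (if v.e then c else 1)

theorem word_Ks : ∀ v : W 4, v.s = false → img (rot 1 0) (rot 0 1) r0 v = v := by decide +kernel

theorem gen_sq : (rot 1 0 : W 4) * rot 1 0 = uu ∧ (rot 0 1 : W 4) * rot 0 1 = vv ∧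
    r0 * r0 = 1 ∧ r0 * rot 1 0 * r0 = (rot 1 0)⁻¹ := by decide

theorem img_fix : ∀ a : W 4, a.s = false → a * a = uu → ∀ b : W 4, b.s = false → b * b = vv →
    ∀ c : W 4, c.s = false → c * c = 1 → c * a * c = a⁻¹ → ∀ v : W 4, v.s = false → v.e = true →
    (img a b c v).e = true ∧ pr (img a b c v) = pr v + pr c := by decide +kernel

theorem img_cyc : ∀ a : W 4, a.s = false → a * a = zz → ∀ b : W 4, b.s = false → b * b = uu →
    ∀ c : W 4, c.s = false → c * c = 1 → c * a * c = a⁻¹ → ∀ v : W 4, v.s = false → v.e = true →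
    (img a b c v).e = true ∧
      pr (img a b c v) = ((pr v).1 + (pr v).2 + (pr c).1, (pr v).1 + (pr c).2) := by decide +kernel

end CfsgLib.M12Sylow
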