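/-
A simple group with the model as Sylow 2-subgroup and two classes of involutions.
-/
import Cfsg.Agent.Lib.M12Sylow.Facts
import Cfsg.Agent.Lib.G2Sylow.Fusion
import Cfsg.Agent.Lib.G2Cent.Basic

set_option autoImplicit false
set_option linter.unusedSectionVars false
set_option linter.style.haveILetI false

namespace CfsgLib.M12Sylow

open CfsgLib.G2Sylow

universe u

variable {G : Type u} [Group G] [Finite G]

/-- Two 2-subgroups of largest possible order in `H` are conjugate in `H`. -/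
theorem conj_of_max {H P Q : Subgroup G} {n : ℕ} (hP : IsPGroup 2 P) (hQ : IsPGroup 2 Q) (hPH : P ≤ H)
    (hQH : Q ≤ H) (hcP : Nat.card P = n) (hcQ : Nat.card Q = n)
    (hmax : ∀ R : Subgroup G, IsPGroup 2 R → R ≤ H → Nat.card R ≤ n) :
    ∃ h ∈ H, P.map (MulAut.conj h).toMonoidHom = Q := by
  haveI : Fact (Nat.Prime 2) := ⟨Nat.prime_two⟩
  obtain ⟨R, hR⟩ := (hQ.of_equiv (Subgroup.subgroupOfEquivOfLe hQH).symm).exists_le_sylow
  obtain ⟨h, hh⟩ := CfsgLib.G2Cent.into R (hP.of_equiv (Subgroup.subgroupOfEquivOfLe hPH).symm)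
  have hRle : (R : Subgroup H).map H.subtype ≤ Q := by
    have hle : Q ≤ (R : Subgroup H).map H.subtype := fun q hq =>
      ⟨⟨q, hQH hq⟩, hR (Subgroup.mem_subgroupOf.mpr hq), rfl⟩
    exact (Subgroup.eq_of_le_of_card_ge hle (hcQ.symm ▸ hmax _ (R.2.map _) (Subgroup.map_subtype_le _))).ge
  refine ⟨h, h.2, Subgroup.eq_of_le_of_card_ge ?_ ?_⟩
  · rintro _ ⟨p, hp, rfl⟩
    exact hRle ⟨_, hh ⟨p, hPH hp⟩ (Subgroup.mem_subgroupOf.mpr hp), rfl⟩
  · rw [hcQ, Subgroup.card_map_of_injective (MulAut.conj _).injective, hcP]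

/-- The ambient data. -/
structure Amb (G : Type u) [Group G] [Finite G] where
  hG : IsSimpleGroup G
  S : Sylow 2 G
  ι : W 4 →* G
  inj : Function.Injective ι
  range_eq : ι.range = (S : Subgroup G)
  two : ¬ IsConj (ι swp) (ι zz)

namespace Amb

variable (D : Amb G)

theorem isPGroup_W : IsPGroup 2 (W 4) := IsPGroup.of_card (n := 6) (by rw [card_W]; norm_num)

theorem isPGroup_map (A : Subgroup (W 4)) : IsPGroup 2 (A.map D.ι) := (isPGroup_W.to_subgroup A).map _

theorem card_map (A : Subgroup (W 4)) : Nat.card (A.map D.ι) = Nat.card A :=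
  Subgroup.card_map_of_injective D.inj

theorem order_two {w : W 4} (h : w * w = 1) (h1 : w ≠ 1) : orderOf (D.ι w) = 2 := by
  rw [orderOf_injective D.ι D.inj]
  exact orderOf_eq_prime (by rw [sq, h]) h1

theorem central : ∀ s ∈ (D.S : Subgroup G), Commute s (D.ι zz) := by
  intro s hs
  rw [← D.range_eq] at hs
  obtain ⟨w, rfl⟩ := hs
  exact (show Commute w zz from zz_comm w).map D.ι

theorem comm_zz (w : W 4) : Commute (D.ι w) (D.ι zz) := (show Commute w zz from zz_comm w).map D.ι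

/-- Conjugate to the central involution. -/
def Z (w : W 4) : Prop := IsConj (D.ι w) (D.ι zz)

theorem Z_uu : D.Z uu := by
  haveI := D.hG
  exact (CfsgLib.G2Sylow.conj_zu (h := 2) (by norm_num) (by decide) le_rfl D.S D.ι D.inj D.range_eq).symm

theorem Z_conj {v w : W 4} (c : W 4) (e : c * v * c⁻¹ = w) : D.Z v ↔ D.Z w := by
  have h : IsConj (D.ι v) (D.ι w) := isConj_iff.mpr ⟨D.ι c, by rw [← map_inv, ← map_mul, ← map_mul, e]⟩
  exact ⟨fun h' => h.symm.trans h', fun h' => h.trans h'⟩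

theorem Z_vv : D.Z vv := (D.Z_conj swp swp_uu.1).mp D.Z_uu

theorem classes {x : G} (hx : orderOf x = 2) : IsConj x (D.ι zz) ∨ IsConj x (D.ι swp) := by
  haveI := D.hG
  exact CfsgLib.G2Sylow.two_classes (h := 2) (by norm_num) (by decide) le_rfl D.S D.ι D.inj D.range_eq x hx

theorem not_Z {w : W 4} (hw : w * w = 1) (hw1 : w ≠ 1) (h : ¬ D.Z w) : IsConj (D.ι w) (D.ι swp) :=
  (D.classes (D.order_two hw hw1)).resolve_left h

/-- A 2-group centralising the central involution moves into the model. -/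
theorem move {P : Subgroup G} (hP : IsPGroup 2 P) (hz : ∀ p ∈ P, Commute p (D.ι zz)) :
    ∃ c : G, Commute c (D.ι zz) ∧ ∀ p ∈ P, ∃ w, D.ι w = c * p * c⁻¹ := by
  obtain ⟨c, hc, h⟩ := CfsgLib.G2Sylow.into_sylow D.S D.central hP hz
  exact ⟨c, hc, fun p hp => by
    have := h p hp
    rw [← D.range_eq] at this
    exact this⟩

/-- An involution with a large centraliser among those of the central one. -/
theorem cent_big {P : Subgroup G} (hP : IsPGroup 2 P) (hz : ∀ p ∈ P, Commute p (D.ι zz)) {y : G} (hy : y ∈ P)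
    (hy2 : y * y = 1) (hc : ∀ p ∈ P, Commute p y) :
    ∃ (c : G) (w : W 4), Commute c (D.ι zz) ∧ D.ι w = c * y * c⁻¹ ∧ w * w = 1 ∧ Nat.card P ≤ cw w := by
  obtain ⟨c, hcz, hmem⟩ := D.move hP hz
  choose f hf using hmem
  refine ⟨c, f y hy, hcz, hf y hy, D.inj ?_, ?_⟩
  · rw [map_mul, hf, map_one, show c * y * c⁻¹ * (c * y * c⁻¹) = c * (y * y) * c⁻¹ by group, hy2]
    group
  · rw [← card_cw]
    refine Nat.card_le_card_of_injective (fun p : P => (⟨f p p.2, Subgroup.mem_centralizer_singleton_iff.mpr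
      (D.inj ?_)⟩ : Subgroup.centralizer ({f y hy} : Set (W 4)))) fun p q e => ?_
    · rw [map_mul, map_mul, hf, hf]
      exact ((hc p p.2).map (MulAut.conj c).toMonoidHom).eq
    · have e' := congrArg (fun v : Subgroup.centralizer ({f y hy} : Set (W 4)) => D.ι v) e
      simp only [hf] at e'
      exact Subtype.ext (mul_left_cancel (mul_right_cancel e'))

theorem eq_zz_of_conj {w : W 4} {c : G} (hc : Commute c (D.ι zz)) {x : G} (hw : D.ι w = c * x * c⁻¹)
    (hwz : w = zz) : x = D.ι zz := by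
  rw [hwz, ← mul_inv_cancel_right (D.ι zz) c, ← hc.eq] at hw
  exact (mul_left_cancel (mul_right_cancel hw)).symm

/-- The centraliser of the central involution and `uu` has Sylow subgroups of order at most 32. -/
theorem bound_uu {P : Subgroup G} (hP : IsPGroup 2 P) (hz : ∀ p ∈ P, Commute p (D.ι zz))
    (hu : ∀ p ∈ P, Commute p (D.ι uu)) : Nat.card P ≤ 32 := by
  have hcomm : Commute (D.ι zz) (D.ι uu) := (D.comm_zz uu).symm
  set u := D.ι uu
  have hu2 : u * u = 1 := by rw [← map_mul, uu_sq, map_one]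
  have hn : P ≤ Subgroup.normalizer ((Subgroup.zpowers u : Subgroup G) : Set G) := fun p hp =>
    Subgroup.centralizer_le_normalizer _ (Subgroup.mem_centralizer_iff.mpr fun x hx => by
      obtain ⟨i, rfl⟩ := Subgroup.mem_zpowers_iff.mp hx
      exact ((hu p hp).zpow_right i).eq.symm)
  have hU : IsPGroup 2 (Subgroup.zpowers u) := IsPGroup.of_card (n := 1) (by
    rw [Nat.card_zpowers, D.order_two uu_sq uu_ne, pow_one])
  have hQ := hP.to_sup_of_normal_right' hU hn
  have hQz : ∀ y ∈ P ⊔ Subgroup.zpowers u, Commute y (D.ι zz) ∧ Commute y u := by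
    intro y hy
    have : P ⊔ Subgroup.zpowers u ≤ Subgroup.centralizer ({D.ι zz} : Set G) ⊓ Subgroup.centralizer {u} := by
      refine sup_le (fun p hp => ⟨?_, ?_⟩) ?_
      · exact Subgroup.mem_centralizer_singleton_iff.mpr (hz p hp).eq
      · exact Subgroup.mem_centralizer_singleton_iff.mpr (hu p hp).eq
      · rw [Subgroup.zpowers_le]
        exact ⟨Subgroup.mem_centralizer_singleton_iff.mpr hcomm.symm.eq,
          Subgroup.mem_centralizer_singleton_iff.mpr rfl⟩
    exact ⟨Subgroup.mem_centralizer_singleton_iff.mp (this hy).1, Subgroup.mem_centralizer_singleton_iff.mp (this hy).2⟩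
  obtain ⟨c, w, hc, hw, hw2, hle⟩ := D.cent_big hQ (fun y hy => (hQz y hy).1)
    (Subgroup.mem_sup_right (Subgroup.mem_zpowers u)) hu2 (fun y hy => (hQz y hy).2)
  refine (Subgroup.card_le_of_le le_sup_left).trans (hle.trans ?_)
  by_contra hb
  rcases big_cent w hw2 (not_le.mp hb) with h1 | h1
  · rw [h1, map_one] at hw
    exact uu_ne (D.inj ((conj_eq_one_iff.mp hw.symm).trans (map_one D.ι).symm))
  · exact uu_ne_zz (D.inj (D.eq_zz_of_conj hc hw h1))

end Amb

end CfsgLib.M12Sylow
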