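/-
The element of order three permuting the rotation involutions, and the parity classes of the reflections.
-/
import Cfsg.Agent.Lib.M12Sylow.Amb

set_option autoImplicit false
set_option linter.unusedSectionVars false
set_option linter.style.haveILetI false

namespace CfsgLib.M12Sylow

open CfsgLib.G2Sylow

universe u

variable {G : Type u} [Group G] [Finite G]

/-- The shift of the reflections. -/
def shift : W 4 →* W 4 :=
  MonoidHom.mk' (fun w => ⟨w.i + (if w.e then 1 else 0), w.j + (if w.e then 1 else 0), w.e, w.s⟩) (by decide +kernel)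

theorem shift_facts : Function.Injective shift ∧ shift zz = zz ∧ shift uu = uu ∧ shift vv = vv ∧ shift swp = swp ∧
    (∀ v : W 4, (shift v).s = v.s ∧ (shift v).e = v.e ∧ (v.e = true → pr (shift v) = pr v + (1, 1))) := by
  refine ⟨?_, ?_⟩
  · rintro ⟨i, j, e, s⟩ ⟨i', j', e', s'⟩ h
    simp [shift] at h
    obtain ⟨h1, h2, rfl, rfl⟩ := h
    simp at h1 h2
    simp [h1, h2]
  · decide +kernel

theorem pair_two : ∀ q : ZMod 2 × ZMod 2, 2 • q = 0 := by decide
theorem zmod_two_ne : ∀ q : ZMod 2, q ≠ 0 → q = 1 := by decide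
theorem swap_twice : ∀ q : ZMod 2 × ZMod 2,
    (((((pr r0).1 + (pr r0).2 + q.1, (pr r0).1 + q.2).2, ((pr r0).1 + (pr r0).2 + q.1, (pr r0).1 + q.2).1).1 +
                  (((pr r0).1 + (pr r0).2 + q.1, (pr r0).1 + q.2).2,
                      ((pr r0).1 + (pr r0).2 + q.1, (pr r0).1 + q.2).1).2 +
                q.1,
              (((pr r0).1 + (pr r0).2 + q.1, (pr r0).1 + q.2).2, ((pr r0).1 + (pr r0).2 + q.1, (pr r0).1 + q.2).1).1 +
                q.2).2,
          ((((pr r0).1 + (pr r0).2 + q.1, (pr r0).1 + q.2).2, ((pr r0).1 + (pr r0).2 + q.1, (pr r0).1 + q.2).1).1 +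
                  (((pr r0).1 + (pr r0).2 + q.1, (pr r0).1 + q.2).2,
                      ((pr r0).1 + (pr r0).2 + q.1, (pr r0).1 + q.2).1).2 +
                q.1,
              (((pr r0).1 + (pr r0).2 + q.1, (pr r0).1 + q.2).2, ((pr r0).1 + (pr r0).2 + q.1, (pr r0).1 + q.2).1).1 +
                q.2).1) =
        pr r0 → q.2 = 0 := by decide +kernel
theorem shift_eq : ∀ q q' : ZMod 2 × ZMod 2,
    q' + (1, 1) = ((q + (1, 1)).1 + (q + (1, 1)).2 + 1, (q + (1, 1)).1 + 0) → q' = (q.1 + q.2, q.1) := by decide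

namespace Amb

variable (D : Amb G)

/-- The normaliser of the second kernel with the images. -/
def Norm (n : G) : Prop := ∀ v : W 4, v.s = false → ∃ w : W 4, w.s = false ∧ D.ι w = n * D.ι v * n⁻¹

theorem norm_mul {n m : G} (hn : D.Norm n) (hm : D.Norm m) : D.Norm (n * m) := fun v hv => by
  obtain ⟨w, hw, e⟩ := hm v hv
  obtain ⟨w', hw', e'⟩ := hn w hw
  exact ⟨w', hw', by rw [e', e]; group⟩

theorem norm_swp : D.Norm (D.ι swp) := fun v hv =>
  ⟨swp * v * swp⁻¹, by simp [mul_def, inv_def, swp, hv], by simp⟩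

theorem mem_Ks_map {x : G} : x ∈ (Ks : Subgroup (W 4)).map D.ι ↔ ∃ w : W 4, w.s = false ∧ D.ι w = x :=
  ⟨fun ⟨w, hw, e⟩ => ⟨w, hw, e⟩, fun ⟨w, hw, e⟩ => ⟨w, hw, e⟩⟩

theorem norm_iff {n : G} :
    D.Norm n ↔ n ∈ Subgroup.normalizer (((Ks : Subgroup (W 4)).map D.ι : Subgroup G) : Set G) := by
  classical
  constructor
  · intro hn
    have hle : ((Ks : Subgroup (W 4)).map D.ι).map (MulAut.conj n).toMonoidHom ≤ (Ks : Subgroup (W 4)).map D.ι := by
      rintro _ ⟨_, ⟨v, hv, rfl⟩, rfl⟩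
      obtain ⟨w, hw, e⟩ := hn v hv
      exact ⟨w, hw, e⟩
    have heq := Subgroup.eq_of_le_of_card_ge hle (le_of_eq (Nat.card_congr
      (Subgroup.equivMapOfInjective ((Ks : Subgroup (W 4)).map D.ι) _ (MulAut.conj n).injective).toEquiv))
    rw [Subgroup.mem_normalizer_iff]
    intro y
    constructor
    · exact fun hy => hle ⟨y, hy, rfl⟩
    · intro hy
      rw [← heq] at hy
      obtain ⟨y', hy', e⟩ := hy
      exact (MulAut.conj n).injective e ▸ hy'
  · intro hn v hv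
    obtain ⟨w, hw, e⟩ := (Subgroup.mem_normalizer_iff.mp hn _).mp ⟨v, hv, rfl⟩
    exact ⟨w, hw, e⟩

/-- The images in terms of the generators. -/
theorem images {n : G} (hn : D.Norm n) {p q : W 4} (hp : n * D.ι uu * n⁻¹ = D.ι p)
    (hq : n * D.ι vv * n⁻¹ = D.ι q) :
    ∃ a b c : W 4, a.s = false ∧ b.s = false ∧ c.s = false ∧ a * a = p ∧ b * b = q ∧ c * c = 1 ∧
      c * a * c = a⁻¹ ∧ ∀ v : W 4, v.s = false → n * D.ι v * n⁻¹ = D.ι (img a b c v) := by
  obtain ⟨a, ha, ea⟩ := hn (rot 1 0) rfl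
  obtain ⟨b, hb, eb⟩ := hn (rot 0 1) rfl
  obtain ⟨c, hc, ec⟩ := hn r0 rfl
  obtain ⟨g1, g2, g3, g4⟩ := gen_sq
  refine ⟨a, b, c, ha, hb, hc, D.inj ?_, D.inj ?_, D.inj ?_, D.inj ?_, fun v hv => ?_⟩
  · rw [map_mul, ea, ← hp, ← g1, map_mul]; group
  · rw [map_mul, eb, ← hq, ← g2, map_mul]; group
  · rw [map_mul, map_one, ec, show n * D.ι r0 * n⁻¹ * (n * D.ι r0 * n⁻¹) = n * (D.ι r0 * D.ι r0) * n⁻¹ by group,
      ← map_mul, g3, map_one]
    group
  · rw [map_mul, map_mul, map_inv, ea, ec,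
      show n * D.ι r0 * n⁻¹ * (n * D.ι (rot 1 0) * n⁻¹) * (n * D.ι r0 * n⁻¹)
        = n * (D.ι r0 * D.ι (rot 1 0) * D.ι r0) * n⁻¹ by group, ← map_mul, ← map_mul, g4, map_inv]
    group
  · conv_lhs => rw [← word_Ks v hv]
    simp only [img, map_mul, map_pow, ea, eb]
    rw [show n * (D.ι (rot 1 0) ^ v.i.val * D.ι (rot 0 1) ^ v.j.val * D.ι (if v.e then r0 else 1)) * n⁻¹
      = n * D.ι (rot 1 0) ^ v.i.val * n⁻¹ * (n * D.ι (rot 0 1) ^ v.j.val * n⁻¹) *
        (n * D.ι (if v.e then r0 else 1) * n⁻¹) by group, conj_pow, conj_pow]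
    congr 1
    split
    · exact ec.symm
    · simp

theorem vv_eq : D.ι vv = D.ι uu * D.ι zz := by rw [← map_mul]; rfl

theorem fix_vv {n : G} (hz : Commute n (D.ι zz)) (hu : Commute n (D.ι uu)) : n * D.ι vv * n⁻¹ = D.ι vv := by
  rw [D.vv_eq, (hu.mul_right hz).eq, mul_inv_cancel_right]

/-- A normalising element fixing the rotation involutions acts on parities as a translation. -/
theorem translate {n : G} (hn : D.Norm n) (hz : Commute n (D.ι zz)) (hu : Commute n (D.ι uu)) :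
    ∃ τ : ZMod 2 × ZMod 2, ∀ v : W 4, v.s = false → v.e = true →
      ∃ w : W 4, w.s = false ∧ w.e = true ∧ n * D.ι v * n⁻¹ = D.ι w ∧ pr w = pr v + τ := by
  obtain ⟨a, b, c, ha, hb, hc, h1, h2, h3, h4, himg⟩ := D.images hn (p := uu) (q := vv)
    (by rw [hu.eq, mul_inv_cancel_right]) (D.fix_vv hz hu)
  refine ⟨pr c, fun v hv he => ?_⟩
  obtain ⟨w, hw, e⟩ := hn v hv
  have hwe : w = img a b c v := D.inj (e.trans (himg v hv))
  have := img_fix a ha h1 b hb h2 c hc h3 h4 v hv he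
  exact ⟨w, hw, hwe ▸ this.1, e.symm, hwe ▸ this.2⟩

/-- Such elements fix all parities. -/
theorem fix_parity {n : G} (hn : D.Norm n) (hz : Commute n (D.ι zz)) (hu : Commute n (D.ι uu)) {v w : W 4}
    (hv : v.s = false) (he : v.e = true) (e : n * D.ι v * n⁻¹ = D.ι w) :
    w.e = true ∧ pr w = pr v := by
  classical
  haveI : Fact (Nat.Prime 2) := ⟨Nat.prime_two⟩
  obtain ⟨τ, hτ⟩ := D.translate hn hz hu
  suffices hτ0 : τ = 0 by
    obtain ⟨w', -, hwe, e', hpr⟩ := hτ v hv he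
    obtain rfl : w = w' := D.inj (e.symm.trans e')
    exact ⟨hwe, by rw [hpr, hτ0, add_zero]⟩
  -- the powers translate by multiples
  have hpow : ∀ k : ℕ, ∀ v : W 4, v.s = false → v.e = true →
      ∃ w : W 4, w.s = false ∧ w.e = true ∧ n ^ k * D.ι v * (n ^ k)⁻¹ = D.ι w ∧ pr w = pr v + k • τ := by
    intro k
    induction k with
    | zero => exact fun v hv he => ⟨v, hv, he, by simp, by simp⟩
    | succ k ih =>
      intro v hv he
      obtain ⟨w, hw, hwe, e1, p1⟩ := ih v hv he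
      obtain ⟨w', hw', hwe', e2, p2⟩ := hτ w hw hwe
      refine ⟨w', hw', hwe', ?_, by rw [p2, p1, succ_nsmul, add_assoc]⟩
      rw [← e2, ← e1, pow_succ']; group
  -- an odd power lies in the kernel
  set N := orderOf n
  set b := N / 2 ^ N.factorization 2
  have hb : ¬ 2 ∣ b := Nat.not_dvd_ordCompl Nat.prime_two (orderOf_pos n).ne'
  have hnb : n ^ b ∈ (Ks : Subgroup (W 4)).map D.ι := by
    set K := (Ks : Subgroup (W 4)).map D.ι
    have hP : IsPGroup 2 (Subgroup.zpowers (n ^ b)) := IsPGroup.of_card (n := N.factorization 2) (by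
      rw [Nat.card_zpowers, orderOf_pow_of_dvd (fun h0 =>
        hb (dvd_of_mul_right_eq 0 (by rw [mul_zero]; exact h0.symm))) (Nat.ordCompl_dvd _ _)]
      exact Nat.div_div_self (Nat.ordProj_dvd _ _) (orderOf_pos n).ne')
    have hle : Subgroup.zpowers (n ^ b) ≤ Subgroup.normalizer (K : Set G) := by
      rw [Subgroup.zpowers_le]; exact pow_mem (D.norm_iff.mp hn) b
    have hQ := hP.to_sup_of_normal_right' (D.isPGroup_map Ks) hle
    have hle2 : Subgroup.zpowers (n ^ b) ⊔ K ≤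
        Subgroup.centralizer ({D.ι zz} : Set G) ⊓ Subgroup.centralizer {D.ι uu} := by
      refine sup_le ?_ ?_
      · rw [Subgroup.zpowers_le]
        exact ⟨Subgroup.mem_centralizer_singleton_iff.mpr (hz.pow_left b).eq,
          Subgroup.mem_centralizer_singleton_iff.mpr (hu.pow_left b).eq⟩
      · rintro _ ⟨k, hk, rfl⟩
        exact ⟨Subgroup.mem_centralizer_singleton_iff.mpr (D.comm_zz k).eq,
          Subgroup.mem_centralizer_singleton_iff.mpr
            ((show Commute k uu from (Ks_comm k hk).1).map D.ι).eq⟩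
    have hcard := D.bound_uu hQ (fun p hp => Subgroup.mem_centralizer_singleton_iff.mp (hle2 hp).1)
      (fun p hp => Subgroup.mem_centralizer_singleton_iff.mp (hle2 hp).2)
    have := Subgroup.eq_of_le_of_card_ge (le_sup_right : K ≤ Subgroup.zpowers (n ^ b) ⊔ K)
      (by rw [D.card_map, card_Ks]; exact hcard)
    exact this ▸ Subgroup.mem_sup_left (Subgroup.mem_zpowers _)
  obtain ⟨k, hk, ek⟩ := D.mem_Ks_map.mp hnb
  obtain ⟨w, hw, -, e1, p1⟩ := hpow b r0 rfl rfl
  rw [← ek, ← map_inv, ← map_mul, ← map_mul] at e1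
  rw [← D.inj e1, (pr_Ks k r0 hk rfl rfl).2.2] at p1
  have hb1 : b • τ = τ := by
    obtain ⟨m, hm⟩ : Odd b := Nat.not_even_iff_odd.mp fun h => hb (even_iff_two_dvd.mp h)
    rw [hm, succ_nsmul, mul_nsmul', pair_two, zero_add]
  rw [hb1] at p1
  exact (left_eq_add.mp p1)

end Amb

/-- The data with a permuting element fixing the parity (0,0). -/
structure Fr (G : Type u) [Group G] [Finite G] extends Amb G where
  x : G
  norm : toAmb.Norm x
  xz : x * ι zz * x⁻¹ = ι vv
  xv : x * ι vv * x⁻¹ = ι uu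
  xu : x * ι uu * x⁻¹ = ι zz
  act : ∀ v : W 4, v.s = false → v.e = true → ∃ w : W 4, w.s = false ∧ w.e = true ∧
    x * ι v * x⁻¹ = ι w ∧ pr w = ((pr v).1 + (pr v).2, (pr v).1)

/-- The model may be chosen with a permuting element fixing the parity (0,0). -/
theorem exists_frame (D : Amb G) : Nonempty (Fr G) := by
  classical
  haveI : Fact (Nat.Prime 2) := ⟨Nat.prime_two⟩
  obtain ⟨k, hk⟩ := isConj_iff.mp D.Z_uu.symm
  set K := (Ks : Subgroup (W 4)).map D.ι
  set H := Subgroup.centralizer ({D.ι uu} : Set G)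
  have hKH : K ≤ H := by
    rintro _ ⟨v, hv, rfl⟩
    exact Subgroup.mem_centralizer_singleton_iff.mpr ((show Commute v uu from (Ks_comm v hv).1).map D.ι).eq
  have hR : (D.S : Subgroup G).map (MulAut.conj k).toMonoidHom ≤ H := by
    rintro _ ⟨s, hs, rfl⟩
    refine Subgroup.mem_centralizer_singleton_iff.mpr ?_
    rw [← hk]
    exact ((D.central s hs).map (MulAut.conj k).toMonoidHom).eq
  have hcS : Nat.card ((D.S : Subgroup G).map (MulAut.conj k).toMonoidHom) = 64 := by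
    rw [Subgroup.card_map_of_injective (MulAut.conj k).injective, ← D.range_eq,
      ← Nat.card_congr (MonoidHom.ofInjective D.inj).toEquiv, card_W]
    norm_num
  obtain ⟨P, hP, hPH, hKP, hlt, hnorm⟩ := CfsgLib.G2Cent.grow (D.isPGroup_map Ks) hKH (D.S.2.map _) hR
    (by rw [D.card_map, card_Ks, hcS]; norm_num)
  rw [D.card_map, card_Ks] at hlt
  obtain ⟨y, hy, hyz⟩ : ∃ y ∈ P, ¬ Commute y (D.ι zz) := by
    by_contra hall
    push Not at hall
    have := D.bound_uu hP hall fun p hp => Subgroup.mem_centralizer_singleton_iff.mp (hPH hp)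
    omega
  have hyN : D.Norm y := fun v hv => by
    obtain ⟨w, hw, e⟩ := hnorm y hy (D.ι v) ⟨v, hv, rfl⟩
    exact ⟨w, hw, e⟩
  have hyu : y * D.ι uu * y⁻¹ = D.ι uu := by
    rw [Subgroup.mem_centralizer_singleton_iff.mp (hPH hy), mul_inv_cancel_right]
  -- the image of the central involution
  obtain ⟨w, hw, ew⟩ := hyN zz rfl
  have hwv : w = vv := by
    have h2 : w * w = 1 := D.inj (by
      rw [map_mul, ew, map_one, show y * D.ι zz * y⁻¹ * (y * D.ι zz * y⁻¹) = y * (D.ι zz * D.ι zz) * y⁻¹ by group,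
        ← map_mul, zz_sq, map_one]
      group)
    have hcm : ∀ v : W 4, v.s = false → v * w = w * v := by
      intro v hv
      obtain ⟨v', hv', e'⟩ : ∃ v', v'.s = false ∧ y * D.ι v' * y⁻¹ = D.ι v := by
        have : D.ι v ∈ K := ⟨v, hv, rfl⟩
        have h' := (Subgroup.mem_normalizer_iff.mp (D.norm_iff.mp hyN) (y⁻¹ * D.ι v * y)).mpr (by
          rwa [show y * (y⁻¹ * D.ι v * y) * y⁻¹ = D.ι v by group])
        obtain ⟨v', hv', e'⟩ := D.mem_Ks_map.mp h'
        exact ⟨v', hv', by rw [e']; group⟩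
      refine D.inj ?_
      rw [map_mul, map_mul, ← e', ew]
      exact ((D.comm_zz v').map (MulAut.conj y).toMonoidHom).eq
    rcases center_Ks w hw h2 hcm with h1 | h1 | h1 | h1
    · rw [h1, map_one] at ew
      exact absurd (D.inj ((conj_eq_one_iff.mp ew.symm).trans (map_one D.ι).symm)) zz_ne
    · refine absurd ?_ hyz
      rw [h1] at ew
      exact (mul_inv_eq_iff_eq_mul.mp ew.symm : y * D.ι zz = D.ι zz * y)
    · rw [h1, ← hyu] at ew
      exact absurd (D.inj (mul_left_cancel (mul_right_cancel ew))) uu_ne_zz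
    · exact h1
  rw [hwv] at ew
  set x := y * D.ι swp with hx
  obtain ⟨s1, s2, s3⟩ := swp_uu
  have conj_mul : ∀ v v' : W 4, swp * v * swp⁻¹ = v' → x * D.ι v * x⁻¹ = y * D.ι v' * y⁻¹ := fun v v' e => by
    rw [← e, map_mul, map_mul, map_inv, hx]; group
  have xz : x * D.ι zz * x⁻¹ = D.ι vv := by rw [conj_mul zz zz s3, ← ew]
  have xv : x * D.ι vv * x⁻¹ = D.ι uu := by rw [conj_mul vv uu s2, hyu]
  have xu : x * D.ι uu * x⁻¹ = D.ι zz := by
    rw [conj_mul uu vv s1, D.vv_eq, show y * (D.ι uu * D.ι zz) * y⁻¹ = y * D.ι uu * y⁻¹ * (y * D.ι zz * y⁻¹) by group,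
      hyu, ← ew, ← map_mul]
    rfl
  have hxN : D.Norm x := D.norm_mul hyN D.norm_swp
  obtain ⟨a, b, c, ha, hb, hc, h1, h2, h3, h4, himg⟩ := D.images hxN (p := zz) (q := uu) xu xv
  have hact : ∀ v : W 4, v.s = false → v.e = true → ∃ w : W 4, w.s = false ∧ w.e = true ∧
      x * D.ι v * x⁻¹ = D.ι w ∧ pr w = ((pr v).1 + (pr v).2 + (pr c).1, (pr v).1 + (pr c).2) := by
    intro v hv he
    obtain ⟨w, hw, e⟩ := hxN v hv
    have hwe : w = img a b c v := D.inj (e.trans (himg v hv))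
    have := img_cyc a ha h1 b hb h2 c hc h3 h4 v hv he
    exact ⟨w, hw, hwe ▸ this.1, e.symm, hwe ▸ this.2⟩
  -- the exchange forces the second coordinate
  set n := D.ι swp * x * D.ι swp * x with hn
  have hnN : D.Norm n := D.norm_mul (D.norm_mul (D.norm_mul D.norm_swp hxN) D.norm_swp) hxN
  have step : ∀ (p q : W 4), x * D.ι p * x⁻¹ = D.ι q → D.ι swp * x * D.ι p * (D.ι swp * x)⁻¹ =
      D.ι (swp * q * swp⁻¹) := fun p q e => by rw [map_mul, map_mul, map_inv, ← e]; group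
  have hnz : Commute n (D.ι zz) := by
    refine (mul_inv_eq_iff_eq_mul.mp ?_ : n * D.ι zz = D.ι zz * n)
    rw [show n * D.ι zz * n⁻¹ = D.ι swp * x * (D.ι swp * x * D.ι zz * (D.ι swp * x)⁻¹) * (D.ι swp * x)⁻¹ by
      rw [hn]; group, step _ _ xz, s2, step _ _ xu, s3]
  have hnu : Commute n (D.ι uu) := by
    refine (mul_inv_eq_iff_eq_mul.mp ?_ : n * D.ι uu = D.ι uu * n)
    rw [show n * D.ι uu * n⁻¹ = D.ι swp * x * (D.ι swp * x * D.ι uu * (D.ι swp * x)⁻¹) * (D.ι swp * x)⁻¹ by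
      rw [hn]; group, step _ _ xu, s3, step _ _ xz, s2]
  obtain ⟨w1, hw1, he1, e1, p1⟩ := hact r0 rfl rfl
  have sw : ∀ v : W 4, v.s = false → v.e = true →
      (swp * v * swp⁻¹).s = false ∧ (swp * v * swp⁻¹).e = true ∧ pr (swp * v * swp⁻¹) = ((pr v).2, (pr v).1) := by
    decide +kernel
  obtain ⟨hs', he', p2⟩ := sw w1 hw1 he1
  obtain ⟨w3, hw3, he3, e3, p3⟩ := hact _ hs' he'
  obtain ⟨-, -, p4⟩ := sw w3 hw3 he3
  have hpar := D.fix_parity hnN hnz hnu (v := r0) (w := swp * w3 * swp⁻¹) rfl rfl (by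
    rw [show n * D.ι r0 * n⁻¹ = D.ι swp * x * (D.ι swp * x * D.ι r0 * (D.ι swp * x)⁻¹) * (D.ι swp * x)⁻¹ by
      rw [hn]; group, step _ _ e1, step _ _ e3])
  have hj : (pr c).2 = 0 := by
    have h := hpar.2
    rw [p4, p3, p2, p1] at h
    exact swap_twice (pr c) h
  by_cases hi : (pr c).1 = 0
  · refine ⟨{ D with x := x, norm := hxN, xz := xz, xv := xv, xu := xu, act := fun v hv he => ?_ }⟩
    obtain ⟨w, hw, hwe, e, p⟩ := hact v hv he
    exact ⟨w, hw, hwe, e, by rw [p, hi, hj, add_zero, add_zero]⟩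
  · have hi1 : (pr c).1 = 1 := zmod_two_ne _ hi
    obtain ⟨hsi, hsz, hsu, hsv, hswp, hsall⟩ := shift_facts
    let D' : Amb G :=
      { hG := D.hG
        S := D.S
        ι := D.ι.comp shift
        inj := D.inj.comp hsi
        range_eq := by
          rw [MonoidHom.range_comp, MonoidHom.range_eq_top.mpr ((Finite.injective_iff_surjective).mp hsi),
            ← MonoidHom.range_eq_map, D.range_eq]
        two := by simpa [hswp, hsz] using D.two }
    have back : ∀ w : W 4, w.s = false → ∃ v : W 4, v.s = false ∧ shift v = w := fun w hw => by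
      obtain ⟨v, rfl⟩ := (Finite.injective_iff_surjective).mp hsi w
      exact ⟨v, (hsall v).1 ▸ hw, rfl⟩
    refine ⟨{ D' with
      x := x
      norm := fun v hv => ?_
      xz := by show x * D.ι (shift zz) * x⁻¹ = D.ι (shift vv); rw [hsz, hsv]; exact xz
      xv := by show x * D.ι (shift vv) * x⁻¹ = D.ι (shift uu); rw [hsv, hsu]; exact xv
      xu := by show x * D.ι (shift uu) * x⁻¹ = D.ι (shift zz); rw [hsu, hsz]; exact xu
      act := fun v hv he => ?_ }⟩
    · obtain ⟨w, hw, e⟩ := hxN (shift v) ((hsall v).1.trans hv)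
      obtain ⟨v', hv', rfl⟩ := back w hw
      exact ⟨v', hv', e⟩
    · obtain ⟨w, hw, hwe, e, p⟩ := hact (shift v) ((hsall v).1.trans hv) ((hsall v).2.1.trans he)
      obtain ⟨v', hv', rfl⟩ := back w hw
      have hve : v'.e = true := (hsall v').2.1 ▸ hwe
      refine ⟨v', hv', hve, e, ?_⟩
      rw [(hsall v').2.2 hve, (hsall v).2.2 he, hi1, hj] at p
      exact shift_eq _ _ p

end CfsgLib.M12Sylow
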