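/-
The classes of the involutions of the model and their fusion in the centraliser of the central involution.
-/
import Cfsg.Agent.Lib.M12Sylow.Frame

set_option autoImplicit false
set_option maxRecDepth 100000
set_option linter.unusedSectionVars false
set_option linter.style.haveILetI false

namespace CfsgLib.M12Sylow

open CfsgLib.G2Sylow

universe u

/-- The subgroup where both flags agree. -/
def Kx : Subgroup (W 4) where
  carrier := {w | w.e = w.s}
  mul_mem' := by intro a b ha hb; simp_all [mul_def]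
  one_mem' := rfl
  inv_mem' := by intro a ha; simp_all [inv_def]

theorem mem_Kx {w : W 4} : w ∈ Kx ↔ w.e = w.s := Iff.rfl

theorem index_Kx : Kx.index = 2 := by
  refine Subgroup.index_eq_two_iff.mpr ⟨swp, fun b => ?_⟩
  cases h : b.e <;> cases h' : b.s <;> simp [mem_Kx, mul_def, swp, h, h']

/-- Conjugate in the model. -/
def WConj (v w : W 4) : Prop := ∃ c : W 4, c * v * c⁻¹ = w

instance (v w : W 4) : Decidable (WConj v w) := by unfold WConj; infer_instance

theorem invol_Ke : ∀ v : W 4, v.e = false → v * v = 1 → v ≠ 1 →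
    v = zz ∨ v = uu ∨ v = vv ∨ WConj v swp := by decide +kernel

theorem invol_Kx : ∀ v : W 4, v.e = v.s → v * v = 1 → v ≠ 1 →
    v = zz ∨ v = uu ∨ v = vv ∨ WConj v swr := by decide +kernel

theorem invol_Ks : ∀ v : W 4, v.s = false → v * v = 1 → v ≠ 1 →
    v = zz ∨ v = uu ∨ v = vv ∨ WConj v r0 ∨ WConj v r1 ∨ WConj v tt := by decide +kernel

theorem refl_rep : ∀ w : W 4, w.s = false → w.e = true →
    (pr w = (0, 0) → WConj w r0) ∧ (pr w = (1, 1) → WConj w r1) ∧
    (pr w = (1, 0) → WConj w tt) ∧ (pr w = (0, 1) → WConj w tt) := by decide +kernel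

/-- The four representatives. -/
def reps4 : List (W 4) := [r0, r1, swp, swr]

theorem rep_facts : ∀ r ∈ reps4, r * r = 1 ∧ r ≠ 1 ∧ cw r = 16 ∧ r ≠ zz ∧
    (∃ a b : W 4, a * r = r * a ∧ b * r = r * b ∧ a * b * a⁻¹ * b⁻¹ = zz) := by decide +kernel

theorem rep_commutators : ∀ r ∈ reps4, ∀ a : W 4, a * r = r * a → ∀ b : W 4, b * r = r * b →
    a * b * a⁻¹ * b⁻¹ = 1 ∨ a * b * a⁻¹ * b⁻¹ = zz := by decide +kernel

theorem refl_pair : ∀ r ∈ [r0, r1], swp * r = r * swp ∧ uu * r = r * uu := by decide +kernel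

theorem swp_uu_comm : swp * uu * swp⁻¹ * uu⁻¹ = zz := by decide

variable {G : Type u} [Group G] [Finite G]

namespace Fr

variable (D : Fr G)

theorem not_Z_swp : ¬ D.Z swp := D.two

theorem Z_of_WConj {v w : W 4} (h : WConj v w) : D.Z v ↔ D.Z w := h.elim fun c e => D.Z_conj c e

theorem Z_r1_iff : D.Z r1 ↔ D.Z tt := by
  obtain ⟨w, hw, hwe, e, hp⟩ := D.act r1 rfl rfl
  have h2 : IsConj (D.ι r1) (D.ι w) := isConj_iff.mpr ⟨D.x, e⟩
  rw [← D.Z_of_WConj ((refl_rep w hw hwe).2.2.2 (hp.trans (by decide)))]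
  exact ⟨fun h => h2.symm.trans h, fun h => h2.trans h⟩

/-- Transfer. -/
theorem transfer {Q : Subgroup (W 4)} (hQ : Q.index = 2) {w : W 4} (hw : w * w = 1) (hw1 : w ∉ Q) :
    ∃ v ∈ Q, v * v = 1 ∧ v ≠ 1 ∧ IsConj (D.ι w) (D.ι v) := by
  haveI := D.hG
  exact CfsgLib.G2Sylow.transfer (h := 2) (by norm_num) le_rfl D.S D.ι D.inj D.range_eq hQ hw hw1

theorem Z_or_conj_swp {w : W 4} (hw : w * w = 1) (hwe : w.e = true) : D.Z w ∨ IsConj (D.ι w) (D.ι swp) := by
  obtain ⟨v, hv, hv2, hv1, h⟩ := D.transfer index_Ke hw (fun h => by rw [mem_Ke, hwe] at h; cases h)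
  rcases invol_Ke v hv hv2 hv1 with rfl | rfl | rfl | hc
  · exact Or.inl h
  · exact Or.inl (h.trans D.Z_uu)
  · exact Or.inl (h.trans D.Z_vv)
  · obtain ⟨c, hc⟩ := hc
    exact Or.inr (h.trans (isConj_iff.mpr ⟨D.ι c, by rw [← map_inv, ← map_mul, ← map_mul, hc]⟩))

theorem not_Z_both : ¬ (D.Z r0 ∧ D.Z r1) := by
  rintro ⟨h0, h1⟩
  obtain ⟨v, hv, hv2, hv1, h⟩ := D.transfer index_Ks (w := swp) (by decide) (fun h => by simp [mem_Ks, swp] at h)
  refine D.not_Z_swp (IsConj.trans h ?_)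
  rcases invol_Ks v hv hv2 hv1 with rfl | rfl | rfl | hc | hc | hc
  · exact IsConj.refl _
  · exact D.Z_uu
  · exact D.Z_vv
  · exact (D.Z_of_WConj hc).mpr h0
  · exact (D.Z_of_WConj hc).mpr h1
  · exact (D.Z_of_WConj hc).mpr (D.Z_r1_iff.mp h1)

theorem not_Z_swr : ¬ D.Z swr := by
  intro hz
  have key : ∀ w : W 4, w * w = 1 → w.e = true → w.s = false → D.Z w := by
    intro w hw hwe hws
    obtain ⟨v, hv, hv2, hv1, h⟩ := D.transfer index_Kx hw (fun h => by rw [mem_Kx, hwe, hws] at h; cases h)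
    refine IsConj.trans h ?_
    rcases invol_Kx v hv hv2 hv1 with rfl | rfl | rfl | hc
    · exact IsConj.refl _
    · exact D.Z_uu
    · exact D.Z_vv
    · exact (D.Z_of_WConj hc).mpr hz
  exact D.not_Z_both ⟨key r0 (by decide) rfl rfl, key r1 (by decide) rfl rfl⟩

/-- A conjugate of the central involution among the reflections moves to a rotation inside the centraliser. -/
theorem step_Z {r : W 4} (hr : r ∈ [r0, r1]) (hZ : D.Z r) :
    ∃ g : G, Commute g (D.ι zz) ∧ g * D.ι r * g⁻¹ = D.ι uu := by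
  obtain ⟨g, hg⟩ := isConj_iff.mp hZ
  obtain ⟨hs, hu⟩ := refl_pair r hr
  set T := (Subgroup.centralizer ({r} : Set (W 4))).map D.ι
  obtain ⟨c, hc, hmem⟩ := D.move (P := T.map (MulAut.conj g).toMonoidHom) ((D.isPGroup_map _).map _) (by
    rintro _ ⟨_, ⟨v, hv, rfl⟩, rfl⟩
    rw [← hg]
    exact ((show Commute v r from Subgroup.mem_centralizer_singleton_iff.mp hv).map D.ι).map
      (MulAut.conj g).toMonoidHom)
  set k := c * g with hk
  have img : ∀ v : W 4, v * r = r * v → ∃ w, D.ι w = k * D.ι v * k⁻¹ := fun v hv => by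
    obtain ⟨w, hw⟩ := hmem _ ⟨_, ⟨v, Subgroup.mem_centralizer_singleton_iff.mpr hv, rfl⟩, rfl⟩
    exact ⟨w, hw.trans (by show c * (g * D.ι v * g⁻¹) * c⁻¹ = _; rw [hk]; group)⟩
  obtain ⟨a, ha⟩ := img swp hs
  obtain ⟨b, hb⟩ := img uu hu
  have hkr : k * D.ι r * k⁻¹ = D.ι zz := by
    rw [hk, show c * g * D.ι r * (c * g)⁻¹ = c * (g * D.ι r * g⁻¹) * c⁻¹ by group, hg, hc.eq, mul_inv_cancel_right]
  obtain ⟨p, hp⟩ : ∃ p, p = a * b * a⁻¹ * b⁻¹ := ⟨_, rfl⟩
  have hpz : D.ι p = k * D.ι zz * k⁻¹ := by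
    rw [hp, map_mul, map_mul, map_mul, map_inv, map_inv, ha, hb, ← swp_uu_comm, map_mul, map_mul, map_mul,
      map_inv, map_inv]
    group
  have hflag := commutator_flags a b
  rw [← hp] at hflag
  have hp2 : p * p = 1 := D.inj (by
    rw [map_mul, hpz, map_one, show k * D.ι zz * k⁻¹ * (k * D.ι zz * k⁻¹) = k * (D.ι zz * D.ι zz) * k⁻¹ by group,
      ← map_mul, zz_sq, map_one]
    group)
  have hrot : ∀ p : W 4, p.e = false → p.s = false → p * p = 1 → p = 1 ∨ p = zz ∨ p = uu ∨ p = vv := by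
    decide +kernel
  have hne : r ≠ zz := by
    simp only [List.mem_cons, List.not_mem_nil, or_false] at hr
    rcases hr with rfl | rfl <;> decide
  -- it suffices to reach one of the two rotations
  suffices hk' : ∃ k' : G, k' * D.ι zz * k'⁻¹ = D.ι uu ∧ k' * D.ι r * k'⁻¹ = D.ι zz by
    obtain ⟨k', e1, e2⟩ := hk'
    refine ⟨D.ι swp * D.x * k', ?_, ?_⟩
    · show D.ι swp * D.x * k' * D.ι zz = D.ι zz * (D.ι swp * D.x * k')
      rw [← mul_inv_eq_iff_eq_mul, show D.ι swp * D.x * k' * D.ι zz * (D.ι swp * D.x * k')⁻¹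
        = D.ι swp * (D.x * (k' * D.ι zz * k'⁻¹) * D.x⁻¹) * (D.ι swp)⁻¹ by group, e1, D.xu,
        ← map_inv, ← map_mul, ← map_mul, swp_uu.2.2]
    · rw [show D.ι swp * D.x * k' * D.ι r * (D.ι swp * D.x * k')⁻¹
        = D.ι swp * (D.x * (k' * D.ι r * k'⁻¹) * D.x⁻¹) * (D.ι swp)⁻¹ by group, e2, D.xz,
        ← map_inv, ← map_mul, ← map_mul, swp_uu.2.1]
  rcases hrot p hflag.1 hflag.2 hp2 with h1 | h1 | h1 | h1 <;> rw [h1] at hpz
  · rw [map_one] at hpz
    exact absurd (D.inj ((conj_eq_one_iff.mp hpz.symm).trans (map_one D.ι).symm)) zz_ne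
  · exact absurd (D.inj (mul_left_cancel (mul_right_cancel (hkr.trans hpz)))) hne
  · exact ⟨k, hpz.symm, hkr⟩
  · refine ⟨D.ι swp * k, ?_, ?_⟩
    · rw [show D.ι swp * k * D.ι zz * (D.ι swp * k)⁻¹ = D.ι swp * (k * D.ι zz * k⁻¹) * (D.ι swp)⁻¹ by group, ← hpz,
        ← map_inv, ← map_mul, ← map_mul, swp_uu.2.1]
    · rw [show D.ι swp * k * D.ι r * (D.ι swp * k)⁻¹ = D.ι swp * (k * D.ι r * k⁻¹) * (D.ι swp)⁻¹ by group, hkr,
        ← map_inv, ← map_mul, ← map_mul, swp_uu.2.2]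

/-- The centralisers of the other class have Sylow subgroups of order sixteen. -/
theorem bound_s {r : W 4} (hr : r ∈ reps4) (hS : ¬ D.Z r) {P : Subgroup G} (hP : IsPGroup 2 P)
    (hc : P ≤ Subgroup.centralizer {D.ι r}) : Nat.card P ≤ 16 := by
  obtain ⟨hr2, hr1, hcard, hrz, a, b, ha, hb, hab⟩ := rep_facts r hr
  by_contra hlt
  set T := (Subgroup.centralizer ({r} : Set (W 4))).map D.ι
  have hTc : T ≤ Subgroup.centralizer {D.ι r} := by
    rintro _ ⟨v, hv, rfl⟩
    exact Subgroup.mem_centralizer_singleton_iff.mpr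
      ((show Commute v r from Subgroup.mem_centralizer_singleton_iff.mp hv).map D.ι).eq
  have hT16 : Nat.card T = 16 := by rw [D.card_map, card_cw, hcard]
  obtain ⟨Q, hQ, hQc, hTQ, hlt', hnorm⟩ := CfsgLib.G2Cent.grow (D.isPGroup_map _) hTc hP hc
    (by rw [hT16]; omega)
  have hQz : ∀ y ∈ Q, Commute y (D.ι zz) := by
    intro y hy
    obtain ⟨a', ha', ea⟩ := hnorm y hy (D.ι a) ⟨a, Subgroup.mem_centralizer_singleton_iff.mpr ha, rfl⟩
    obtain ⟨b', hb', eb⟩ := hnorm y hy (D.ι b) ⟨b, Subgroup.mem_centralizer_singleton_iff.mpr hb, rfl⟩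
    have ev : D.ι (a' * b' * a'⁻¹ * b'⁻¹) = y * D.ι zz * y⁻¹ := by
      rw [← hab, map_mul, map_mul, map_mul, map_inv, map_inv, ea, eb, map_mul, map_mul, map_mul, map_inv, map_inv]
      group
    rcases rep_commutators r hr a' (Subgroup.mem_centralizer_singleton_iff.mp ha') b'
      (Subgroup.mem_centralizer_singleton_iff.mp hb') with e | e
    · rw [e, map_one] at ev
      exact absurd (D.inj ((conj_eq_one_iff.mp ev.symm).trans (map_one D.ι).symm)) zz_ne
    · rw [e] at ev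
      exact (mul_inv_eq_iff_eq_mul.mp ev.symm : y * D.ι zz = D.ι zz * y)
  obtain ⟨c, w, hcz, hw, hw2, hle⟩ := D.cent_big hQ hQz
    (hTQ ⟨r, Subgroup.mem_centralizer_singleton_iff.mpr rfl, rfl⟩)
    (by rw [← map_mul, hr2, map_one]) (fun y hy => Subgroup.mem_centralizer_singleton_iff.mp (hQc hy))
  have hrw : IsConj (D.ι r) (D.ι w) := isConj_iff.mpr ⟨c, hw.symm⟩
  rw [hT16] at hlt'
  rcases large_cent w hw2 (by omega) with rfl | rfl | rfl | rfl
  · rw [map_one] at hw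
    exact hr1 (D.inj ((conj_eq_one_iff.mp hw.symm).trans (map_one D.ι).symm))
  · exact hS hrw
  · exact hS (hrw.trans D.Z_uu)
  · exact hS (hrw.trans D.Z_vv)

/-- The representatives of the other class are fused inside the centraliser. -/
theorem step_S {r r' : W 4} (hr : r ∈ reps4) (hr' : r' ∈ reps4) (hS : ¬ D.Z r) (hS' : ¬ D.Z r') :
    ∃ g : G, Commute g (D.ι zz) ∧ g * D.ι r * g⁻¹ = D.ι r' := by
  obtain ⟨hr2, hr1, hcard, -, a, b, ha, hb, hab⟩ := rep_facts r hr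
  obtain ⟨hr2', hr1', hcard', -⟩ := rep_facts r' hr'
  obtain ⟨g, hg⟩ := isConj_iff.mp ((D.not_Z hr2 hr1 hS).trans (D.not_Z hr2' hr1' hS').symm)
  set T := ((Subgroup.centralizer ({r} : Set (W 4))).map D.ι).map (MulAut.conj g).toMonoidHom
  set T' := (Subgroup.centralizer ({r'} : Set (W 4))).map D.ι
  have hT : T ≤ Subgroup.centralizer {D.ι r'} := by
    rintro _ ⟨_, ⟨v, hv, rfl⟩, rfl⟩
    refine Subgroup.mem_centralizer_singleton_iff.mpr ?_
    rw [← hg]
    exact (((show Commute v r from Subgroup.mem_centralizer_singleton_iff.mp hv).map D.ι).map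
      (MulAut.conj g).toMonoidHom).eq
  have hT' : T' ≤ Subgroup.centralizer {D.ι r'} := by
    rintro _ ⟨v, hv, rfl⟩
    exact Subgroup.mem_centralizer_singleton_iff.mpr
      ((show Commute v r' from Subgroup.mem_centralizer_singleton_iff.mp hv).map D.ι).eq
  obtain ⟨h, hh, heq⟩ := conj_of_max (n := 16) ((D.isPGroup_map _).map _) (D.isPGroup_map _) hT hT'
    (by rw [Subgroup.card_map_of_injective (MulAut.conj g).injective, D.card_map, card_cw, hcard])
    (by rw [D.card_map, card_cw, hcard']) (fun R hR hle => D.bound_s hr' hS' hR hle)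
  have img : ∀ v : W 4, v * r = r * v → ∃ w, w * r' = r' * w ∧ D.ι w = h * g * D.ι v * (h * g)⁻¹ := fun v hv => by
    obtain ⟨w, hw, e⟩ : h * (g * D.ι v * g⁻¹) * h⁻¹ ∈ T' := by
      rw [show T' = _ from heq.symm]
      exact ⟨_, ⟨_, ⟨v, Subgroup.mem_centralizer_singleton_iff.mpr hv, rfl⟩, rfl⟩, rfl⟩
    exact ⟨w, Subgroup.mem_centralizer_singleton_iff.mp hw, e.trans (by group)⟩
  obtain ⟨a', ha', ea⟩ := img a ha
  obtain ⟨b', hb', eb⟩ := img b hb
  refine ⟨h * g, ?_, ?_⟩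
  · have ev : D.ι (a' * b' * a'⁻¹ * b'⁻¹) = h * g * D.ι zz * (h * g)⁻¹ := by
      rw [← hab, map_mul, map_mul, map_mul, map_inv, map_inv, ea, eb, map_mul, map_mul, map_mul, map_inv, map_inv]
      group
    rcases rep_commutators r' hr' a' ha' b' hb' with e | e
    · rw [e, map_one] at ev
      exact absurd (D.inj ((conj_eq_one_iff.mp ev.symm).trans (map_one D.ι).symm)) zz_ne
    · rw [e] at ev
      exact (mul_inv_eq_iff_eq_mul.mp ev.symm : h * g * D.ι zz = D.ι zz * (h * g))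
  · rw [show h * g * D.ι r * (h * g)⁻¹ = h * (g * D.ι r * g⁻¹) * h⁻¹ by group, hg,
      Subgroup.mem_centralizer_singleton_iff.mp hh, mul_inv_cancel_right]

end Fr

end CfsgLib.M12Sylow
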