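/-
Even parity is preserved by the centraliser of the central involution, which therefore has a subgroup of index two.
-/
import Cfsg.Agent.Lib.M12Sylow.Fusion
import Mathlib.GroupTheory.Focal

set_option autoImplicit false
set_option maxRecDepth 100000
set_option linter.unusedSectionVars false
set_option linter.style.haveILetI false

namespace CfsgLib.M12Sylow

open CfsgLib.G2Sylow
open scoped commutatorElement

universe u

/-- Even parity. -/
def Ev (w : W 4) : Prop := (w.i.val + w.j.val) % 2 = 0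

instance (w : W 4) : Decidable (Ev w) := by unfold Ev; infer_instance

theorem ev_cent : ∀ w : W 4, Ev w → w * w = 1 → w ≠ 1 → 16 ≤ cw w := by decide +kernel

theorem cw_tt : cw tt = 8 := by decide +kernel

theorem et_mem : ∀ w : W 4, w * tt = tt * w → w.s = false := by decide +kernel

theorem et_swap : ∀ w : W 4, w * tt = tt * w → (swp * w * swp⁻¹).e = true →
    pr (swp * w * swp⁻¹) = pr tt → False := by decide +kernel

theorem et_cent : ∀ w : W 4, w * tt = tt * w →
    8 < (Finset.univ.filter fun v : W 4 => v.s = false ∧ v * w = w * v).card →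
    w = 1 ∨ w = zz ∨ w = uu ∨ w = vv := by decide +kernel

theorem qq_facts : (rot 1 1 : W 4) * tt * (rot 1 1)⁻¹ = tt * zz ∧ (rot 1 1 : W 4).s = false := by decide

theorem Ks_et : ∀ v w : W 4, v.s = false → w * tt = tt * w →
    v * w * v⁻¹ * tt = tt * (v * w * v⁻¹) := by decide +kernel

theorem odd_sq : ∀ w : W 4, ¬ Ev w → (w * w = 1 ∨ w * w = zz) → w * w = 1 ∧ w ≠ 1 ∧ WConj w tt := by decide +kernel

theorem ev_sq : ∀ v : W 4, Ev v → v * v = 1 ∨ v * v = zz := by decide +kernel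

theorem ev_zz : Ev zz := by decide

/-- The parity. -/
def parHom : W 4 →* Multiplicative (ZMod 2) :=
  MonoidHom.mk' (fun w => Multiplicative.ofAdd (((w.i.val + w.j.val : ℕ)) : ZMod 2)) (by decide +kernel)

theorem mz_mul : ∀ a b : Multiplicative (ZMod 2), (a = 1 ↔ b = 1) → a * b = 1 := by decide +kernel

theorem mz_sq : ∀ a : Multiplicative (ZMod 2), a ^ 2 = 1 := by decide +kernel

theorem mz_cases : ∀ a : Multiplicative (ZMod 2), a = 1 ∨ a = parHom tt := by decide +kernel

theorem parHom_iff : ∀ w : W 4, parHom w = 1 ↔ Ev w := by decide +kernel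

variable {G : Type u} [Group G] [Finite G]

/-- A 2-subgroup of `H` moves into one of largest possible order inside `H`. -/
theorem into_max {H P Q : Subgroup G} {n : ℕ} (hP : IsPGroup 2 P) (hQ : IsPGroup 2 Q) (hPH : P ≤ H)
    (hQH : Q ≤ H) (hcQ : Nat.card Q = n)
    (hmax : ∀ R : Subgroup G, IsPGroup 2 R → R ≤ H → Nat.card R ≤ n) :
    (∃ h ∈ H, ∀ p ∈ P, h * p * h⁻¹ ∈ Q) ∧ ¬ 2 ∣ Q.relIndex H := by
  haveI : Fact (Nat.Prime 2) := ⟨Nat.prime_two⟩
  obtain ⟨R, hR⟩ := (hQ.of_equiv (Subgroup.subgroupOfEquivOfLe hQH).symm).exists_le_sylow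
  have heq : Q.subgroupOf H = (R : Subgroup H) := by
    refine Subgroup.eq_of_le_of_card_ge hR ?_
    rw [Nat.card_congr (Subgroup.subgroupOfEquivOfLe hQH).toEquiv, hcQ]
    have h := hmax _ (R.2.map H.subtype) (Subgroup.map_subtype_le _)
    rwa [Subgroup.card_map_of_injective H.subtype_injective] at h
  obtain ⟨h, hh⟩ := CfsgLib.G2Cent.into R (hP.of_equiv (Subgroup.subgroupOfEquivOfLe hPH).symm)
  refine ⟨⟨h, h.2, fun p hp => ?_⟩, ?_⟩
  · have h1 := hh ⟨p, hPH hp⟩ (Subgroup.mem_subgroupOf.mpr hp)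
    rw [← heq] at h1
    exact Subgroup.mem_subgroupOf.mp h1
  · rw [Subgroup.relIndex, heq]
    exact R.not_dvd_index

theorem mem_normalizer_of_map_le {T : Subgroup G} {y : G} (h : ∀ a ∈ T, y * a * y⁻¹ ∈ T) :
    y ∈ Subgroup.normalizer (T : Set G) := by
  have hle : T.map (MulAut.conj y).toMonoidHom ≤ T := by
    rintro _ ⟨a, ha, rfl⟩
    exact h a ha
  have heq := Subgroup.eq_of_le_of_card_ge hle
    (le_of_eq (Nat.card_congr (Subgroup.equivMapOfInjective T _ (MulAut.conj y).injective).toEquiv))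
  rw [Subgroup.mem_normalizer_iff]
  refine fun a => ⟨h a, fun ha => ?_⟩
  rw [← heq] at ha
  obtain ⟨a', ha', e⟩ := ha
  exact (MulAut.conj y).injective e ▸ ha'

namespace Fr

variable (D : Fr G)

/-- The reflection of odd parity has no conjugate of even parity in the centraliser. -/
theorem no_conj {g : G} (hg : Commute g (D.ι zz)) {w : W 4} (hw : Ev w) :
    g * D.ι tt * g⁻¹ ≠ D.ι w := by
  classical
  intro e
  have hw2 : w * w = 1 := D.inj (by
    rw [map_mul, ← e, map_one, show g * D.ι tt * g⁻¹ * (g * D.ι tt * g⁻¹) = g * (D.ι tt * D.ι tt) * g⁻¹ by group,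
      ← map_mul, show tt * tt = 1 by decide, map_one]
    group)
  have hw1 : w ≠ 1 := fun h => by
    rw [h, map_one] at e
    exact absurd (D.inj ((conj_eq_one_iff.mp e).trans (map_one D.ι).symm)) (by decide)
  set T0 := (Subgroup.centralizer ({tt} : Set (W 4))).map D.ι with hT0
  have hT8 : Nat.card T0 = 8 := by rw [D.card_map, card_cw, cw_tt]
  set Q0 := ((Subgroup.centralizer ({w} : Set (W 4))).map D.ι).map (MulAut.conj g⁻¹).toMonoidHom
  set Cz := Subgroup.centralizer ({D.ι zz} : Set G)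
  set H := Cz ⊓ Subgroup.centralizer {D.ι tt}
  have hQH : Q0 ≤ H := by
    rintro _ ⟨_, ⟨v, hv, rfl⟩, rfl⟩
    refine ⟨Subgroup.mem_centralizer_singleton_iff.mpr ?_, Subgroup.mem_centralizer_singleton_iff.mpr ?_⟩
    · exact ((hg.inv_left.mul_left (D.comm_zz v)).mul_left hg.inv_left.inv_left).eq
    · have h1 := ((show Commute v w from Subgroup.mem_centralizer_singleton_iff.mp hv).map D.ι).map
        (MulAut.conj g⁻¹).toMonoidHom
      have e2 : (MulAut.conj g⁻¹).toMonoidHom (D.ι w) = D.ι tt := by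
        show g⁻¹ * D.ι w * g⁻¹⁻¹ = _
        rw [← e]; group
      rw [e2] at h1
      exact h1.eq
  have hT0H : T0 ≤ H := by
    rintro _ ⟨v, hv, rfl⟩
    exact ⟨Subgroup.mem_centralizer_singleton_iff.mpr (D.comm_zz v).eq, Subgroup.mem_centralizer_singleton_iff.mpr
      ((show Commute v tt from Subgroup.mem_centralizer_singleton_iff.mp hv).map D.ι).eq⟩
  have hQ16 : 16 ≤ Nat.card Q0 := by
    rw [Subgroup.card_map_of_injective (MulAut.conj g⁻¹).injective, D.card_map, card_cw]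
    exact ev_cent w hw hw2 hw1
  obtain ⟨P, hP, hPH, hTP, hlt, hnorm⟩ := CfsgLib.G2Cent.grow (D.isPGroup_map _) hT0H ((D.isPGroup_map _).map _) hQH
    (by rw [hT8]; exact lt_of_lt_of_le (by norm_num) hQ16)
  rw [hT8] at hlt
  -- the normaliser of the centraliser of the reflection
  set N := Cz ⊓ Subgroup.normalizer (T0 : Set G)
  set K := (Ks : Subgroup (W 4)).map D.ι
  have hKN : K ≤ N := by
    rintro _ ⟨v, hv, rfl⟩
    refine ⟨Subgroup.mem_centralizer_singleton_iff.mpr (D.comm_zz v).eq, mem_normalizer_of_map_le ?_⟩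
    rintro _ ⟨a, ha, rfl⟩
    exact ⟨v * a * v⁻¹, Subgroup.mem_centralizer_singleton_iff.mpr
      (Ks_et v a hv (Subgroup.mem_centralizer_singleton_iff.mp ha)), by simp⟩
  have hmax : ∀ R : Subgroup G, IsPGroup 2 R → R ≤ N → Nat.card R ≤ 32 := by
    intro R hR hRN
    by_contra hgt
    obtain ⟨R', hR', hR'N, -, hlt', hn'⟩ := CfsgLib.G2Cent.grow (D.isPGroup_map Ks) hKN hR hRN
      (by rw [D.card_map, card_Ks]; omega)
    rw [D.card_map, card_Ks] at hlt'
    have hz : ∀ p ∈ R', Commute p (D.ι zz) := fun p hp =>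
      Subgroup.mem_centralizer_singleton_iff.mp (hR'N hp).1
    obtain ⟨y, hy, hyu⟩ : ∃ y ∈ R', ¬ Commute y (D.ι uu) := by
      by_contra hall
      push Not at hall
      have := D.bound_uu hR' hz hall
      omega
    have hyN : D.Norm y := fun v hv => by
      obtain ⟨v', hv', ev⟩ := hn' y hy (D.ι v) ⟨v, hv, rfl⟩
      exact ⟨v', hv', ev⟩
    obtain ⟨q, hq, eq⟩ := hyN uu rfl
    have hq2 : q * q = 1 := D.inj (by
      rw [map_mul, eq, map_one, show y * D.ι uu * y⁻¹ * (y * D.ι uu * y⁻¹) = y * (D.ι uu * D.ι uu) * y⁻¹ by group,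
        ← map_mul, uu_sq, map_one]
      group)
    have hcm : ∀ v : W 4, v.s = false → v * q = q * v := by
      intro v hv
      have h' : y⁻¹ * D.ι v * y ∈ K :=
        (Subgroup.mem_normalizer_iff.mp (D.norm_iff.mp hyN) _).mpr (by
          rw [show y * (y⁻¹ * D.ι v * y) * y⁻¹ = D.ι v by group]; exact ⟨v, hv, rfl⟩)
      obtain ⟨v', hv', e'⟩ := D.mem_Ks_map.mp h'
      refine D.inj ?_
      rw [map_mul, map_mul, eq, show D.ι v = y * D.ι v' * y⁻¹ by rw [e']; group]
      exact (((show Commute v' uu from (Ks_comm v' hv').1).map D.ι).map (MulAut.conj y).toMonoidHom).eq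
    rcases center_Ks q hq hq2 hcm with rfl | rfl | rfl | rfl
    · rw [map_one] at eq
      exact uu_ne (D.inj ((conj_eq_one_iff.mp eq.symm).trans (map_one D.ι).symm))
    · refine uu_ne_zz (D.inj ?_)
      have h1 : y * D.ι uu * y⁻¹ = y * D.ι zz * y⁻¹ := by rw [← eq, (hz y hy).eq, mul_inv_cancel_right]
      exact mul_left_cancel (mul_right_cancel h1)
    · exact hyu (mul_inv_eq_iff_eq_mul.mp eq.symm)
    set n := D.ι swp * y with hn
    have hnN : D.Norm n := D.norm_mul D.norm_swp hyN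
    have hnz : Commute n (D.ι zz) := (D.comm_zz swp).mul_left (hz y hy)
    have hnu : Commute n (D.ι uu) := by
      refine (mul_inv_eq_iff_eq_mul.mp ?_ : n * D.ι uu = D.ι uu * n)
      rw [show n * D.ι uu * n⁻¹ = D.ι swp * (y * D.ι uu * y⁻¹) * (D.ι swp)⁻¹ by rw [hn]; group, ← eq,
        ← map_inv, ← map_mul, ← map_mul, swp_uu.2.1]
    obtain ⟨w0, hw0, ew0⟩ : y * D.ι tt * y⁻¹ ∈ T0 :=
      (Subgroup.mem_normalizer_iff.mp (hR'N hy).2 _).mp ⟨tt, Subgroup.mem_centralizer_singleton_iff.mpr rfl, rfl⟩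
    have h := D.fix_parity hnN hnz hnu (v := tt) (w := swp * w0 * swp⁻¹) rfl rfl (by
      rw [show n * D.ι tt * n⁻¹ = D.ι swp * (y * D.ι tt * y⁻¹) * (D.ι swp)⁻¹ by rw [hn]; group, ← ew0,
        map_mul, map_mul, map_inv])
    exact et_swap w0 (Subgroup.mem_centralizer_singleton_iff.mp hw0) h.1 h.2
  have hPN : P ≤ N := fun y hy => ⟨(hPH hy).1, mem_normalizer_of_map_le (hnorm y hy)⟩
  obtain ⟨⟨n, hnN, hconj⟩, hodd⟩ := into_max hP (D.isPGroup_map Ks) hPN hKN (by rw [D.card_map, card_Ks]) hmax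
  obtain ⟨w', hw', ew'⟩ := (Subgroup.mem_normalizer_iff.mp hnN.2 _).mp
    ⟨tt, Subgroup.mem_centralizer_singleton_iff.mpr rfl, rfl⟩
  have hcnt : 8 < (Finset.univ.filter fun v : W 4 => v.s = false ∧ v * w' = w' * v).card := by
    refine lt_of_lt_of_le hlt ?_
    have himg : ∀ p : P, ∃ v : W 4, (v.s = false ∧ v * w' = w' * v) ∧ D.ι v = n * p * n⁻¹ := fun p => by
      obtain ⟨v, hv, ev⟩ := hconj p p.2
      refine ⟨v, ⟨hv, D.inj ?_⟩, ev⟩
      rw [map_mul, map_mul, ev, ew']
      exact ((show Commute (p : G) (D.ι tt) from Subgroup.mem_centralizer_singleton_iff.mp (hPH p.2).2).map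
        (MulAut.conj n).toMonoidHom).eq
    choose f hf hfe using himg
    have := Fintype.ofFinite P
    rw [Nat.card_eq_fintype_card, ← Finset.card_univ]
    refine Finset.card_le_card_of_injOn f (fun p _ => by simpa using hf p) fun p _ q _ h => ?_
    have h' := congrArg D.ι h
    rw [hfe, hfe] at h'
    exact Subtype.ext (mul_left_cancel (mul_right_cancel h'))
  have hT : ∀ t ∈ K, Commute t (D.ι uu) ∧ Commute t (D.ι vv) := by
    rintro _ ⟨v, hv, rfl⟩
    exact ⟨(show Commute v uu from (Ks_comm v hv).1).map D.ι, (show Commute v vv from (Ks_comm v hv).2).map D.ι⟩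
  have hnz : Commute n (D.ι zz) := Subgroup.mem_centralizer_singleton_iff.mp hnN.1
  have hq : D.ι (rot 1 1) ∈ N := hKN ⟨_, qq_facts.2, rfl⟩
  have hmove : n * D.ι (rot 1 1) * n⁻¹ * D.ι w' * (n * D.ι (rot 1 1) * n⁻¹)⁻¹ = D.ι w' * D.ι zz := by
    rw [ew', show n * D.ι (rot 1 1) * n⁻¹ * (n * D.ι tt * n⁻¹) * (n * D.ι (rot 1 1) * n⁻¹)⁻¹
      = n * (D.ι (rot 1 1) * D.ι tt * (D.ι (rot 1 1))⁻¹) * n⁻¹ by group, ← map_inv, ← map_mul, ← map_mul,
      qq_facts.1, map_mul]
    calc n * (D.ι tt * D.ι zz) * n⁻¹ = n * D.ι tt * (D.ι zz * n⁻¹) := by group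
      _ = n * D.ι tt * (n⁻¹ * D.ι zz) := by rw [hnz.inv_left.eq]
      _ = _ := by group
  have hzN : ∀ a ∈ N, Commute a (D.ι zz) := fun a ha => Subgroup.mem_centralizer_singleton_iff.mp ha.1
  have hz2 : D.ι zz * D.ι zz = 1 := by rw [← map_mul, zz_sq, map_one]
  have hz1 : D.ι zz ≠ 1 := fun h => zz_ne (D.inj (h.trans (map_one D.ι).symm))
  rcases et_cent w' (Subgroup.mem_centralizer_singleton_iff.mp hw') hcnt with rfl | rfl | rfl | rfl
  · rw [map_one] at ew'
    exact absurd (D.inj ((conj_eq_one_iff.mp ew'.symm).trans (map_one D.ι).symm)) (by decide)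
  · rw [← mul_inv_cancel_right (D.ι zz) n, ← hnz.eq] at ew'
    exact absurd (D.inj (mul_left_cancel (mul_right_cancel ew'))) (by decide)
  · exact CfsgLib.G2Cent.odd_orbit hKN hodd hzN hz2 hz1 (fun t ht => (hT t ht).1)
      (mul_mem (mul_mem hnN hq) (inv_mem hnN)) hmove
  · exact CfsgLib.G2Cent.odd_orbit hKN hodd hzN hz2 hz1 (fun t ht => (hT t ht).2)
      (mul_mem (mul_mem hnN hq) (inv_mem hnN)) hmove

/-- Parity is preserved. -/
theorem parity {g : G} (hg : Commute g (D.ι zz)) {v w : W 4} (hv : Ev v) (e : g * D.ι v * g⁻¹ = D.ι w) : Ev w := by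
  by_contra hw
  have hgz : g * D.ι zz * g⁻¹ = D.ι zz := by rw [hg.eq, mul_inv_cancel_right]
  have hsq : g * D.ι (v * v) * g⁻¹ = D.ι (w * w) := by rw [map_mul, map_mul, ← e]; group
  have hw2 : w * w = 1 ∨ w * w = zz := by
    rcases ev_sq v hv with h | h <;> rw [h] at hsq
    · left; exact D.inj (hsq.symm.trans (by simp))
    · right; exact D.inj (hsq.symm.trans hgz)
  obtain ⟨hw2', hw1, c, hc⟩ := odd_sq w hw hw2
  have hcz : Commute (g⁻¹ * (D.ι c)⁻¹) (D.ι zz) := hg.inv_left.mul_left (D.comm_zz c).inv_left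
  refine D.no_conj hcz hv ?_
  rw [← hc, map_mul, map_mul, map_inv, ← e]
  group

/-- The subgroup of index two of the centraliser. -/
theorem exists_M : ∃ M : Subgroup G, M ≤ Subgroup.centralizer {D.ι zz} ∧
    (∀ g ∈ Subgroup.centralizer ({D.ι zz} : Set G), ∀ m ∈ M, g * m * g⁻¹ ∈ M) ∧
    M.relIndex (Subgroup.centralizer {D.ι zz}) = 2 ∧ ∀ w : W 4, D.ι w ∈ M ↔ Ev w := by
  classical
  haveI : Fact (Nat.Prime 2) := ⟨Nat.prime_two⟩
  set C := Subgroup.centralizer ({D.ι zz} : Set G)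
  set κ : W 4 →* C := D.ι.codRestrict C fun w => Subgroup.mem_centralizer_singleton_iff.mpr (D.comm_zz w).eq
  have hκ : Function.Injective κ := fun a b h => D.inj (congrArg Subtype.val h)
  set H := κ.range
  let e : W 4 ≃* H := MonoidHom.ofInjective hκ
  have hH : ∀ w, κ w ∈ H := fun w => ⟨w, rfl⟩
  have hindex : ¬ 2 ∣ H.index := by
    intro h
    have h2 : (H.map C.subtype).index = H.index * C.index := by rw [Subgroup.index_map_subtype]
    have h3 : H.map C.subtype = (D.S : Subgroup G) := by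
      rw [MonoidHom.map_range, ← D.range_eq]; rfl
    exact D.S.not_dvd_index (h3 ▸ h2 ▸ dvd_mul_of_dvd_left h _)
  set ψ : H →* Multiplicative (ZMod 2) := parHom.comp e.symm.toMonoidHom
  have hψ : ∀ w : W 4, ψ ⟨κ w, hH w⟩ = parHom w := fun w => by
    show parHom (e.symm ⟨κ w, hH w⟩) = _
    congr 1
    exact e.injective (by rw [MulEquiv.apply_symm_apply]; rfl)
  have hfoc : H.focalSubgroupOf ≤ ψ.ker := by
    have key : H.focalSubgroup ≤ (ψ.ker).map H.subtype := by
      rw [Subgroup.focalSubgroup_def, Subgroup.closure_le]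
      rintro g ⟨hg, x, ⟨v, rfl⟩, u, rfl⟩
      have hy : u * (κ v)⁻¹ * u⁻¹ ∈ H := by
        have := H.mul_mem (H.inv_mem (hH v)) hg
        rwa [commutatorElement_def, show (κ v)⁻¹ * (κ v * u * (κ v)⁻¹ * u⁻¹) = u * (κ v)⁻¹ * u⁻¹ by group] at this
      obtain ⟨v', hv'⟩ := hy
      refine ⟨⟨κ (v * v'), hH _⟩, ?_, ?_⟩
      · rw [SetLike.mem_coe, MonoidHom.mem_ker, hψ, map_mul]
        have hu : Commute (u : G) (D.ι zz) := Subgroup.mem_centralizer_singleton_iff.mp u.2
        have he : (u : G) * D.ι v⁻¹ * (u : G)⁻¹ = D.ι v' := by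
          have h4 := congrArg Subtype.val hv'
          rw [map_inv]
          exact h4.symm
        have hiff : Ev v⁻¹ ↔ Ev v' := ⟨fun h => D.parity hu h he, fun h => D.parity hu.inv_left h (by rw [← he]; group)⟩
        rw [← parHom_iff, ← parHom_iff, map_inv, inv_eq_one] at hiff
        exact mz_mul _ _ hiff
      · show κ (v * v') = _
        rw [map_mul, hv', commutatorElement_def]
        group
    intro h hh
    obtain ⟨h', hh', he⟩ := key hh
    exact (Subtype.ext he : h' = h) ▸ hh'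
  set φ := QuotientGroup.lift H.focalSubgroupOf ψ hfoc
  set τ : C →* Multiplicative (ZMod 2) := φ.comp H.transferFocal
  have hτ : ∀ w : W 4, τ (κ w) = parHom w := fun w => by
    show φ (H.transferFocal ((⟨κ w, hH w⟩ : H) : C)) = _
    rw [Subgroup.transferFocal_eq_pow, map_pow]
    show (ψ ⟨κ w, hH w⟩) ^ H.index = _
    rw [hψ]
    obtain ⟨k, hk⟩ : Odd H.index := Nat.not_even_iff_odd.mp fun h => hindex (even_iff_two_dvd.mp h)
    rw [hk, pow_succ, pow_mul, mz_sq, one_pow, one_mul]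
  clear_value τ
  refine ⟨τ.ker.map C.subtype, Subgroup.map_subtype_le _, ?_, ?_, fun w => ?_⟩
  · rintro g hg _ ⟨m, hm, rfl⟩
    exact ⟨⟨g, hg⟩ * m * (⟨g, hg⟩)⁻¹, (MonoidHom.normal_ker τ).conj_mem m hm _, rfl⟩
  · have hr : τ.range = ⊤ := by
      rw [eq_top_iff]
      intro a _
      rcases mz_cases a with rfl | rfl
      · exact one_mem _
      · exact ⟨κ tt, hτ tt⟩
    rw [Subgroup.relIndex, show (τ.ker.map C.subtype).subgroupOf C = τ.ker from
      Subgroup.comap_map_eq_self_of_injective C.subtype_injective _, Subgroup.index_ker, hr, Subgroup.card_top,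
      Nat.card_eq_fintype_card]
    rfl
  · rw [← parHom_iff, ← hτ]
    constructor
    · rintro ⟨m, hm, e⟩
      obtain rfl : m = κ w := Subtype.ext e
      exact hm
    · exact fun h => ⟨κ w, h, rfl⟩

end Fr

end CfsgLib.M12Sylow
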