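/-
The centraliser of the central involution modulo its odd core: elements of odd order normalising the even kernel.
-/
import Cfsg.Agent.Lib.M12Sylow.Parity
import Cfsg.Agent.Lib.AfterFT.PairClosed.Cores

set_option autoImplicit false
set_option maxRecDepth 100000
set_option linter.unusedSectionVars false
set_option linter.style.haveILetI false

namespace CfsgLib.M12Sylow

open Cfsg CfsgLib.G2Sylow

universe u

/-- The elements of the four-subgroup of rotations. -/
def TA (w : W 4) : Prop := w = 1 ∨ w = zz ∨ w = uu ∨ w = vv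

instance (w : W 4) : Decidable (TA w) := by unfold TA; infer_instance

theorem ev_mul : ∀ {v w : W 4}, Ev v → Ev w → Ev (v * w) := by
  intro v w hv hw
  rw [← parHom_iff] at hv hw ⊢
  rw [map_mul, hv, hw, one_mul]

theorem ev_inv {v : W 4} (hv : Ev v) : Ev v⁻¹ := by
  rw [← parHom_iff] at hv ⊢
  rw [map_inv, hv, inv_one]

theorem ta_facts : ∀ a : W 4, TA a → Ev a ∧ a * a = 1 ∧ a * uu = uu * a := by decide +kernel

theorem ta_mul : ∀ a : W 4, TA a → TA (zz * a) := by decide +kernel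

theorem q_four : ∀ d : W 4, Ev d → d * uu = uu * d → d * d = zz → ∀ d' : W 4, Ev d' → d' * uu = uu * d' →
    d' * d' = zz → TA (d⁻¹ * d') := by decide +kernel

theorem q_two : ∀ w : W 4, Ev w → w * uu = uu * w → w * w = 1 → ∀ w' : W 4, Ev w' → w' * uu = uu * w' →
    w' * w' = 1 → ¬ TA w → ¬ TA w' → TA (w⁻¹ * w') ∨ w⁻¹ * w' * (w⁻¹ * w') = zz := by decide +kernel

theorem q_cent : ∀ d : W 4, Ev d → (∀ w : W 4, Ev w → w * uu = uu * w → w * d = d * w) → TA d := by
  decide +kernel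

theorem q_normal : ∀ k w : W 4, Ev k → Ev w → w * uu = uu * w → k * w * k⁻¹ * uu = uu * (k * w * k⁻¹) := by
  decide +kernel

theorem ev_invol : ∀ w : W 4, Ev w → w * w = 1 → w ≠ 1 →
    TA w ∨ WConj w r0 ∨ WConj w r1 ∨ WConj w swp ∨ WConj w swr := by decide +kernel

theorem r_class : ∀ r ∈ [r0, r1], ∀ w : W 4, WConj w r → Ev w ∧ ¬ TA w ∧ w * w = 1 ∧ w * zz ≠ uu ∧
    w * zz ≠ vv := by decide +kernel

theorem r_pair : ∀ r ∈ [r0, r1], ∀ a : W 4, WConj a r → ∀ b : W 4, WConj b r →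
    b = a ∨ b = a * zz ∨ b = a * uu ∨ b = a * vv := by decide +kernel

theorem r_comm : ∀ r ∈ [r0, r1], ∀ k : W 4, Ev k → ∀ a : W 4, WConj a r → ∀ b : W 4, WConj b r →
    b ≠ a → b ≠ a * zz → (k * uu = uu * k ↔ k * a = a * k) → (k * a = a * k ↔ k * b = b * k) →
    TA k ∨ WConj k r := by decide +kernel

variable {G : Type u} [Group G] [Finite G]

/-- Involutions congruent modulo a normal subgroup of odd order are conjugate. -/
theorem conj_of_congr {H : Type u} [Group H] [Finite H] {N : Subgroup H} (hN : Odd (Nat.card N)) {a b : H}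
    (ha : a * a = 1) (hb : b * b = 1) (hab : a * b ∈ N) : IsConj a b := by
  obtain ⟨m, hm⟩ := CfsgLib.AfterFT.PairClosed.odd_orderOf_of_mem hN hab
  refine isConj_iff.mpr ⟨(a * b) ^ (m : ℤ), ?_⟩
  rw [Involutions.zpow_mul_eq ha hb, mul_assoc, ← zpow_neg, ← zpow_add,
    show (-(m : ℤ) + -(m : ℤ)) = 1 + -((2 * m + 1 : ℕ) : ℤ) by push_cast; ring, zpow_add, zpow_one, zpow_neg,
    zpow_natCast, ← hm, pow_orderOf_eq_one, inv_one, mul_one, ← mul_assoc, ha, one_mul]

namespace Fr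

variable (D : Fr G)

/-- The centraliser of the central involution. -/
abbrev C : Subgroup G := Subgroup.centralizer ({D.ι zz} : Set G)

/-- The model inside the centraliser. -/
def κ : W 4 →* ↥D.C :=
  D.ι.codRestrict D.C fun w => Subgroup.mem_centralizer_singleton_iff.mpr (D.comm_zz w).eq

@[simp] theorem coe_κ (w : W 4) : (D.κ w : G) = D.ι w := rfl

/-- The centraliser modulo its odd core. -/
abbrev T : Type u := ↥D.C ⧸ oddCore ↥D.C

/-- The model in the quotient. -/
def ω : W 4 →* D.T := (QuotientGroup.mk' (oddCore ↥D.C)).comp D.κ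

theorem ω_inj : Function.Injective D.ω := by
  haveI : Fact (Nat.Prime 2) := ⟨Nat.prime_two⟩
  refine (injective_iff_map_eq_one _).mpr fun w hw => ?_
  have h : D.κ w ∈ oddCore ↥D.C := (QuotientGroup.eq_one_iff _).mp hw
  have h1 : Odd (orderOf w) := by
    have := CfsgLib.AfterFT.PairClosed.odd_orderOf_of_mem odd_card_oddCore h
    rwa [← Subgroup.orderOf_coe, coe_κ, orderOf_injective D.ι D.inj] at this
  obtain ⟨k, hk⟩ := Amb.isPGroup_W w
  obtain ⟨j, -, hj⟩ := (Nat.dvd_prime_pow Nat.prime_two).mp (orderOf_dvd_of_pow_eq_one hk)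
  rcases Nat.eq_zero_or_pos j with rfl | hpos
  · exact orderOf_eq_one_iff.mp (by simpa using hj)
  · rw [hj] at h1
    exact absurd h1 (Nat.not_odd_iff_even.mpr (Nat.even_pow.mpr ⟨even_two, by omega⟩))

theorem ω_zz_comm (t : D.T) : Commute t (D.ω zz) := by
  induction t using QuotientGroup.induction_on with
  | H c =>
    have : Commute c (D.κ zz) := Subtype.ext (Subgroup.mem_centralizer_singleton_iff.mp c.2)
    exact this.map (QuotientGroup.mk' (oddCore ↥D.C))

/-- Conjugation in the quotient preserves the classes of involutions. -/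
theorem class_iff {t : D.T} {w w' : W 4} (hw : w * w = 1) (e : t * D.ω w * t⁻¹ = D.ω w') : D.Z w ↔ D.Z w' := by
  induction t using QuotientGroup.induction_on with
  | H c =>
    have hw' : w' * w' = 1 := D.ω_inj (by
      rw [map_mul, ← e, map_one]
      calc (c : D.T) * D.ω w * (c : D.T)⁻¹ * ((c : D.T) * D.ω w * (c : D.T)⁻¹)
          = (c : D.T) * D.ω (w * w) * (c : D.T)⁻¹ := by rw [map_mul]; group
        _ = 1 := by rw [hw, map_one]; group)
    have hconj : IsConj (c * D.κ w * c⁻¹) (D.κ w') := by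
      refine conj_of_congr (N := oddCore ↥D.C) odd_card_oddCore ?_ ?_ ?_
      · rw [show c * D.κ w * c⁻¹ * (c * D.κ w * c⁻¹) = c * D.κ (w * w) * c⁻¹ by rw [map_mul]; group, hw, map_one]
        group
      · rw [← map_mul, hw', map_one]
      · rw [← QuotientGroup.eq_one_iff]
        show (c : D.T) * D.ω w * (c : D.T)⁻¹ * D.ω w' = 1
        rw [e, ← map_mul, hw', map_one]
    obtain ⟨d, hd⟩ := isConj_iff.mp hconj
    have h : IsConj (D.ι w) (D.ι w') := isConj_iff.mpr ⟨d * c, by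
      rw [show D.ι w' = (d : G) * (c * D.ι w * (c : G)⁻¹) * (d : G)⁻¹ from (congrArg Subtype.val hd).symm]
      group⟩
    exact ⟨fun h' => h.symm.trans h', fun h' => h.trans h'⟩

/-- Normalises the even kernel. -/
def NormQ (g : D.T) : Prop := ∀ k : W 4, Ev k → ∃ k', Ev k' ∧ g * D.ω k * g⁻¹ = D.ω k'

theorem fix_step {h : D.T} (ho : Odd (orderOf h)) {a w : W 4} (ha : a * a = 1) (hfa : Commute h (D.ω a))
    (e : h * D.ω w * h⁻¹ = D.ω (w * a)) : a = 1 := by
  have key : ∀ n : ℕ, h ^ n * D.ω w * (h ^ n)⁻¹ = D.ω (w * a ^ n) := by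
    intro n
    induction n with
    | zero => simp
    | succ n ih =>
      calc h ^ (n + 1) * D.ω w * (h ^ (n + 1))⁻¹ = h * (h ^ n * D.ω w * (h ^ n)⁻¹) * h⁻¹ := by group
        _ = (h * D.ω w * h⁻¹) * (h * (D.ω a) ^ n * h⁻¹) := by rw [ih, map_mul, map_pow]; group
        _ = D.ω (w * a ^ (n + 1)) := by
          rw [e, (hfa.pow_right n).eq, mul_inv_cancel_right, ← map_pow, ← map_mul, mul_assoc, ← pow_succ']
  have h1 := key (orderOf h)
  obtain ⟨m, hm⟩ := ho
  rw [pow_orderOf_eq_one, one_mul, inv_one, mul_one, hm, pow_succ, pow_mul, sq, ha, one_pow, one_mul] at h1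
  exact (left_eq_mul.mp (D.ω_inj h1))

theorem of_sq {g : D.T} (ho : Odd (orderOf g)) {w : W 4} (h : Commute (g * g) (D.ω w)) : Commute g (D.ω w) :=
  Subgroup.mem_centralizer_singleton_iff.mp (CfsgLib.AfterFT.PairClosed.mem_of_sq_mem ho
    (Subgroup.mem_centralizer_singleton_iff.mpr h.eq))

theorem commute_of_conj {g : D.T} {w : W 4} (h : g * D.ω w * g⁻¹ = D.ω w) : Commute g (D.ω w) :=
  mul_inv_eq_iff_eq_mul.mp h

theorem conj_mul' (g : D.T) (a b : W 4) :
    g * D.ω (a * b) * g⁻¹ = g * D.ω a * g⁻¹ * (g * D.ω b * g⁻¹) := by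
  rw [map_mul]
  group

theorem conj_of_commute {g : D.T} {w : W 4} (h : Commute g (D.ω w)) : g * D.ω w * g⁻¹ = D.ω w :=
  mul_inv_eq_iff_eq_mul.mpr h.eq

/-- An element of odd order fixing the rotation involution centralises the kernel. -/
theorem fix_of_uu {g : D.T} (ho : Odd (orderOf g)) (hn : D.NormQ g) (hu : Commute g (D.ω uu)) :
    ∀ k, Ev k → Commute g (D.ω k) := by
  have hfix : ∀ a, TA a → Commute g (D.ω a) := by
    rintro a (rfl | rfl | rfl | rfl)
    · rw [map_one]; exact Commute.one_right g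
    · exact D.ω_zz_comm g
    · exact hu
    · rw [show vv = uu * zz by decide, map_mul]; exact hu.mul_right (D.ω_zz_comm g)
  have hq : ∀ w, Ev w → w * uu = uu * w → ∃ w', Ev w' ∧ w' * uu = uu * w' ∧ g * D.ω w * g⁻¹ = D.ω w' := by
    intro w hw hwu
    obtain ⟨w', hw', e⟩ := hn w hw
    refine ⟨w', hw', D.ω_inj ?_, e⟩
    rw [map_mul, map_mul, ← e]
    have hc := ((show Commute w uu from hwu).map D.ω).map (MulAut.conj g).toMonoidHom
    rwa [show (MulAut.conj g).toMonoidHom (D.ω uu) = D.ω uu from D.conj_of_commute hu] at hc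
  have hsq : ∀ w w', g * D.ω w * g⁻¹ = D.ω w' → TA (w * w) → w' * w' = w * w := fun w w' e ha => D.ω_inj (by
    rw [map_mul, ← e, show g * D.ω w * g⁻¹ * (g * D.ω w * g⁻¹) = g * D.ω (w * w) * g⁻¹ by rw [map_mul]; group,
      D.conj_of_commute (hfix _ ha)])
  have htwo : ∀ w w', Ev w → g * D.ω w * g⁻¹ = D.ω w' → TA (w⁻¹ * w') →
      g * g * D.ω w * (g * g)⁻¹ = D.ω w := by
    intro w w' hw e ha
    obtain ⟨-, ha2, -⟩ := ta_facts _ ha
    calc g * g * D.ω w * (g * g)⁻¹ = g * (g * D.ω w * g⁻¹) * g⁻¹ := by group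
      _ = g * D.ω (w * (w⁻¹ * w')) * g⁻¹ := by rw [e, mul_inv_cancel_left]
      _ = (g * D.ω w * g⁻¹) * (g * D.ω (w⁻¹ * w') * g⁻¹) := by rw [map_mul]; group
      _ = D.ω (w * (w⁻¹ * w') * (w⁻¹ * w')) := by
        rw [e, D.conj_of_commute (hfix _ ha), mul_inv_cancel_left, ← map_mul]
      _ = D.ω w := by rw [mul_assoc, ha2, mul_one]
  have ho2 : Odd (orderOf (g * g)) := ho.of_dvd_nat (by rw [← sq]; exact orderOf_pow_dvd 2)
  have hQ1 : ∀ w, Ev w → w * uu = uu * w → Commute g (D.ω w) := by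
    intro w hw hwu
    refine D.of_sq ho (D.commute_of_conj ?_)
    obtain ⟨w', hw', hwu', e⟩ := hq w hw hwu
    rcases ev_sq w hw with h2 | h2
    · have h2' := (hsq w w' e (Or.inl h2)).trans h2
      by_cases hta : TA w
      · exact D.conj_of_commute ((hfix w hta).mul_left (hfix w hta))
      have hta' : ¬ TA w' := fun h => hta (by
        have := D.conj_of_commute (hfix w' h)
        rw [← this] at e
        exact D.ω_inj (mul_left_cancel (mul_right_cancel e)) ▸ h)
      rcases q_two w hw hwu h2 w' hw' hwu' h2' hta hta' with ha | hd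
      · exact htwo w w' hw e ha
      · set d := w⁻¹ * w' with hdd
        have hdE : Ev d := ev_mul (ev_inv hw) hw'
        have hdu : d * uu = uu * d :=
          ((show Commute w uu from hwu).inv_left.mul_left (show Commute w' uu from hwu')).eq
        obtain ⟨d', hd', hdu', e'⟩ := hq d hdE hdu
        have ha := q_four d hdE hdu hd d' hd' hdu' ((hsq d d' e' (Or.inr (Or.inl hd))).trans hd)
        have e2 : g * g * D.ω w * (g * g)⁻¹ = D.ω (w * (zz * (d⁻¹ * d'))) := by
          calc g * g * D.ω w * (g * g)⁻¹ = g * (g * D.ω w * g⁻¹) * g⁻¹ := by group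
            _ = (g * D.ω w * g⁻¹) * (g * D.ω d * g⁻¹) := by
              rw [← D.conj_mul' g w d, hdd, mul_inv_cancel_left, e]
            _ = D.ω (w * (zz * (d⁻¹ * d'))) := by
              rw [e, e', ← map_mul, ← hd]
              congr 1
              rw [hdd]; group
        have := D.fix_step ho2 (ta_facts _ (ta_mul _ ha)).2.1 ((hfix _ (ta_mul _ ha)).mul_left (hfix _ (ta_mul _ ha))) e2
        rw [this, mul_one] at e2
        exact e2
    · exact htwo w w' hw e (q_four w hw hwu h2 w' hw' hwu' ((hsq w w' e (Or.inr (Or.inl h2))).trans h2))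
  intro k hk
  obtain ⟨k', hk', e⟩ := hn k hk
  have hta : TA (k⁻¹ * k') := q_cent _ (ev_mul (ev_inv hk) hk') fun w hw hwu => D.ω_inj (by
    have h1 := D.conj_of_commute (hQ1 (k * w * k⁻¹) (ev_mul (ev_mul hk hw) (ev_inv hk)) (q_normal k w hk hw hwu))
    rw [map_mul, map_mul, map_inv, show g * (D.ω k * D.ω w * (D.ω k)⁻¹) * g⁻¹
      = g * D.ω k * g⁻¹ * (g * D.ω w * g⁻¹) * (g * D.ω k * g⁻¹)⁻¹ by group, e,
      D.conj_of_commute (hQ1 w hw hwu)] at h1
    rw [map_mul, map_mul, map_mul, map_inv]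
    calc D.ω w * ((D.ω k)⁻¹ * D.ω k')
        = (D.ω k)⁻¹ * (D.ω k * D.ω w * (D.ω k)⁻¹) * D.ω k' := by group
      _ = (D.ω k)⁻¹ * (D.ω k' * D.ω w * (D.ω k')⁻¹) * D.ω k' := by rw [h1]
      _ = (D.ω k)⁻¹ * D.ω k' * D.ω w := by group
      _ = D.ω (k⁻¹ * k') * D.ω w := by rw [map_mul, map_inv])
  have e' : g * D.ω k * g⁻¹ = D.ω (k * (k⁻¹ * k')) := by rw [mul_inv_cancel_left]; exact e
  have := D.fix_step ho (ta_facts _ hta).2.1 (hfix _ hta) e'
  rw [this, mul_one] at e'
  exact D.commute_of_conj e'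

/-- An element of odd order fixing a point centralises the kernel. -/
theorem fix_of_point {g : D.T} (ho : Odd (orderOf g)) (hn : D.NormQ g) {k : W 4} (hk : Ev k) (hk1 : k ≠ 1)
    (hkz : k ≠ zz) (hgk : Commute g (D.ω k)) : ∀ a, Ev a → Commute g (D.ω a) := by
  refine D.fix_of_uu ho hn ?_
  by_contra hgu
  have classify : ∀ w w', (w = uu ∨ ∃ r ∈ [r0, r1], D.Z r ∧ WConj w r) → g * D.ω w * g⁻¹ = D.ω w' →
      Ev w' → w' = uu ∨ w' = vv ∨ ∃ r ∈ [r0, r1], D.Z r ∧ WConj w' r := by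
    intro w w' hw e hw'
    obtain ⟨hw2, hw1, hwz, hwZ⟩ : w * w = 1 ∧ w ≠ 1 ∧ w ≠ zz ∧ D.Z w := by
      rcases hw with rfl | ⟨r, hr, hZ, hc⟩
      · exact ⟨uu_sq, uu_ne, uu_ne_zz, D.Z_uu⟩
      · obtain ⟨-, ht, h2, -, -⟩ := r_class r hr w hc
        exact ⟨h2, fun h => ht (Or.inl h), fun h => ht (Or.inr (Or.inl h)), (D.Z_of_WConj hc).mpr hZ⟩
    have hZ' : D.Z w' := (D.class_iff hw2 e).mp hwZ
    have h2 : w' * w' = 1 := D.ω_inj (by
      rw [map_mul, ← e, show g * D.ω w * g⁻¹ * (g * D.ω w * g⁻¹) = g * D.ω (w * w) * g⁻¹ by rw [map_mul]; group,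
        hw2, map_one]
      group)
    have h1 : w' ≠ 1 := fun h => hw1 (D.ω_inj (by
      rw [map_one]; rw [h, map_one] at e; exact conj_eq_one_iff.mp e))
    have hz : w' ≠ zz := fun h => hwz (D.ω_inj (by
      rw [h, ← D.conj_of_commute (D.ω_zz_comm g)] at e
      exact mul_left_cancel (mul_right_cancel e)))
    rcases ev_invol w' hw' h2 h1 with (h | h | h | h) | hc | hc | hc | hc
    · exact absurd h h1
    · exact absurd h hz
    · exact Or.inl h
    · exact Or.inr (Or.inl h)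
    · exact Or.inr (Or.inr ⟨r0, by simp, (D.Z_of_WConj hc).mp hZ', hc⟩)
    · exact Or.inr (Or.inr ⟨r1, by simp, (D.Z_of_WConj hc).mp hZ', hc⟩)
    · exact absurd ((D.Z_of_WConj hc).mp hZ') D.not_Z_swp
    · exact absurd ((D.Z_of_WConj hc).mp hZ') D.not_Z_swr
  have hvz : uu * zz = vv := by decide
  have gz := D.conj_of_commute (D.ω_zz_comm g)
  obtain ⟨u', hu', e1⟩ := hn uu (by decide)
  rcases classify uu u' (Or.inl rfl) e1 hu' with rfl | rfl | ⟨r, hr, hZ, hc⟩
  · exact hgu (D.commute_of_conj e1)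
  · refine hgu (D.of_sq ho (D.commute_of_conj ?_))
    calc g * g * D.ω uu * (g * g)⁻¹ = g * (g * D.ω uu * g⁻¹) * g⁻¹ := by group
      _ = (g * D.ω uu * g⁻¹) * (g * D.ω zz * g⁻¹) := by rw [e1, ← hvz, map_mul]; conv_rhs => rw [← map_mul, hvz, ← e1]
                                                        group
      _ = D.ω uu := by rw [e1, gz, ← map_mul]; rfl
  obtain ⟨-, hu'ta, hu'2, hu'u, hu'v⟩ := r_class r hr u' hc
  obtain ⟨u'', hu'', e2⟩ := hn u' hu'
  have e12 : g * g * D.ω uu * (g * g)⁻¹ = D.ω u'' := by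
    rw [show g * g * D.ω uu * (g * g)⁻¹ = g * (g * D.ω uu * g⁻¹) * g⁻¹ by group, e1, e2]
  have ho2 : Odd (orderOf (g * g)) := ho.of_dvd_nat (by rw [← sq]; exact orderOf_pow_dvd 2)
  have hout : u'' ≠ uu ∧ u'' ≠ vv := by
    refine ⟨fun h => hgu (D.of_sq ho (D.commute_of_conj (h ▸ e12))), fun h => ?_⟩
    rw [h] at e12
    refine hgu (D.of_sq ho (D.of_sq ho2 (D.commute_of_conj ?_)))
    calc g * g * (g * g) * D.ω uu * (g * g * (g * g))⁻¹ = g * g * (g * g * D.ω uu * (g * g)⁻¹) * (g * g)⁻¹ := by group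
      _ = (g * g * D.ω uu * (g * g)⁻¹) * (g * g * D.ω zz * (g * g)⁻¹) := by
        rw [e12, ← hvz, map_mul]; conv_rhs => rw [← map_mul, hvz, ← e12]
        group
      _ = D.ω uu := by rw [e12, D.conj_of_commute (D.ω_zz_comm _), ← map_mul]; rfl
  obtain ⟨r', hr', hZ', hc'⟩ := ((classify u' u'' (Or.inr ⟨r, hr, hZ, hc⟩) e2 hu'').resolve_left hout.1).resolve_left
    hout.2
  obtain rfl : r' = r := by
    simp only [List.mem_cons, List.not_mem_nil, or_false] at hr hr'
    rcases hr with h | h <;> rcases hr' with h' | h' <;> subst h h'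
    · rfl
    · exact (D.not_Z_both ⟨hZ, hZ'⟩).elim
    · exact (D.not_Z_both ⟨hZ', hZ⟩).elim
    · rfl
  have hne : u'' ≠ u' := fun h => hu'ta (by
    rw [h] at e2
    exact Or.inr (Or.inr (Or.inl (D.ω_inj (mul_left_cancel (mul_right_cancel (e1.trans e2.symm)))).symm)))
  have hnez : u'' ≠ u' * zz := fun h => hu'ta (by
    have : g * D.ω (uu * zz) * g⁻¹ = g * D.ω u' * g⁻¹ := by
      rw [e2, h, map_mul, map_mul, ← e1]; conv_rhs => rw [← gz]
      group
    exact Or.inr (Or.inr (Or.inr ((D.ω_inj (mul_left_cancel (mul_right_cancel this))).symm.trans hvz))))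
  have himg : ∀ a b, g * D.ω a * g⁻¹ = D.ω b → (k * a = a * k ↔ k * b = b * k) := by
    intro a b e
    rw [← D.ω_inj.eq_iff, ← (D.ω_inj.eq_iff (a := k * b)), map_mul, map_mul, map_mul, map_mul, ← e]
    conv_rhs => rw [← D.conj_of_commute hgk]
    rw [show g * D.ω k * g⁻¹ * (g * D.ω a * g⁻¹) = g * (D.ω k * D.ω a) * g⁻¹ by group,
      show g * D.ω a * g⁻¹ * (g * D.ω k * g⁻¹) = g * (D.ω a * D.ω k) * g⁻¹ by group]
    simp
  have inj' : ∀ a b c, g * D.ω a * g⁻¹ = D.ω c → g * D.ω b * g⁻¹ = D.ω c → a = b :=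
    fun a b c h h' => D.ω_inj (mul_left_cancel (mul_right_cancel (h.trans h'.symm)))
  rcases r_comm r' hr k hk u' hc u'' hc' hne hnez (himg uu u' e1) (himg u' u'' e2) with (h | h | h | h) | hck
  · exact hk1 h
  · exact hkz h
  · exact hgu (h ▸ hgk)
  · refine hgu ?_
    rw [show uu = vv * zz by decide, map_mul]
    exact (h ▸ hgk).mul_right (D.ω_zz_comm g)
  obtain ⟨-, hkta, hk2, hku, hkv⟩ := r_class r' hr k hck
  have hmul : ∀ b, g * D.ω (k * b) * g⁻¹ = D.ω k * (g * D.ω b * g⁻¹) := fun b => by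
    rw [map_mul]
    conv_rhs => rw [← D.conj_of_commute hgk]
    group
  rcases r_pair r' hr k hck u' hc with h | h | h | h
  · exact hkta (Or.inr (Or.inr (Or.inl (inj' k uu u' (by rw [D.conj_of_commute hgk, h]) e1))))
  · refine hku (inj' (k * zz) uu u' ?_ e1)
    rw [hmul, gz, ← map_mul, h]
  · refine hout.1 (D.ω_inj (e2.symm.trans ?_))
    rw [h, hmul, e1, ← map_mul, h, ← mul_assoc, hk2, one_mul]
  · refine hout.1 (D.ω_inj (e2.symm.trans ?_))
    rw [h, hmul, show g * D.ω vv * g⁻¹ = g * D.ω uu * g⁻¹ * (g * D.ω zz * g⁻¹) by rw [← hvz, D.conj_mul'], e1,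
      gz, ← map_mul, ← map_mul, h]
    congr 1
    rw [mul_assoc k vv zz, ← mul_assoc, hk2, one_mul]
    decide

end Fr

end CfsgLib.M12Sylow
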