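/-
The model has no elementary abelian subgroup of order sixteen, so the alternating groups of degree 8 and 9 are excluded.
-/
import Cfsg.Agent.Lib.M12Sylow.Key
import Mathlib.GroupTheory.SpecificGroups.Alternating

set_option autoImplicit false
set_option maxRecDepth 100000
set_option linter.unusedSectionVars false
set_option linter.style.haveILetI false

namespace CfsgLib.M12Sylow

open Cfsg CfsgLib.G2Sylow

universe u

theorem big_not_elem : ∀ w : W 4, w * w = 1 → ¬ TA w → 16 ≤ cw w →
    cw w = 16 ∧ ∃ a : W 4, a * w = w * a ∧ a * a ≠ 1 := by decide +kernel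

/-- The model has no elementary abelian subgroup of order sixteen. -/
theorem no_e16 (E : Subgroup (W 4)) (hcard : Nat.card E = 16) (hsq : ∀ a ∈ E, a * a = 1) : False := by
  classical
  have hab : ∀ a ∈ E, ∀ b ∈ E, a * b = b * a := by
    intro a ha b hb
    have h := inv_eq_of_mul_eq_one_right (hsq _ (mul_mem ha hb))
    rw [mul_inv_rev, inv_eq_of_mul_eq_one_right (hsq a ha), inv_eq_of_mul_eq_one_right (hsq b hb)] at h
    exact h.symm
  obtain ⟨w, hw, hwT⟩ : ∃ w ∈ E, ¬ TA w := by
    by_contra hall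
    push Not at hall
    have hle : Nat.card E ≤ 4 := by
      refine le_trans (Nat.card_le_card_of_injective (β := ({1, zz, uu, vv} : Finset (W 4)))
        (fun a => ⟨a, by rcases hall a a.2 with h | h | h | h <;> simp [h]⟩)
        fun a b e => Subtype.ext (congrArg (fun x : ({1, zz, uu, vv} : Finset (W 4)) => (x : W 4)) e)) ?_
      rw [Nat.card_eq_finsetCard]
      decide
    omega
  have hle : E ≤ Subgroup.centralizer ({w} : Set (W 4)) := fun a ha =>
    Subgroup.mem_centralizer_singleton_iff.mpr (hab a ha w hw)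
  have h16 : 16 ≤ cw w := by
    rw [← card_cw, ← hcard]
    exact Subgroup.card_le_of_le hle
  obtain ⟨h, a, ha, ha2⟩ := big_not_elem w (hsq w hw) hwT h16
  refine ha2 (hsq a ?_)
  rw [Subgroup.eq_of_le_of_card_ge hle (by rw [card_cw, h, hcard])]
  exact Subgroup.mem_centralizer_singleton_iff.mpr ha

/-- The four commuting involutions on eight of the points. -/
def fourPerm (n : ℕ) [NeZero n] (v : Fin 4 → ZMod 2) : Equiv.Perm (Fin n) :=
  (Equiv.swap (0 : Fin n) 1 * Equiv.swap 2 3) ^ (v 0).val * (Equiv.swap (0 : Fin n) 2 * Equiv.swap 1 3) ^ (v 1).val *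
    (Equiv.swap (4 : Fin n) 5 * Equiv.swap 6 7) ^ (v 2).val * (Equiv.swap (4 : Fin n) 6 * Equiv.swap 5 7) ^ (v 3).val

theorem four_mem (n : ℕ) [NeZero n] (h : ∀ i j : Fin 8, i ≠ j → (Fin.ofNat n i.val) ≠ Fin.ofNat n j.val)
    (v : Fin 4 → ZMod 2) : fourPerm n v ∈ alternatingGroup (Fin n) := by
  have hs : ∀ a b c d : Fin 8, a ≠ b → c ≠ d → Equiv.swap (Fin.ofNat n a.val) (Fin.ofNat n b.val) *
      Equiv.swap (Fin.ofNat n c.val) (Fin.ofNat n d.val) ∈ alternatingGroup (Fin n) := by
    intro a b c d hab hcd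
    rw [Equiv.Perm.mem_alternatingGroup, map_mul, Equiv.Perm.sign_swap (h a b hab), Equiv.Perm.sign_swap (h c d hcd)]
    decide
  exact mul_mem (mul_mem (mul_mem (pow_mem (hs 0 1 2 3 (by decide) (by decide)) _)
    (pow_mem (hs 0 2 1 3 (by decide) (by decide)) _)) (pow_mem (hs 4 5 6 7 (by decide) (by decide)) _))
    (pow_mem (hs 4 6 5 7 (by decide) (by decide)) _)

theorem four_hom : (∀ v w : Fin 4 → ZMod 2, fourPerm 8 (v + w) = fourPerm 8 v * fourPerm 8 w) ∧
    (∀ v w : Fin 4 → ZMod 2, fourPerm 9 (v + w) = fourPerm 9 v * fourPerm 9 w) ∧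
    (∀ v : Fin 4 → ZMod 2, fourPerm 8 v = 1 → v = 0) ∧ (∀ v : Fin 4 → ZMod 2, fourPerm 9 v = 1 → v = 0) := by
  decide +kernel

theorem zmod_two_add : ∀ x : ZMod 2, x + x = 0 := by decide

/-- A group with the model as Sylow subgroup is not alternating of degree 8 or 9. -/
theorem not_alt {H : Type u} [Group H] [Finite H] {n : ℕ} [NeZero n] (hn : n = 8 ∨ n = 9) (e : W 4 →* H)
    (he : Function.Injective e) : ¬ Nonempty (H ≃* alternatingGroup (Fin n)) := by
  classical
  rintro ⟨ψ⟩
  haveI : Fact (Nat.Prime 2) := ⟨Nat.prime_two⟩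
  have h128 : ¬ 128 ∣ Nat.card H := by
    rw [Nat.card_congr ψ.toEquiv]
    haveI : Nontrivial (Fin n) := by rcases hn with rfl | rfl <;> infer_instance
    rw [nat_card_alternatingGroup, Nat.card_fin]
    rcases hn with rfl | rfl <;> decide
  have hr : Nat.card e.range = 64 := by
    rw [← Nat.card_congr (MonoidHom.ofInjective he).toEquiv, card_W]; norm_num
  have hidx : ¬ 2 ∣ e.range.index := fun h => h128 (by
    rw [← e.range.card_mul_index, hr, show (128 : ℕ) = 64 * 2 by norm_num]
    exact Nat.mul_dvd_mul_left 64 h)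
  let g : Multiplicative (Fin 4 → ZMod 2) →* alternatingGroup (Fin n) :=
    MonoidHom.mk' (fun v => ⟨fourPerm n v.toAdd, four_mem n (fun i j hij h => hij (Fin.ext (by
      have h' := congrArg Fin.val h
      simp only [Fin.ofNat] at h'
      rwa [Nat.mod_eq_of_lt (by omega), Nat.mod_eq_of_lt (by omega)] at h'))) _⟩) fun v w =>
      Subtype.ext (by rcases hn with rfl | rfl; exacts [four_hom.1 _ _, four_hom.2.1 _ _])
  have hg : Function.Injective g := (injective_iff_map_eq_one g).mpr fun v hv => by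
    have h1 : fourPerm n v.toAdd = 1 := congrArg Subtype.val hv
    rcases hn with rfl | rfl
    exacts [four_hom.2.2.1 _ h1, four_hom.2.2.2 _ h1]
  set g' := ψ.symm.toMonoidHom.comp g
  have hg' : Function.Injective g' := ψ.symm.injective.comp hg
  have hp : IsPGroup 2 (Multiplicative (Fin 4 → ZMod 2)) := IsPGroup.of_card (n := 4) (by simp)
  obtain ⟨c, hc⟩ := CfsgLib.G2Cent.into ((IsPGroup.of_card (n := 6) (by rw [hr]; norm_num)).toSylow hidx)
    (hp.of_equiv (MonoidHom.ofInjective hg'))
  have hmem : ∀ v, c * g' v * c⁻¹ ∈ e.range := fun v => by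
    have := hc _ ⟨v, rfl⟩
    rwa [IsPGroup.toSylow_coe] at this
  choose F hF using hmem
  let F' : Multiplicative (Fin 4 → ZMod 2) →* W 4 := MonoidHom.mk' F fun v w => he (by
    rw [map_mul, hF, hF, hF, map_mul]; group)
  have hF' : Function.Injective F' := fun v w h => hg' (by
    have h' := congrArg e h
    rw [show e (F' v) = c * g' v * c⁻¹ from hF v, show e (F' w) = c * g' w * c⁻¹ from hF w] at h'
    exact mul_left_cancel (mul_right_cancel h'))
  refine no_e16 F'.range ?_ ?_
  · rw [← Nat.card_congr (MonoidHom.ofInjective hF').toEquiv]; simp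
  · rintro _ ⟨v, rfl⟩
    rw [← map_mul, show v * v = 1 from ?_, map_one]
    exact Multiplicative.toAdd.injective (funext fun i => by
      show v.toAdd i + v.toAdd i = 0
      generalize v.toAdd i = x
      exact zmod_two_add x)

end CfsgLib.M12Sylow
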