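/-
General steps: congruent involutions, central quotients and lifting of centralisers.
-/
import Cfsg.Agent.Lib.AfterFT.PairClosed.Cores
import Cfsg.Agent.Lib.PComplement

set_option autoImplicit false
set_option linter.unusedSectionVars false
set_option linter.style.haveILetI false

namespace CfsgLib.M12Sylow

open Cfsg

universe u

variable {H : Type u} [Group H] [Finite H]

/-- Involutions congruent modulo a subgroup of odd order are conjugate by an element of it. -/
theorem conj_mem_of_congr {N : Subgroup H} (hN : Odd (Nat.card N)) {a b : H} (ha : a * a = 1) (hb : b * b = 1)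
    (hab : a * b ∈ N) : ∃ c ∈ N, c * a * c⁻¹ = b := by
  obtain ⟨m, hm⟩ := CfsgLib.AfterFT.PairClosed.odd_orderOf_of_mem hN hab
  refine ⟨(a * b) ^ (m : ℤ), zpow_mem hab _, ?_⟩
  rw [Involutions.zpow_mul_eq ha hb, mul_assoc, ← zpow_neg, ← zpow_add,
    show (-(m : ℤ) + -(m : ℤ)) = 1 + -((2 * m + 1 : ℕ) : ℤ) by push_cast; ring, zpow_add, zpow_one, zpow_neg,
    zpow_natCast, ← hm, pow_orderOf_eq_one, inv_one, mul_one, ← mul_assoc, ha, one_mul]

theorem zpowers_two {c : H} (hc : c * c = 1) {a : H} (ha : a ∈ Subgroup.zpowers c) : a = 1 ∨ a = c := by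
  obtain ⟨i, rfl⟩ := ha
  show c ^ i = 1 ∨ c ^ i = c
  rcases Int.even_or_odd' i with ⟨j, rfl | rfl⟩
  · left; rw [zpow_mul, zpow_ofNat, sq, hc, one_zpow]
  · right; rw [zpow_add, zpow_mul, zpow_ofNat, sq, hc, one_zpow, one_mul, zpow_one]

/-- A central quotient of order two keeps the odd core trivial. -/
theorem oddCore_quot_central (hO : oddCore H = ⊥) {c : H} (hc : c * c = 1) (hz : ∀ g : H, Commute g c)
    [(Subgroup.zpowers c).Normal] : oddCore (H ⧸ Subgroup.zpowers c) = ⊥ := by
  haveI : Fact (Nat.Prime 2) := ⟨Nat.prime_two⟩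
  set π := QuotientGroup.mk' (Subgroup.zpowers c) with hπ
  set R := (oddCore (H ⧸ Subgroup.zpowers c)).comap π
  set f := π.comp R.subtype
  have hf : f.ker = (Subgroup.zpowers c).subgroupOf R := by
    ext a
    exact QuotientGroup.eq_one_iff (a : H)
  have hidx : ¬ 2 ∣ ((Subgroup.zpowers c).subgroupOf R).index := by
    rw [← hf, Subgroup.index_ker, MonoidHom.range_comp, Subgroup.range_subtype,
      Subgroup.map_comap_eq_self_of_surjective (QuotientGroup.mk'_surjective _)]
    exact fun h => Nat.not_even_iff_odd.mpr odd_card_oddCore (even_iff_two_dvd.mpr h)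
  have hZp : IsPGroup 2 ((Subgroup.zpowers c).subgroupOf R) := by
    intro a
    refine ⟨1, Subtype.ext (Subtype.ext ?_)⟩
    rcases zpowers_two hc a.2 with h | h
    · simp [show ((a : R) : H) = 1 from h]
    · simp [show ((a : R) : H) = c from h, sq, hc]
  obtain ⟨P', N, hN, hcomp⟩ := hasNormalPComplement_of_normalizer_le_centralizer (hZp.toSylow hidx)
    (fun n _ => Subgroup.mem_centralizer_iff.mpr fun a ha => Subtype.ext (by
      have ha' : ((a : R) : H) ∈ Subgroup.zpowers c := by
        rw [IsPGroup.toSylow_coe] at ha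
        exact ha
      show (a : H) * (n : H) = (n : H) * (a : H)
      rcases zpowers_two hc ha' with h | h <;> rw [h]
      · simp
      · exact (hz _).eq.symm))
  haveI := hN
  have hNodd : Odd (Nat.card N) := by
    rw [← hcomp.index_eq_card, Nat.odd_iff, ← Nat.two_dvd_ne_zero]
    exact P'.not_dvd_index
  haveI : R.Normal := (inferInstance : (oddCore (H ⧸ Subgroup.zpowers c)).Normal).comap π
  have hN1 : N = ⊥ := by
    have h1 := (Subgroup.map_mono (f := R.subtype) (le_oddCore hNodd)).trans (map_pPrimeCore_le 2 R)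
    rw [show pPrimeCore 2 H = oddCore H from rfl, hO, le_bot_iff,
      Subgroup.map_eq_bot_iff_of_injective _ R.subtype_injective] at h1
    exact h1
  have hR2 : IsPGroup 2 R := by
    rw [hN1, Subgroup.isComplement'_bot_left] at hcomp
    exact (hcomp ▸ P'.2).of_surjective (Subgroup.topEquiv (G := R)).toMonoidHom Subgroup.topEquiv.surjective
  have h1 := hR2.map π
  rw [Subgroup.map_comap_eq_self_of_surjective (QuotientGroup.mk'_surjective _)] at h1
  obtain ⟨n, hn⟩ := IsPGroup.iff_card.mp h1
  have h2 := odd_card_oddCore (G := H ⧸ Subgroup.zpowers c)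
  rw [hn] at h2
  refine Subgroup.eq_bot_of_card_eq _ ?_
  rw [hn, show n = 0 from by_contra fun h => Nat.not_even_iff_odd.mpr h2 (Nat.even_pow.mpr ⟨even_two, h⟩), pow_zero]

end CfsgLib.M12Sylow
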