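/-
A group with elementary abelian Sylow 2-subgroups of order 16 whose automiser acts without fixed points.
-/
import Cfsg.Agent.Lib.A8Classes.Flat
import Cfsg.Agent.Lib.TwoR.Setup
import Cfsg.Agent.Lib.JComp.Config
import Cfsg.Agent.Lib.CITQuot.Basic
import Cfsg.Agent.Lib.G2Cent.Basic
import Cfsg.Agent.Lib.AfterFT.PairClosed.Cores
import Cfsg.Agent.S0217

set_option autoImplicit false
set_option linter.unusedSectionVars false
set_option linter.style.haveILetI false

namespace CfsgLib.M12Sylow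

open Cfsg CfsgA8C

universe u

variable {X : Type u} [Group X] [Finite X]

/-- A strongly embedded subgroup containing a Sylow subgroup leaves one class of involutions. -/
theorem one_class_of_se {U : Subgroup X} (hU : IsStronglyEmbedded U) (P : Sylow 2 X) (hP : (P : Subgroup X) ≤ U)
    {a b : X} (ha : a * a = 1) (ha1 : a ≠ 1) (hb : b * b = 1) (hb1 : b ≠ 1) : IsConj a b := by
  haveI : Fact (Nat.Prime 2) := ⟨Nat.prime_two⟩
  have key : ∀ c : X, c * c = 1 → c ≠ 1 →
      ∃ g : X, g * c * g⁻¹ ∈ U ∧ g * c * g⁻¹ * (g * c * g⁻¹) = 1 ∧ g * c * g⁻¹ ≠ 1 := by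
    intro c hc hc1
    obtain ⟨g, hg⟩ := CfsgLib.G2Cent.into P (IsPGroup.of_card (G := Subgroup.zpowers c) (n := 1) (by
      rw [Nat.card_zpowers, pow_one]
      exact orderOf_eq_prime (by rw [pow_two, hc]) hc1))
    refine ⟨g, hP (hg c (Subgroup.mem_zpowers c)), ?_, fun e => hc1 (conj_eq_one_iff.mp e)⟩
    rw [show g * c * g⁻¹ * (g * c * g⁻¹) = g * (c * c) * g⁻¹ by group, hc]
    group
  obtain ⟨g, h1, h2, h3⟩ := key a ha ha1
  obtain ⟨g', h1', h2', h3'⟩ := key b hb hb1
  obtain ⟨h, -, hh⟩ := CfsgLib.JComp.se_involutions hU h1 h2 h3 h1' h2' h3'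
  exact (IsConj.trans (isConj_iff.mpr ⟨g, rfl⟩) (isConj_iff.mpr ⟨h, hh⟩)).trans (isConj_iff.mpr ⟨g', rfl⟩).symm

/-- Fixed-point-free automisers force a normal Sylow subgroup. -/
theorem small (B : Sylow 2 X) (hB : ∀ b ∈ (B : Subgroup X), b * b = 1) (hcard : Nat.card (B : Subgroup X) = 16)
    (hO : oddCore X = ⊥)
    (hfix : ∀ g ∈ Subgroup.normalizer ((B : Subgroup X) : Set X), Odd (orderOf g) →
      ∀ b ∈ (B : Subgroup X), b ≠ 1 → g * b = b * g → ∀ a ∈ (B : Subgroup X), g * a = a * g)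
    {p q : X} (hp : p * p = 1) (hp1 : p ≠ 1) (hq : q * q = 1) (hq1 : q ≠ 1) (hpq : ¬ IsConj p q) :
    (B : Subgroup X).Normal ∧
      ∀ b ∈ (B : Subgroup X), b ≠ 1 → Subgroup.centralizer ({b} : Set X) = (B : Subgroup X) := by
  haveI : Fact (Nat.Prime 2) := ⟨Nat.prime_two⟩
  have hab : ∀ a ∈ (B : Subgroup X), ∀ b ∈ (B : Subgroup X), a * b = b * a := by
    intro a ha b hb
    have h := invol_inv (hB _ (mul_mem ha hb))
    rw [mul_inv_rev, invol_inv (hB a ha), invol_inv (hB b hb)] at h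
    exact h.symm
  set θ : X → Subgroup X := fun b => core (Subgroup.centralizer ({b} : Set X))
  have hmem : ∀ {a b : X}, a ∈ Subgroup.centralizer ({b} : Set X) ↔ a * b = b * a :=
    Subgroup.mem_centralizer_singleton_iff
  have hsyl : ∀ P : Subgroup X, (B : Subgroup X) ≤ P → IsPGroup 2 P → P ≤ B := fun P h1 h2 =>
    (B.is_maximal' h2 h1).le
  have hctl : ∀ b ∈ (B : Subgroup X), b ≠ 1 → Ctl (Subgroup.centralizer ({b} : Set X)) (B : Subgroup X) := by
    intro b hb hb1
    refine burnside2 (fun a ha => hmem.mpr (hab a ha b hb)) hB (fun P h1 _ h3 => hsyl P h1 h3) fun n hn hnB => ?_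
    have hnN : n ∈ Subgroup.normalizer ((B : Subgroup X) : Set X) := mem_normalizer_of_le hnB
    suffices n ∈ Subgroup.centralizer ((B : Subgroup X) : Set X) from fun a ha => by
      rw [← (Subgroup.mem_centralizer_iff.mp this a ha), mul_inv_cancel_right]
    obtain ⟨k, m, hm, he⟩ := Nat.exists_eq_two_pow_mul_odd (orderOf_pos n).ne'
    refine of_two_odd hm he ?_ ?_
    · refine Subgroup.mem_centralizer_iff.mpr fun a ha => ?_
      have h2 : IsPGroup 2 (Subgroup.zpowers (n ^ m)) := by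
        obtain ⟨j, -, hj⟩ := (Nat.dvd_prime_pow Nat.prime_two).mp (show orderOf (n ^ m) ∣ 2 ^ k from
          orderOf_dvd_of_pow_eq_one (by rw [← pow_mul, mul_comm, ← he, pow_orderOf_eq_one]))
        exact IsPGroup.of_card (n := j) (by rw [Nat.card_zpowers, hj])
      have hle := hsyl _ le_sup_right (h2.to_sup_of_normal_right' B.2 (by
        rw [Subgroup.zpowers_le]; exact pow_mem hnN m))
      exact (hab _ (hle (Subgroup.mem_sup_left (Subgroup.mem_zpowers _))) a ha).symm
    · refine Subgroup.mem_centralizer_iff.mpr fun a ha => ?_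
      refine (hfix _ (pow_mem hnN _) ?_ b hb hb1 ((show Commute n b from hmem.mp hn).pow_left _).eq a ha).symm
      refine hm.of_dvd_nat (orderOf_dvd_of_pow_eq_one ?_)
      rw [← pow_mul, ← he, pow_orderOf_eq_one]
  -- odd subgroups of these centralisers lie in the core
  have hodd : ∀ b ∈ (B : Subgroup X), b ≠ 1 → ∀ g ∈ Subgroup.centralizer ({b} : Set X), Odd (orderOf g) →
      g ∈ θ b := by
    intro b hb hb1 g hg ho
    obtain ⟨n, hn, o, hoθ, e⟩ := hctl b hb hb1 g hg
    have hK : ∀ x ∈ Subgroup.centralizer ({b} : Set X), ∀ d ∈ θ b, x * d * x⁻¹ ∈ θ b :=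
      fun x hx d hd => core_conj_mem hx hd
    have h2 : g * g ∈ θ b := by
      rw [e, show n * o * (n * o) = n * o * n⁻¹ * (n * n) * o by group, hB n hn, mul_one]
      exact mul_mem (hK n (hmem.mpr (hab n hn b hb)) o hoθ) hoθ
    exact CfsgLib.AfterFT.PairClosed.mem_of_sq_mem ho h2
  have h8 : 2 ^ 3 ≤ Nat.card (B : Subgroup X) := by rw [hcard]; norm_num
  have hbal := Cfsg.Agent.S0217.result (p := 2) (B : Subgroup X) hab (fun a ha => by rw [pow_two]; exact hB a ha) h8 θ
    (fun a _ _ => core_le _)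
    (fun a _ _ hd => Nat.not_even_iff_odd.mpr (core_odd _) (even_iff_two_dvd.mpr hd))
    (fun a ha _ b hb x hx => core_conj_mem (hmem.mpr (hab b hb a ha)) hx)
    (fun a _ _ => CITQuot.solvable_of_odd (core_odd _))
    (fun a ha _ b hb hb1 x hx => hodd b hb hb1 x hx.2 (CfsgA8C.odd_orderOf (core_odd _) hx.1))
  set W : Subgroup X := ⨆ a : {a : X // a ∈ (B : Subgroup X) ∧ a ≠ 1}, θ a with hW
  have hWodd : Odd (Nat.card W) := Nat.odd_iff.mpr (Nat.two_dvd_ne_zero.mp hbal.1)
  have hBW : Subgroup.normalizer ((B : Subgroup X) : Set X) ≤ Subgroup.normalizer (W : Set X) := by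
    intro n hn
    refine mem_normalizer_of_le ?_
    suffices hle : W ≤ W.comap (MulAut.conj n).toMonoidHom from fun x hx => hle hx
    refine iSup_le fun a x hx => ?_
    obtain ⟨a, ha, ha1⟩ := a
    have hc : ∀ y, y ∈ Subgroup.centralizer ({a} : Set X) ↔
        n * y * n⁻¹ ∈ Subgroup.centralizer ({n * a * n⁻¹} : Set X) := fun y => by
      rw [hmem, hmem, show n * y * n⁻¹ * (n * a * n⁻¹) = n * (y * a) * n⁻¹ by group,
        show n * a * n⁻¹ * (n * y * n⁻¹) = n * (a * y) * n⁻¹ by group]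
      simp
    exact le_iSup (fun a : {a : X // a ∈ (B : Subgroup X) ∧ a ≠ 1} => θ a)
      ⟨n * a * n⁻¹, (Subgroup.mem_normalizer_iff.mp hn a).mp ha, fun e => ha1 (conj_eq_one_iff.mp e)⟩
      (core_conj hc hx)
  have hCW : ∀ b ∈ (B : Subgroup X), b ≠ 1 →
      Subgroup.centralizer ({b} : Set X) ≤ Subgroup.normalizer (W : Set X) := by
    intro b hb hb1 g hg
    obtain ⟨n, hn, o, ho, rfl⟩ := hctl b hb hb1 g hg
    exact mul_mem (hBW (Subgroup.le_normalizer hn)) (Subgroup.le_normalizer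
      (le_iSup (fun a : {a : X // a ∈ (B : Subgroup X) ∧ a ≠ 1} => θ a) ⟨b, hb, hb1⟩ ho))
  have hBne : (B : Subgroup X) ≠ ⊥ := fun e => by rw [e, Subgroup.card_bot] at hcard; omega
  have hse : ∀ M : Subgroup X, Subgroup.normalizer ((B : Subgroup X) : Set X) ≤ M →
      (∀ b ∈ (B : Subgroup X), b ≠ 1 → Subgroup.centralizer ({b} : Set X) ≤ M) → M = ⊤ := by
    intro M hN hC
    by_contra hM
    exact hpq (one_class_of_se (CfsgLib.TwoR.strongly_embedded_of B hM hBne hN
      (fun b hb ho => hC b hb fun e => by rw [e, orderOf_one] at ho; omega) hab) B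
      (Subgroup.le_normalizer.trans hN) hp hp1 hq hq1)
  have hW1 : W = ⊥ := by
    haveI : W.Normal := Subgroup.normalizer_eq_top_iff.mp (hse _ hBW hCW)
    exact le_bot_iff.mp (hO ▸ CfsgLib.le_oddCore hWodd)
  have hC : ∀ b ∈ (B : Subgroup X), b ≠ 1 → Subgroup.centralizer ({b} : Set X) = (B : Subgroup X) := by
    intro b hb hb1
    refine le_antisymm (fun g hg => ?_) fun a ha => hmem.mpr (hab a ha b hb)
    obtain ⟨n, hn, o, ho, rfl⟩ := hctl b hb hb1 g hg
    have : o = 1 := by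
      have := le_iSup (fun a : {a : X // a ∈ (B : Subgroup X) ∧ a ≠ 1} => θ a) ⟨b, hb, hb1⟩ ho
      rwa [← hW, hW1, Subgroup.mem_bot] at this
    rw [this, mul_one]
    exact hn
  exact ⟨Subgroup.normalizer_eq_top_iff.mp (hse _ le_rfl fun b hb hb1 => (hC b hb hb1).le.trans
    Subgroup.le_normalizer), hC⟩

end CfsgLib.M12Sylow
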