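/-
The centraliser of the central involution modulo its odd core has order 192.
-/
import Cfsg.Agent.Lib.M12Sylow.Key
import Cfsg.Agent.Lib.M12Sylow.Small
import Cfsg.Agent.Lib.PSolvable
import Cfsg.Agent.Lib.PComplement

set_option autoImplicit false
set_option maxRecDepth 100000
set_option linter.unusedSectionVars false
set_option linter.style.haveILetI false

namespace CfsgLib.M12Sylow

open Cfsg CfsgLib.G2Sylow

universe u

theorem q1_card : (Finset.univ.filter fun k : W 4 => Ev k ∧ k * uu = uu * k).card = 16 := by decide +kernel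

theorem ev_card : (Finset.univ.filter fun k : W 4 => Ev k).card = 32 := by decide +kernel

theorem orbit_card : ∀ r ∈ [r0, r1],
    (Finset.univ.filter fun w : W 4 => w = uu ∨ w = vv ∨ WConj w r).card = 6 := by decide +kernel

theorem swp_zz_conj : WConj (swp * zz) swp := by decide +kernel

theorem not_swp_swr : ¬ WConj swp swr := by decide +kernel

theorem uu_swp_facts : Ev uu ∧ Ev swp ∧ (swp : W 4) * swp = 1 ∧ (swp : W 4) ≠ 1 ∧ (swp : W 4) ≠ zz ∧ uu * zz ≠ swp ∧
    tt * uu = uu * tt ∧ ¬ Ev tt := by decide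

theorem odd_two_pow {n : ℕ} (h : Odd (2 ^ n)) : n = 0 := by
  by_contra hn
  exact absurd h (Nat.not_odd_iff_even.mpr (Nat.even_pow.mpr ⟨even_two, hn⟩))

variable {G : Type u} [Group G] [Finite G]

namespace Fr

variable (D : Fr G)

theorem card_range : Nat.card D.ω.range = 64 := by
  rw [← Nat.card_congr (MonoidHom.ofInjective D.ω_inj).toEquiv, card_W]
  norm_num

theorem range_index : ¬ 2 ∣ D.ω.range.index := by
  haveI : Fact (Nat.Prime 2) := ⟨Nat.prime_two⟩
  intro h
  have h1 : 128 ∣ Nat.card G := by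
    refine dvd_trans (dvd_trans ?_ (Subgroup.card_quotient_dvd_card (oddCore ↥D.C))) (Subgroup.card_subgroup_dvd_card D.C)
    rw [← D.ω.range.card_mul_index, D.card_range]
    exact Nat.mul_dvd_mul_left 64 h
  have h2 : Nat.card (D.S : Subgroup G) = 64 := by
    rw [← D.range_eq, ← Nat.card_congr (MonoidHom.ofInjective D.inj).toEquiv, card_W]
    norm_num
  rw [← (D.S : Subgroup G).card_mul_index, h2, show (128 : ℕ) = 64 * 2 by norm_num] at h1
  exact D.S.not_dvd_index (Nat.dvd_of_mul_dvd_mul_left (by norm_num) h1)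

theorem exists_MT : ∃ MT : Subgroup D.T, MT.index = 2 ∧ ∀ w, D.ω w ∈ MT ↔ Ev w := by
  obtain ⟨M, -, -, hM2, hMw⟩ := D.exists_M
  have hker : (QuotientGroup.mk' (oddCore ↥D.C)).ker ≤ M.subgroupOf D.C := by
    rw [QuotientGroup.ker_mk']
    exact fun x hx => CfsgLib.AfterFT.PairClosed.mem_of_sq_mem
      (CfsgLib.AfterFT.PairClosed.odd_orderOf_of_mem odd_card_oddCore hx) (Subgroup.mul_self_mem_of_index_two hM2 x)
  refine ⟨(M.subgroupOf D.C).map (QuotientGroup.mk' (oddCore ↥D.C)), ?_, fun w => ?_⟩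
  · rw [Subgroup.index_map_eq _ (QuotientGroup.mk'_surjective _) hker]
    exact hM2
  · rw [← hMw w]
    show D.κ w ∈ ((M.subgroupOf D.C).map (QuotientGroup.mk' (oddCore ↥D.C))).comap (QuotientGroup.mk' (oddCore ↥D.C)) ↔ _
    rw [Subgroup.comap_map_eq_self hker, Subgroup.mem_subgroupOf, coe_κ]

/-- The structure of the quotient. -/
theorem quot_facts :
    (∀ (t : D.T) k, Ev k → ∃ k', Ev k' ∧ t * D.ω k * t⁻¹ = D.ω k') ∧
    (∀ t : D.T, Odd (orderOf t) → ∀ k, Ev k → Commute t (D.ω k) → t = 1 ∨ k = 1 ∨ k = zz) ∧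
    Nat.card D.T = 192 ∧
    ∃ r ∈ [r0, r1], D.Z r := by
  classical
  haveI : Fact (Nat.Prime 2) := ⟨Nat.prime_two⟩
  obtain ⟨MT, hMT2, hMTw⟩ := D.exists_MT
  haveI hMTN : MT.Normal := Subgroup.normal_of_index_eq_two hMT2
  obtain ⟨hu, hs, hs2, hs1, hsz, husz, htu, htt⟩ := uu_swp_facts
  set z0 : MT := ⟨D.ω zz, (hMTw zz).mpr ev_zz⟩ with hz0
  have hz2 : z0 * z0 = 1 := Subtype.ext (by
    show D.ω zz * D.ω zz = 1
    rw [← map_mul, zz_sq, map_one])
  set Z2 := Subgroup.zpowers z0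
  have hmemZ : ∀ a : MT, a ∈ Z2 → a = 1 ∨ a = z0 := by
    rintro a ⟨i, rfl⟩
    show z0 ^ i = 1 ∨ z0 ^ i = z0
    rcases Int.even_or_odd' i with ⟨j, rfl | rfl⟩
    · left; rw [zpow_mul, zpow_ofNat, sq, hz2, one_zpow]
    · right; rw [zpow_add, zpow_mul, zpow_ofNat, sq, hz2, one_zpow, one_mul, zpow_one]
  haveI : Z2.Normal := ⟨fun a ha g => by
    have : Commute g a := by
      rcases hmemZ a ha with rfl | rfl
      · exact Commute.one_right g
      · exact Subtype.ext (D.ω_zz_comm g).eq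
    rw [this.eq, mul_inv_cancel_right]
    exact ha⟩
  set π := QuotientGroup.mk' Z2
  have hπ : ∀ a b : MT, π a = π b → b = a ∨ b = a * z0 := by
    intro a b e
    rcases hmemZ _ ((QuotientGroup.eq).mp e) with h | h
    · left; rw [inv_mul_eq_one] at h; exact h.symm
    · right; rw [← h, mul_inv_cancel_left]
  -- the kernel of even parity
  set E := parHom.ker
  have hE : ∀ {k : W 4}, k ∈ E ↔ Ev k := fun {k} => parHom_iff k
  set Qt := E.map D.ω
  have hQMT : Qt ≤ MT := by
    rintro _ ⟨k, hk, rfl⟩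
    exact (hMTw k).mpr (hE.mp hk)
  set Qs := Qt.subgroupOf MT
  have hkerQ : π.ker ≤ Qs := by
    rw [QuotientGroup.ker_mk', Subgroup.zpowers_le]
    exact Subgroup.mem_subgroupOf.mpr ⟨zz, hE.mpr ev_zz, rfl⟩
  set Bx := Qs.map π
  have hBmem : ∀ a : MT, π a ∈ Bx → ∃ k, Ev k ∧ D.ω k = a := by
    intro a ha
    have : a ∈ Bx.comap π := ha
    rw [Subgroup.comap_map_eq_self hkerQ] at this
    obtain ⟨k, hk, e⟩ := Subgroup.mem_subgroupOf.mp this
    exact ⟨k, hE.mp hk, e⟩
  have hBwit : ∀ b ∈ Bx, ∃ a : MT, ∃ k, Ev k ∧ D.ω k = a ∧ π a = b := by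
    rintro _ ⟨a, ha, rfl⟩
    obtain ⟨k, hk, e⟩ := Subgroup.mem_subgroupOf.mp ha
    exact ⟨a, k, hE.mp hk, e, rfl⟩
  have hinB : ∀ (a : MT) k, Ev k → D.ω k = a → π a ∈ Bx := fun a k hk e =>
    ⟨a, Subgroup.mem_subgroupOf.mpr ⟨k, hE.mpr hk, e⟩, rfl⟩
  have hQp : IsPGroup 2 Qs := by
    have h32 : Nat.card Qs = 2 ^ 5 := by
      rw [Nat.card_congr (Subgroup.subgroupOfEquivOfLe hQMT).toEquiv,
        Subgroup.card_map_of_injective D.ω_inj, Nat.card_eq_fintype_card]
      calc Fintype.card E = (Finset.univ.filter fun k : W 4 => Ev k).card := by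
            rw [← Fintype.card_subtype]
            exact Fintype.card_congr (Equiv.subtypeEquivRight fun k => hE)
        _ = _ := by rw [ev_card]; norm_num
    exact IsPGroup.of_card h32
  have h32 : Nat.card Qs = 32 := by
    rw [Nat.card_congr (Subgroup.subgroupOfEquivOfLe hQMT).toEquiv,
      Subgroup.card_map_of_injective D.ω_inj, Nat.card_eq_fintype_card, ← ev_card, ← Fintype.card_subtype]
    exact Fintype.card_congr (Equiv.subtypeEquivRight fun k => hE)
  obtain ⟨i, hi⟩ : ∃ i, D.ω.range.index = i := ⟨_, rfl⟩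
  have hT : Nat.card D.T = 64 * i := by rw [← D.ω.range.card_mul_index, D.card_range, hi]
  have hMTc : Nat.card MT * 2 = 64 * i := by rw [← hT, ← MT.card_mul_index, hMT2]
  have hodd : ¬ 2 ∣ i := hi ▸ D.range_index
  have hQi : Qs.index = i := by
    have h := Qs.card_mul_index
    rw [h32] at h
    omega
  have hBi : Bx.index = i := by
    rw [← hQi, Subgroup.index_map_eq _ (QuotientGroup.mk'_surjective Z2) hkerQ]
  have hBc : Nat.card Bx = 16 := by
    have h1 := Bx.card_mul_index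
    have h2 : Nat.card MT = Nat.card (MT ⧸ Z2) * Nat.card Z2 := Subgroup.card_eq_card_quotient_mul_card_subgroup Z2
    have h3 : Nat.card Z2 = 2 := by
      rw [Nat.card_zpowers]
      refine orderOf_eq_prime (by rw [sq, hz2]) fun e => zz_ne (D.ω_inj ?_)
      exact (congrArg Subtype.val e).trans (map_one D.ω).symm
    rw [hBi] at h1
    rw [h3, ← h1] at h2
    have : 0 < i := Nat.pos_of_ne_zero fun e => hodd (e ▸ dvd_zero 2)
    have h4 : Nat.card Bx * i = 16 * i := by omega
    exact Nat.eq_of_mul_eq_mul_right this h4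
  set BS : Sylow 2 (MT ⧸ Z2) := (hQp.map π).toSylow (by rw [hBi]; exact hodd)
  have hBS : (BS : Subgroup (MT ⧸ Z2)) = Bx := IsPGroup.toSylow_coe _ _
  -- the odd core
  have hOX : oddCore (MT ⧸ Z2) = ⊥ := by
    set R' := (oddCore (MT ⧸ Z2)).comap π
    have hZR : Z2 ≤ R' := fun a ha => by
      show π a ∈ oddCore _
      rw [show π a = 1 from (QuotientGroup.eq_one_iff a).mpr ha]
      exact one_mem _
    set f := π.comp R'.subtype
    have hf : f.ker = Z2.subgroupOf R' := by
      ext a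
      exact QuotientGroup.eq_one_iff (a : MT)
    have hidx : ¬ 2 ∣ (Z2.subgroupOf R').index := by
      rw [← hf, Subgroup.index_ker, MonoidHom.range_comp, Subgroup.range_subtype,
        Subgroup.map_comap_eq_self_of_surjective (QuotientGroup.mk'_surjective Z2)]
      exact fun h => Nat.not_even_iff_odd.mpr odd_card_oddCore (even_iff_two_dvd.mpr h)
    have hZp : IsPGroup 2 (Z2.subgroupOf R') := by
      intro a
      refine ⟨1, Subtype.ext (Subtype.ext ?_)⟩
      rcases hmemZ _ a.2 with h | h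
      · simp [show ((a : R') : MT) = 1 from h]
      · simp [show ((a : R') : MT) = z0 from h, sq, hz2]
    obtain ⟨P', N, hN, hcomp⟩ := hasNormalPComplement_of_normalizer_le_centralizer (hZp.toSylow hidx)
      (fun n _ => Subgroup.mem_centralizer_iff.mpr fun a ha => Subtype.ext (by
        have ha' : ((a : R') : MT) ∈ Z2 := by
          rw [IsPGroup.toSylow_coe] at ha
          exact ha
        show (a : MT) * (n : MT) = (n : MT) * (a : MT)
        rcases hmemZ _ ha' with h | h <;> rw [h]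
        · simp
        · exact Subtype.ext (D.ω_zz_comm _).eq.symm))
    haveI := hN
    have hNodd : Odd (Nat.card N) := by
      rw [← hcomp.index_eq_card, Nat.odd_iff, ← Nat.two_dvd_ne_zero]
      exact P'.not_dvd_index
    haveI : R'.Normal := (inferInstance : (oddCore (MT ⧸ Z2)).Normal).comap π
    have hN1 : N = ⊥ := by
      have h1 := (Subgroup.map_mono (f := MT.subtype) ((Subgroup.map_mono (f := R'.subtype)
        (le_oddCore hNodd)).trans (map_pPrimeCore_le 2 R'))).trans (map_pPrimeCore_le 2 MT)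
      rw [pPrimeCore_quotient_eq_bot 2, le_bot_iff, Subgroup.map_eq_bot_iff_of_injective _ MT.subtype_injective,
        Subgroup.map_eq_bot_iff_of_injective _ R'.subtype_injective] at h1
      exact h1
    have hR2 : IsPGroup 2 R' := by
      rw [hN1, Subgroup.isComplement'_bot_left] at hcomp
      exact (hcomp ▸ P'.2).of_surjective (Subgroup.topEquiv (G := R')).toMonoidHom Subgroup.topEquiv.surjective
    have h1 := hR2.map π
    rw [Subgroup.map_comap_eq_self_of_surjective (QuotientGroup.mk'_surjective Z2)] at h1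
    obtain ⟨n, hn⟩ := IsPGroup.iff_card.mp h1
    have h2 := odd_card_oddCore (G := MT ⧸ Z2)
    rw [hn] at h2
    exact Subgroup.eq_bot_of_card_eq _ (by rw [hn, odd_two_pow h2, pow_zero])
  have hsq : ∀ b ∈ Bx, b * b = 1 := by
    intro b hb
    obtain ⟨a, k, hk, e, rfl⟩ := hBwit b hb
    rw [← map_mul, QuotientGroup.mk'_apply, QuotientGroup.eq_one_iff]
    rcases ev_sq k hk with h | h
    · rw [show a * a = 1 from Subtype.ext (by show (a : D.T) * a = 1; rw [← e, ← map_mul, h, map_one])]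
      exact one_mem _
    · rw [show a * a = z0 from Subtype.ext (by show (a : D.T) * a = D.ω zz; rw [← e, ← map_mul, h])]
      exact Subgroup.mem_zpowers z0
  have hout : ∀ {a : MT} {k : W 4}, D.ω k = a → k ≠ 1 → k ≠ zz → π a ≠ 1 := by
    intro a k e h1 hz h
    rcases hmemZ a ((QuotientGroup.eq_one_iff a).mp h) with h' | h' <;> rw [h'] at e
    · exact h1 (D.ω_inj (e.trans (map_one D.ω).symm))
    · exact hz (D.ω_inj e)
  have hzpow : ∀ (a : MT), (a : D.T) * D.ω zz = D.ω zz * a := fun a => (D.ω_zz_comm _).eq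
  -- automisers
  have hfix : ∀ g ∈ Subgroup.normalizer ((BS : Subgroup (MT ⧸ Z2)) : Set (MT ⧸ Z2)), Odd (orderOf g) →
      ∀ b ∈ (BS : Subgroup (MT ⧸ Z2)), b ≠ 1 → g * b = b * g → ∀ c ∈ (BS : Subgroup (MT ⧸ Z2)), g * c = c * g := by
    intro g hg ho b hb hb1 hgb c hc
    rw [hBS] at hb hc hg
    obtain ⟨a, rfl⟩ := QuotientGroup.mk'_surjective Z2 g
    set h : MT := a * a
    have hπh : π h = π a * π a := map_mul π a a
    have hh : Odd (orderOf (h : D.T)) := by
      rw [Subgroup.orderOf_coe]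
      refine ho.of_dvd_nat (orderOf_dvd_of_pow_eq_one ?_)
      have hn : a ^ orderOf (π a) ∈ Z2 := (QuotientGroup.eq_one_iff _).mp
        ((map_pow π a _).trans (pow_orderOf_eq_one (π a)))
      rw [show h = a ^ 2 from (sq a).symm, ← pow_mul, mul_comm, pow_mul, sq]
      rcases hmemZ _ hn with e | e <;> rw [e]
      · exact one_mul _
      · exact hz2
    have hgN : π h ∈ Subgroup.normalizer (Bx : Set (MT ⧸ Z2)) := hπh ▸ mul_mem hg hg
    have hn : D.NormQ (h : D.T) := by
      intro k hk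
      set k0 : MT := ⟨D.ω k, (hMTw k).mpr hk⟩
      have h1 : π (h * k0 * h⁻¹) ∈ Bx := by
        rw [map_mul, map_mul, map_inv]
        exact (Subgroup.mem_normalizer_iff.mp hgN _).mp (hinB k0 k hk rfl)
      obtain ⟨k', hk', e⟩ := hBmem _ h1
      exact ⟨k', hk', e.symm⟩
    obtain ⟨b0, k, hk, ek, rfl⟩ := hBwit b hb
    have hk1 : k ≠ 1 := fun e => hb1 (by
      rw [show b0 = 1 from Subtype.ext (by rw [← ek, e, map_one]; rfl), map_one])
    have hkz : k ≠ zz := fun e => hb1 (by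
      rw [show b0 = z0 from Subtype.ext (by rw [← ek, e])]
      exact (QuotientGroup.eq_one_iff _).mpr (Subgroup.mem_zpowers z0))
    have hhk : Commute (h : D.T) (D.ω k) := by
      have h1 : π (h * b0) = π (b0 * h) := by
        rw [map_mul π h b0, map_mul π b0 h, hπh]
        exact ((show Commute (π a) (π b0) from hgb).mul_left hgb).eq
      rcases hπ _ _ h1 with e | e
      · rw [ek]; exact (congrArg Subtype.val e).symm
      · refine D.of_sq hh ?_
        have e' : D.ω k * (h : D.T) = (h : D.T) * D.ω k * D.ω zz := by rw [ek]; exact congrArg Subtype.val e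
        show (h : D.T) * h * D.ω k = D.ω k * ((h : D.T) * h)
        symm
        calc D.ω k * ((h : D.T) * h) = D.ω k * h * h := (mul_assoc _ _ _).symm
          _ = h * D.ω k * (D.ω zz * h) := by rw [e']; group
          _ = h * (D.ω k * h) * D.ω zz := by rw [← hzpow]; group
          _ = h * h * D.ω k * (D.ω zz * D.ω zz) := by rw [e']; group
          _ = (h : D.T) * h * D.ω k := by rw [← map_mul, zz_sq, map_one, mul_one]
    have hall := D.fix_of_point hh hn hk hk1 hkz hhk
    obtain ⟨c0, kc, hkc, ec, rfl⟩ := hBwit c hc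
    have h1 : π a * π a ∈ Subgroup.centralizer ({π c0} : Set (MT ⧸ Z2)) := by
      rw [← hπh, Subgroup.mem_centralizer_singleton_iff, ← map_mul, ← map_mul]
      congr 1
      exact Subtype.ext (by
        show (h : D.T) * c0 = c0 * h
        rw [← ec]; exact (hall kc hkc).eq)
    exact Subgroup.mem_centralizer_singleton_iff.mp (CfsgLib.AfterFT.PairClosed.mem_of_sq_mem ho h1)
  -- two classes
  set u0 : MT := ⟨D.ω uu, (hMTw uu).mpr hu⟩
  set s0 : MT := ⟨D.ω swp, (hMTw swp).mpr hs⟩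
  have hpq : ¬ IsConj (π u0) (π s0) := by
    intro h
    obtain ⟨g, hg⟩ := isConj_iff.mp h
    obtain ⟨a, rfl⟩ := QuotientGroup.mk'_surjective Z2 g
    rw [← map_inv, ← map_mul, ← map_mul] at hg
    rcases hπ _ _ hg with e | e
    · exact D.not_Z_swp ((D.class_iff uu_sq (congrArg Subtype.val e).symm).mp D.Z_uu)
    · have e' : (a : D.T) * D.ω uu * (a : D.T)⁻¹ = D.ω (swp * zz) := by
        have h' := congrArg (fun x : MT => (x : D.T) * D.ω zz) e
        simp only [Subgroup.coe_mul] at h'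
        rw [map_mul]
        show _ = D.ω swp * D.ω zz
        rw [show (s0 : D.T) = D.ω swp from rfl] at h'
        rw [h', show (z0 : D.T) = D.ω zz from rfl, mul_assoc _ (D.ω zz) (D.ω zz), ← map_mul, zz_sq, map_one, mul_one]
        rfl
      exact D.not_Z_swp ((D.Z_of_WConj swp_zz_conj).mp ((D.class_iff uu_sq e').mp D.Z_uu))
  have hu1 : π u0 ≠ 1 := hout rfl uu_ne uu_ne_zz
  have hs1' : π s0 ≠ 1 := hout rfl hs1 hsz
  obtain ⟨hBn, hBC⟩ := small BS (fun b hb => hsq b (hBS ▸ hb)) (by rw [hBS, hBc]) hOX hfix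
    (hsq _ (hinB u0 uu hu rfl)) hu1 (hsq _ (hinB s0 swp hs rfl)) hs1' hpq
  rw [hBS] at hBn hBC
  -- the kernel is normal
  have hnMT : ∀ (t : MT) k, Ev k → ∃ k', Ev k' ∧ (t : D.T) * D.ω k * (t : D.T)⁻¹ = D.ω k' := by
    intro t k hk
    obtain ⟨k', hk', e⟩ := hBmem (t * ⟨D.ω k, (hMTw k).mpr hk⟩ * t⁻¹) (by
      rw [map_mul, map_mul, map_inv]
      exact hBn.conj_mem _ (hinB _ k hk rfl) _)
    exact ⟨k', hk', e.symm⟩
  have hnorm : ∀ (t : D.T) k, Ev k → ∃ k', Ev k' ∧ t * D.ω k * t⁻¹ = D.ω k' := by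
    intro t k hk
    by_cases ht : t ∈ MT
    · exact hnMT ⟨t, ht⟩ k hk
    · have ht' : t * D.ω tt ∈ MT :=
        (Subgroup.mul_mem_iff_of_index_two hMT2).mpr ⟨fun h => absurd h ht, fun h => absurd ((hMTw tt).mp h) htt⟩
      have hk2 : Ev (tt⁻¹ * k * tt) := by
        rw [← parHom_iff] at hk ⊢
        rw [map_mul, map_mul, map_inv, hk, mul_one, inv_mul_cancel]
      obtain ⟨k', hk', e⟩ := hnMT ⟨_, ht'⟩ _ hk2
      refine ⟨k', hk', ?_⟩
      rw [← e, map_mul, map_mul, map_inv]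
      group
  have hfixed : ∀ t : D.T, Odd (orderOf t) → ∀ k, Ev k → Commute t (D.ω k) → t = 1 ∨ k = 1 ∨ k = zz := by
    intro t ho k hk hc
    by_contra hne
    push Not at hne
    have ht : t ∈ MT :=
      CfsgLib.AfterFT.PairClosed.mem_of_sq_mem ho (Subgroup.mul_self_mem_of_index_two hMT2 t)
    set k0 : MT := ⟨D.ω k, (hMTw k).mpr hk⟩
    have h1 : π ⟨t, ht⟩ ∈ Bx := by
      rw [← hBC _ (hinB k0 k hk rfl) (hout rfl hne.2.1 hne.2.2), Subgroup.mem_centralizer_singleton_iff, ← map_mul,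
        ← map_mul]
      exact congrArg π (Subtype.ext hc.eq)
    obtain ⟨k', hk', e⟩ := hBmem _ h1
    obtain ⟨j, hj⟩ := Amb.isPGroup_W k'
    obtain ⟨j', -, hj'⟩ := (Nat.dvd_prime_pow Nat.prime_two).mp (orderOf_dvd_of_pow_eq_one hj)
    rw [show t = D.ω k' from e.symm, orderOf_injective D.ω D.ω_inj, hj'] at ho
    rw [odd_two_pow ho, pow_zero, orderOf_eq_one_iff] at hj'
    exact hne.1 (by rw [show t = D.ω k' from e.symm, hj', map_one])
  -- the orbit of the rotation involution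
  set H := Subgroup.centralizer ({u0} : Set MT)
  have hH16 : Nat.card H = 16 := by
    rw [← q1_card, ← Fintype.card_subtype, ← Nat.card_eq_fintype_card]
    have hk0 : ∀ a : H, ∃ k, Ev k ∧ D.ω k = (a : MT) := fun a => by
      refine hBmem a ?_
      rw [← hBC _ (hinB u0 uu hu rfl) hu1, Subgroup.mem_centralizer_singleton_iff, ← map_mul, ← map_mul,
        Subgroup.mem_centralizer_singleton_iff.mp a.2]
    choose f hf hfe using hk0
    refine Nat.card_congr (Equiv.ofBijective (fun a => ⟨f a, hf a, D.ω_inj ?_⟩) ⟨fun a b e => ?_, fun k => ?_⟩)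
    · rw [map_mul, map_mul, hfe]
      exact congrArg Subtype.val (Subgroup.mem_centralizer_singleton_iff.mp a.2)
    · have e' : f a = f b := congrArg Subtype.val e
      exact Subtype.ext (Subtype.ext ((hfe a).symm.trans ((congrArg D.ω e').trans (hfe b))))
    · let a : H := ⟨⟨D.ω k.1, (hMTw _).mpr k.2.1⟩, Subgroup.mem_centralizer_singleton_iff.mpr (Subtype.ext (by
        show D.ω k.1 * D.ω uu = D.ω uu * D.ω k.1
        rw [← map_mul, k.2.2, map_mul]))⟩
      exact ⟨a, Subtype.ext (D.ω_inj (hfe a))⟩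
  have himg : ∀ q : MT ⧸ H, ∃ w : W 4,
      (w = uu ∨ w = vv ∨ ∃ r ∈ [r0, r1], D.Z r ∧ WConj w r) ∧
      ((q.out : MT) : D.T) * D.ω uu * ((q.out : MT) : D.T)⁻¹ = D.ω w := by
    intro q
    obtain ⟨w, hw, e⟩ := hnMT q.out uu hu
    refine ⟨w, ?_, e⟩
    have hZ : D.Z w := (D.class_iff uu_sq e).mp D.Z_uu
    have h2 : w * w = 1 := D.ω_inj (by
      rw [map_mul, ← e, ← D.conj_mul', uu_sq]
      simp)
    have h1 : w ≠ 1 := fun h => uu_ne (D.ω_inj (by rw [map_one]; rw [h, map_one] at e; exact conj_eq_one_iff.mp e))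
    rcases ev_invol w hw h2 h1 with (h | h | h | h) | hc | hc | hc | hc
    · exact absurd h h1
    · rw [h, ← D.conj_of_commute (D.ω_zz_comm ((q.out : MT) : D.T))] at e
      exact absurd (D.ω_inj (mul_left_cancel (mul_right_cancel e))) uu_ne_zz
    · exact Or.inl h
    · exact Or.inr (Or.inl h)
    · exact Or.inr (Or.inr ⟨r0, by simp, (D.Z_of_WConj hc).mp hZ, hc⟩)
    · exact Or.inr (Or.inr ⟨r1, by simp, (D.Z_of_WConj hc).mp hZ, hc⟩)
    · exact absurd ((D.Z_of_WConj hc).mp hZ) D.not_Z_swp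
    · exact absurd ((D.Z_of_WConj hc).mp hZ) D.not_Z_swr
  choose F hF hFe using himg
  have hFinj : Function.Injective F := by
    intro q q' e
    have e' := (hFe q).trans ((congrArg D.ω e).trans (hFe q').symm)
    rw [← QuotientGroup.out_eq' q, ← QuotientGroup.out_eq' q', QuotientGroup.eq]
    refine Subgroup.mem_centralizer_singleton_iff.mpr (Subtype.ext ?_)
    show ((q.out : MT) : D.T)⁻¹ * ((q'.out : MT) : D.T) * D.ω uu =
      D.ω uu * (((q.out : MT) : D.T)⁻¹ * ((q'.out : MT) : D.T))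
    calc ((q.out : MT) : D.T)⁻¹ * ((q'.out : MT) : D.T) * D.ω uu
        = ((q.out : MT) : D.T)⁻¹ * (((q'.out : MT) : D.T) * D.ω uu * ((q'.out : MT) : D.T)⁻¹) *
            ((q'.out : MT) : D.T) := by group
      _ = _ := by rw [← e']; group
  have hHi : 16 * H.index = Nat.card MT := by rw [← H.card_mul_index, hH16]
  have hle : ∀ s : Finset (W 4), (∀ q, F q ∈ s) → H.index ≤ s.card := by
    intro s hs'
    rw [Subgroup.index, ← Nat.card_eq_finsetCard]
    exact Nat.card_le_card_of_injective (fun q => (⟨F q, hs' q⟩ : s))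
      fun a b e => hFinj (congrArg Subtype.val e)
  have hr : ∃ r ∈ [r0, r1], D.Z r := by
    by_contra hno
    push Not at hno
    have h2 : H.index ≤ 2 := (hle {uu, vv} fun q => by
      rcases hF q with h | h | ⟨r, hr, hZ, -⟩
      · simp [h]
      · simp [h]
      · exact absurd hZ (hno r hr)).trans (by decide)
    have htop : D.ω.range = ⊤ := by
      rw [← Subgroup.index_eq_one, hi]
      have : 0 < i := Nat.pos_of_ne_zero fun e => hodd (e ▸ dvd_zero 2)
      omega
    obtain ⟨g, hg, e⟩ := D.step_S (r := swp) (r' := swr) (by simp [reps4]) (by simp [reps4]) D.not_Z_swp D.not_Z_swr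
    obtain ⟨c, hc⟩ : ((⟨g, Subgroup.mem_centralizer_singleton_iff.mpr hg.eq⟩ : ↥D.C) : D.T) ∈ D.ω.range :=
      htop ▸ Subgroup.mem_top _
    refine not_swp_swr ⟨c, D.ω_inj ?_⟩
    rw [map_mul, map_mul, map_inv, hc]
    exact congrArg (QuotientGroup.mk' (oddCore ↥D.C))
      (Subtype.ext e : (⟨g, Subgroup.mem_centralizer_singleton_iff.mpr hg.eq⟩ : ↥D.C) * D.κ swp *
        (⟨g, _⟩ : ↥D.C)⁻¹ = D.κ swr)
  refine ⟨hnorm, hfixed, ?_, hr⟩
  obtain ⟨r, hr', hZr⟩ := hr
  have hup : H.index ≤ 6 := (hle (Finset.univ.filter fun w : W 4 => w = uu ∨ w = vv ∨ WConj w r) fun q => by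
    refine Finset.mem_filter.mpr ⟨Finset.mem_univ _, ?_⟩
    rcases hF q with h | h | ⟨r', hr'', hZ, hc⟩
    · exact Or.inl h
    · exact Or.inr (Or.inl h)
    · simp only [List.mem_cons, List.not_mem_nil, or_false] at hr' hr''
      rcases hr' with h | h <;> rcases hr'' with h' | h' <;> subst h h'
      · exact Or.inr (Or.inr hc)
      · exact (D.not_Z_both ⟨hZr, hZ⟩).elim
      · exact (D.not_Z_both ⟨hZ, hZr⟩).elim
      · exact Or.inr (Or.inr hc)).trans (orbit_card r hr').le
  -- three different images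
  obtain ⟨g, hg, e⟩ := D.step_Z hr' hZr
  set y0 : D.T := ((⟨g, Subgroup.mem_centralizer_singleton_iff.mpr hg.eq⟩ : ↥D.C) : D.T)⁻¹
  have hy0 : y0 * D.ω uu * y0⁻¹ = D.ω r := by
    have e' : y0⁻¹ * D.ω r * y0 = D.ω uu := by
      show y0⁻¹ * D.ω r * y0 = _
      rw [show y0⁻¹ = ((⟨g, Subgroup.mem_centralizer_singleton_iff.mpr hg.eq⟩ : ↥D.C) : D.T) from inv_inv _]
      exact congrArg (QuotientGroup.mk' (oddCore ↥D.C))
        (Subtype.ext e : (⟨g, Subgroup.mem_centralizer_singleton_iff.mpr hg.eq⟩ : ↥D.C) * D.κ r *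
          (⟨g, _⟩ : ↥D.C)⁻¹ = D.κ uu)
    rw [← e']; group
  obtain ⟨y, hy, hye⟩ : ∃ y ∈ MT, y * D.ω uu * y⁻¹ = D.ω r := by
    by_cases h : y0 ∈ MT
    · exact ⟨y0, h, hy0⟩
    · refine ⟨y0 * D.ω tt,
        (Subgroup.mul_mem_iff_of_index_two hMT2).mpr ⟨fun h' => absurd h' h, fun h' => absurd ((hMTw tt).mp h') htt⟩, ?_⟩
      rw [← hy0, show y0 * D.ω tt * D.ω uu * (y0 * D.ω tt)⁻¹ = y0 * (D.ω tt * D.ω uu * (D.ω tt)⁻¹) * y0⁻¹ by group,
        ← map_mul, htu, map_mul, mul_inv_cancel_right]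
  obtain ⟨-, hrta, -⟩ := r_class r hr' r ⟨1, by simp⟩
  have hlow : 3 ≤ H.index := by
    let pts : Fin 3 → MT := ![1, s0, ⟨y, hy⟩]
    have him : ∀ j, (pts j : D.T) * D.ω uu * (pts j : D.T)⁻¹ = D.ω (![uu, vv, r] j) := by
      intro j
      fin_cases j
      · simp [pts]
      · show D.ω swp * D.ω uu * (D.ω swp)⁻¹ = _
        rw [← map_inv, ← map_mul, ← map_mul, swp_uu.1]; rfl
      · exact hye
    rw [Subgroup.index, show (3 : ℕ) = Nat.card (Fin 3) by simp]
    refine Nat.card_le_card_of_injective (fun j => (pts j : MT ⧸ H)) fun a b e => ?_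
    have hc := congrArg Subtype.val (Subgroup.mem_centralizer_singleton_iff.mp (QuotientGroup.eq.mp e))
    have h' : (pts a : D.T) * D.ω uu * (pts a : D.T)⁻¹ = (pts b : D.T) * D.ω uu * (pts b : D.T)⁻¹ := by
      simp only [Subgroup.coe_mul, Subgroup.coe_inv] at hc
      calc (pts a : D.T) * D.ω uu * (pts a : D.T)⁻¹
          = (pts a : D.T) * (D.ω uu * ((pts a : D.T)⁻¹ * (pts b : D.T))) * (pts b : D.T)⁻¹ := by group
        _ = (pts b : D.T) * D.ω uu * (pts b : D.T)⁻¹ := by
          rw [show D.ω uu = (u0 : D.T) from rfl, ← hc]; group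
    rw [him, him] at h'
    have h'' := D.ω_inj h'
    fin_cases a <;> fin_cases b <;> first
      | rfl
      | exact absurd h'' uu_ne_vv
      | exact absurd h''.symm uu_ne_vv
      | exact absurd (Or.inr (Or.inr (Or.inl h''.symm))) hrta
      | exact absurd (Or.inr (Or.inr (Or.inl h''))) hrta
      | exact absurd (Or.inr (Or.inr (Or.inr h''.symm))) hrta
      | exact absurd (Or.inr (Or.inr (Or.inr h''))) hrta
  rw [hT]
  omega

end Fr

end CfsgLib.M12Sylow
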