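/-
A group with the centraliser modulo its odd core as centraliser of an involution.
-/
import Cfsg.Agent.Lib.M12Sylow.Quot
import Cfsg.Agent.Lib.SymplecticTypeP
import Cfsg.Agent.S3344

set_option autoImplicit false
set_option maxRecDepth 100000
set_option linter.unusedSectionVars false
set_option linter.style.haveILetI false

namespace CfsgLib.M12Sylow

open Cfsg CfsgLib.G2Sylow
open scoped commutatorElement

universe u

theorem ev_center : ∀ w : W 4, Ev w → (∀ v : W 4, Ev v → w * v = v * w) → w = 1 ∨ w = zz := by decide +kernel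

theorem ev_comm : ∀ v w : W 4, Ev v → Ev w → v * w * v⁻¹ * w⁻¹ = 1 ∨ v * w * v⁻¹ * w⁻¹ = zz := by decide +kernel

theorem odd_not_fix : ∀ r ∈ [r0, r1], ∀ c : W 4, ¬ Ev c → c * r ≠ r * c := by decide +kernel

/-- A nonabelian group of order six is the symmetric group of degree three. -/
theorem perm3_of_six {X : Type u} [Group X] [Finite X] (h6 : Nat.card X = 6) {a b : X} (hab : a * b ≠ b * a) :
    Nonempty (X ≃* Equiv.Perm (Fin 3)) := by
  classical
  haveI : Fact (Nat.Prime 2) := ⟨Nat.prime_two⟩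
  obtain ⟨t, ht⟩ := exists_prime_orderOf_dvd_card' (G := X) 2 (by rw [h6]; norm_num)
  set H := Subgroup.zpowers t
  have hH : Nat.card H = 2 := by rw [Nat.card_zpowers, ht]
  have hi : Nat.card (X ⧸ H) = 3 := by
    have h := Subgroup.card_eq_card_quotient_mul_card_subgroup H
    rw [h6, hH] at h
    omega
  set φ := MulAction.toPermHom X (X ⧸ H)
  have hinj : Function.Injective φ := by
    rw [← MonoidHom.ker_eq_bot_iff, ← Subgroup.normalCore_eq_ker]
    by_contra hne
    have hle := Subgroup.normalCore_le H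
    have heq : H.normalCore = H := by
      refine Subgroup.eq_of_le_of_card_ge hle ?_
      rcases (Nat.dvd_prime Nat.prime_two).mp (hH ▸ Subgroup.card_dvd_of_le hle) with h | h
      · exact absurd (Subgroup.card_eq_one.mp h) hne
      · rw [h, hH]
    haveI hN : H.Normal := heq ▸ Subgroup.normalCore_normal H
    have hzt : ∀ g : X, Commute g t := by
      intro g
      have hm := hN.conj_mem t (Subgroup.mem_zpowers t) g
      obtain ⟨i, hi'⟩ := hm
      have hi'' : t ^ i = g * t * g⁻¹ := hi'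
      rcases Int.even_or_odd' i with ⟨j, rfl | rfl⟩
      · rw [zpow_mul, zpow_ofNat, ← ht, pow_orderOf_eq_one, one_zpow] at hi''
        exact absurd (conj_eq_one_iff.mp hi''.symm) fun e => by rw [e, orderOf_one] at ht; omega
      · rw [zpow_add, zpow_mul, zpow_ofNat, ← ht, pow_orderOf_eq_one, one_zpow, one_mul, zpow_one] at hi''
        exact mul_inv_eq_iff_eq_mul.mp hi''.symm
    haveI : Fact (Nat.Prime 3) := ⟨Nat.prime_three⟩
    haveI : IsCyclic (X ⧸ H) := isCyclic_of_prime_card hi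
    have hc : (QuotientGroup.mk' H).ker ≤ Subgroup.center X := by
      rw [QuotientGroup.ker_mk', Subgroup.zpowers_le]
      exact Subgroup.mem_center_iff.mpr fun g => (hzt g).eq
    exact hab ((commutative_of_cyclic_center_quotient (QuotientGroup.mk' H) hc) a b)
  have e : (X ⧸ H) ≃ Fin 3 := Finite.equivFinOfCardEq hi
  refine ⟨MulEquiv.ofBijective ((Equiv.permCongrHom e).toMonoidHom.comp φ)
    ((Equiv.permCongrHom e).injective.comp hinj |>.bijective_of_nat_card_le ?_)⟩
  rw [h6, Nat.card_perm, Nat.card_fin]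
  rfl

variable {G : Type u} [Group G] [Finite G]

namespace Fr

variable (D : Fr G)

/-- No element carries the rotation involution to a reflection and the odd reflection into the model. -/
theorem no_swap {t : D.T} {r : W 4} (hr : r ∈ [r0, r1]) (e : t * D.ω uu * t⁻¹ = D.ω r) {c : W 4} (hc : ¬ Ev c) :
    t * D.ω tt * t⁻¹ ≠ D.ω c := by
  intro ec
  refine odd_not_fix r hr c hc (D.ω_inj ?_)
  rw [map_mul, map_mul, ← e, ← ec]
  exact (((show Commute tt uu from uu_swp_facts.2.2.2.2.2.2.1).map D.ω).map (MulAut.conj t).toMonoidHom).eq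

/-- An element carrying the rotation involution to a reflection. -/
theorem exists_y : ∃ (r : W 4) (y : ↥D.C), r ∈ [r0, r1] ∧ D.Z r ∧ y * D.κ uu * y⁻¹ = D.κ r := by
  obtain ⟨-, -, -, r, hr, hZ⟩ := D.quot_facts
  obtain ⟨g, hg, e⟩ := D.step_Z hr hZ
  refine ⟨r, ⟨g⁻¹, Subgroup.mem_centralizer_singleton_iff.mpr hg.inv_left.eq⟩, hr, hZ, Subtype.ext ?_⟩
  show g⁻¹ * D.ι uu * g⁻¹⁻¹ = D.ι r
  rw [← e]; group

/-- The characterisation applies. -/
theorem apply_3344 {H : Type u} [Group H] [Finite H] (f : ↥D.C →* H) (hker : f.ker = oddCore ↥D.C)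
    (hrange : f.range = Subgroup.centralizer {f (D.κ zz)})
    (hnwc : ∃ h : H, h * f (D.κ zz) * h⁻¹ = f (D.κ uu)) :
    (∃ (N : Subgroup H) (hN : N.Normal), IsMulCommutative N ∧ (∀ n ∈ N, n ^ 2 = 1) ∧ Nat.card N = 8 ∧
        Nonempty (H ⧸ N ≃* Matrix.ProjectiveSpecialLinearGroup (Fin 3) (ZMod 2))) ∨
    Nonempty (H ≃* alternatingGroup (Fin 8)) ∨ Nonempty (H ≃* alternatingGroup (Fin 9)) ∨ Cfsg.Spor.IsoM12 H := by
  classical
  haveI : Fact (Nat.Prime 2) := ⟨Nat.prime_two⟩
  haveI : Fact (Nat.Prime 3) := ⟨Nat.prime_three⟩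
  obtain ⟨hnorm, hfixed, hT, -, -, -⟩ := D.quot_facts
  obtain ⟨r, y, hr, -, hy⟩ := D.exists_y
  set φ : D.T →* H := QuotientGroup.lift (oddCore ↥D.C) f hker.ge with hφ
  have hφmk : ∀ c : ↥D.C, φ (c : D.T) = f c := fun c => rfl
  have hφinj : Function.Injective φ := by
    refine (injective_iff_map_eq_one φ).mpr fun t ht => ?_
    induction t using QuotientGroup.induction_on with
    | H c => exact (QuotientGroup.eq_one_iff c).mpr (hker ▸ ht)
  have hφr : φ.range = f.range := by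
    refine le_antisymm ?_ ?_
    · rintro _ ⟨t, rfl⟩
      induction t using QuotientGroup.induction_on with
      | H c => exact ⟨c, rfl⟩
    · rintro _ ⟨c, rfl⟩
      exact ⟨c, rfl⟩
  set L := f.range
  let eL : D.T ≃* L := (MonoidHom.ofInjective hφinj).trans (MulEquiv.subgroupCongr hφr)
  have heL : ∀ t, (eL t : H) = φ t := fun t => rfl
  set E := parHom.ker
  have hE : ∀ {k : W 4}, k ∈ E ↔ Ev k := fun {k} => parHom_iff k
  set Qt := E.map D.ω
  haveI hQtN : Qt.Normal := ⟨by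
    rintro _ ⟨k, hk, rfl⟩ t
    obtain ⟨k', hk', e⟩ := hnorm t k (hE.mp hk)
    exact ⟨k', hE.mpr hk', e.symm⟩⟩
  have hWp : IsPGroup 2 D.ω.range := IsPGroup.of_card (n := 6) (by rw [D.card_range]; norm_num)
  have hQp : IsPGroup 2 Qt := hWp.to_le (Subgroup.map_le_range _ _)
  have hQc : Nat.card Qt = 32 := by
    rw [Subgroup.card_map_of_injective D.ω_inj, Nat.card_eq_fintype_card, ← ev_card, ← Fintype.card_subtype]
    exact Fintype.card_congr (Equiv.subtypeEquivRight fun k => hE)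
  have hy' : (y : D.T) * D.ω uu * (y : D.T)⁻¹ = D.ω r := congrArg (QuotientGroup.mk' (oddCore ↥D.C)) hy
  have htt : ¬ Ev tt := uu_swp_facts.2.2.2.2.2.2.2
  -- the largest normal 2-subgroup
  have hK : pCore 2 D.T = Qt := by
    refine le_antisymm ?_ (le_pCore hQp)
    intro a ha
    set P := hWp.toSylow D.range_index
    obtain ⟨g, hg⟩ := CfsgLib.G2Cent.into P (isPGroup_pCore 2 (G := D.T))
    have hle : pCore 2 D.T ≤ D.ω.range := by
      intro b hb
      have hb' := hg _ ((inferInstance : (pCore 2 D.T).Normal).conj_mem b hb g⁻¹)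
      rw [show g * (g⁻¹ * b * g⁻¹⁻¹) * g⁻¹ = b by group] at hb'
      rwa [← show (P : Subgroup D.T) = D.ω.range from IsPGroup.toSylow_coe _ _]
    obtain ⟨w, rfl⟩ := hle ha
    by_contra hw
    have hwE : ¬ Ev w := fun h => hw ⟨w, hE.mpr h, rfl⟩
    have h1 : D.ω tt ∈ pCore 2 D.T := by
      have hev : Ev (w⁻¹ * tt) := by
        have h1 := (mz_cases (parHom w)).resolve_left fun h => hwE ((parHom_iff w).mp h)
        rw [← parHom_iff, map_mul, map_inv, h1, inv_mul_cancel]
      have := mul_mem ha (le_pCore hQp ⟨_, hE.mpr hev, rfl⟩ : D.ω (w⁻¹ * tt) ∈ pCore 2 D.T)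
      rwa [← map_mul, mul_inv_cancel_left] at this
    obtain ⟨c, hc⟩ := hle ((inferInstance : (pCore 2 D.T).Normal).conj_mem _ h1 (y : D.T))
    refine D.no_swap hr hy' (fun hev => htt ?_) hc.symm
    obtain ⟨k', hk', e⟩ := hnorm (y : D.T)⁻¹ c hev
    rw [hc, show (y : D.T)⁻¹ * ((y : D.T) * D.ω tt * (y : D.T)⁻¹) * (y : D.T)⁻¹⁻¹ = D.ω tt by group] at e
    exact D.ω_inj e ▸ hk'
  have hnab : ¬ ∀ a b : D.T ⧸ pCore 2 D.T, a * b = b * a := by
    intro hall
    have h1 : (D.ω tt * (y : D.T))⁻¹ * ((y : D.T) * D.ω tt) ∈ Qt := by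
      rw [← hK, ← QuotientGroup.eq]
      exact (hall (D.ω tt : D.T ⧸ pCore 2 D.T) ((y : D.T) : D.T ⧸ pCore 2 D.T))
    obtain ⟨k, hk, ek⟩ := h1
    obtain ⟨k', hk', e⟩ := hnorm (y : D.T) k (hE.mp hk)
    refine D.no_swap hr hy' (c := tt * k') (fun hev => htt ?_) ?_
    · have := ev_mul hev (ev_inv hk')
      rwa [mul_inv_cancel_right] at this
    · rw [map_mul, ← e, ek]
      group
  have h6 : Nat.card (D.T ⧸ pCore 2 D.T) = 6 := by
    have h := Subgroup.card_eq_card_quotient_mul_card_subgroup (pCore 2 D.T)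
    rw [hT, hK, hQc] at h
    rw [hK]
    omega
  push Not at hnab
  obtain ⟨a, b, hab⟩ := hnab
  obtain ⟨e3⟩ := perm3_of_six h6 hab
  have hKL : (pCore 2 D.T).map eL.toMonoidHom = pCore 2 L := pCore_map_equiv 2 eL
  let e : L ⧸ pCore 2 L ≃* Equiv.Perm (Fin 3) :=
    (QuotientGroup.congr (pCore 2 D.T) (pCore 2 L) eL hKL).symm.trans e3
  set Q : Subgroup H := (pCore 2 L).map L.subtype with hQdef
  have hQ : Q = Qt.map φ := by
    rw [hQdef, ← hKL, hK, Subgroup.map_map]
    rfl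
  have hQmem : ∀ {g : H}, g ∈ Q → ∃ k, Ev k ∧ φ (D.ω k) = g := by
    intro g hg
    rw [hQ] at hg
    obtain ⟨_, ⟨k, hk, rfl⟩, rfl⟩ := hg
    exact ⟨k, hE.mp hk, rfl⟩
  have hmemQ : ∀ k, Ev k → φ (D.ω k) ∈ Q := fun k hk => hQ ▸ ⟨_, ⟨k, hE.mpr hk, rfl⟩, rfl⟩
  have hQcard : Nat.card Q = 32 := by rw [hQ, Subgroup.card_map_of_injective hφinj, hQc]
  set s := f (D.κ zz) with hsdef
  have hsω : φ (D.ω zz) = s := rfl
  have hs : orderOf s = 2 := by
    rw [← hsω, orderOf_injective φ hφinj, orderOf_injective D.ω D.ω_inj]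
    exact orderOf_eq_prime (by rw [sq, zz_sq]) zz_ne
  set z : Q := ⟨φ (D.ω zz), hmemQ zz ev_zz⟩
  have hzz : ∀ k, k = 1 ∨ k = zz → φ (D.ω k) ∈ Subgroup.zpowers s := by
    rintro k (rfl | rfl)
    · rw [map_one, map_one]; exact one_mem _
    · exact hsω ▸ Subgroup.mem_zpowers s
  have hzQ : ∀ (g : Q), (g : H) ∈ Subgroup.zpowers s → g ∈ Subgroup.zpowers z := by
    rintro g ⟨i, hi⟩
    exact ⟨i, Subtype.ext hi⟩
  have hQex : IsExtraspecial 2 Q := by
    refine CfsgLib.SymplecticTypeP.isExtraspecial_of (z := z) (IsPGroup.of_card (n := 5) (by rw [hQcard]; norm_num))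
      ((Subgroup.orderOf_coe z).symm.trans hs) ?_ ?_ ?_ ?_
    · intro g
      obtain ⟨k, hk, e⟩ := hQmem g.2
      refine hzQ _ ?_
      rw [sq, Subgroup.coe_mul, ← e, ← map_mul, ← map_mul]
      exact hzz _ (ev_sq k hk)
    · intro g h
      obtain ⟨k, hk, e⟩ := hQmem g.2
      obtain ⟨l, hl, e'⟩ := hQmem h.2
      refine hzQ _ ?_
      rw [show ((⁅g, h⁆ : Q) : H) = φ (D.ω (k * l * k⁻¹ * l⁻¹)) by
        simp [commutatorElement_def, e, e']]
      exact hzz _ (ev_comm k l hk hl)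
    · intro g hg
      obtain ⟨k, hk, e⟩ := hQmem g.2
      refine hzQ _ (e ▸ hzz k (ev_center k hk fun v hv => D.ω_inj (hφinj ?_)))
      rw [map_mul, map_mul, map_mul, map_mul, e]
      exact congrArg Subtype.val (hg ⟨φ (D.ω v), hmemQ v hv⟩).eq
    · refine ⟨⟨φ (D.ω uu), hmemQ uu uu_swp_facts.1⟩, ⟨φ (D.ω swp), hmemQ swp uu_swp_facts.2.1⟩, fun h => ?_⟩
      have h' : (uu : W 4) * swp = swp * uu := D.ω_inj (hφinj (by
        rw [map_mul, map_mul, map_mul, map_mul]
        exact congrArg Subtype.val h.eq))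
      exact absurd h' (by decide)
  obtain ⟨X⟩ : Nonempty (Sylow 3 L) := inferInstance
  have hXn : 3 ∣ Nat.card (X : Subgroup L) := by
    have := X.pow_dvd_card_of_pow_dvd_card (n := 1) (by
      rw [← Nat.card_congr eL.toEquiv, hT]; norm_num)
    simpa using this
  obtain ⟨x, hx⟩ := exists_prime_orderOf_dvd_card' (G := (X : Subgroup L)) 3 hXn
  have hCQX : Q ⊓ Subgroup.centralizer (((X : Subgroup L).map L.subtype : Subgroup H) : Set H) =
      Subgroup.zpowers s := by
    refine le_antisymm ?_ ?_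
    · rintro g ⟨hgQ, hgC⟩
      obtain ⟨k, hk, rfl⟩ := hQmem hgQ
      obtain ⟨t, ht⟩ := eL.surjective (x : L)
      have ht3 : orderOf t = 3 := by rw [← MulEquiv.orderOf_eq eL, ht, Subgroup.orderOf_coe, hx]
      have hc : Commute t (D.ω k) := hφinj (by
        rw [map_mul, map_mul, ← heL, ht]
        exact Subgroup.mem_centralizer_iff.mp hgC _ ⟨(x : L), x.2, rfl⟩)
      rcases hfixed t (by rw [ht3]; decide) k hk hc with h | h
      · rw [h, orderOf_one] at ht3; omega
      · exact hzz k h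
    · rw [Subgroup.zpowers_le]
      refine ⟨hsω ▸ hmemQ zz ev_zz, Subgroup.mem_centralizer_iff.mpr ?_⟩
      rintro _ ⟨l, -, rfl⟩
      have := (hrange ▸ l.2 : (l : H) ∈ Subgroup.centralizer {s})
      exact Subgroup.mem_centralizer_singleton_iff.mp this
  obtain ⟨h, hh⟩ := hnwc
  refine Cfsg.Agent.S3344.result s hs L hrange Q hQdef hQex hQcard e X hCQX ⟨h, ?_, ?_⟩
  · rw [hh]
    exact hmemQ uu uu_swp_facts.1
  · rw [hh]
    intro h'
    exact uu_ne_zz (D.ω_inj (hφinj h'))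

end Fr

end CfsgLib.M12Sylow
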