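/-
The completion of the cores over the elementary abelian subgroup of order eight of the central class.
-/
import Cfsg.Agent.Lib.M12Sylow.Apply
import Cfsg.Agent.Lib.A8Classes.Cores
import Cfsg.Agent.Lib.PSp43Real.Closure
import Cfsg.Agent.Lib.CITQuot.Basic
import Cfsg.Agent.S0217

set_option autoImplicit false
set_option maxRecDepth 100000
set_option linter.unusedSectionVars false
set_option linter.style.haveILetI false

namespace CfsgLib.M12Sylow

open Cfsg CfsgLib.G2Sylow CfsgA8C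

universe u

theorem uu_orbit : ∀ c : W 4, TA (c * uu * c⁻¹) := by decide +kernel

theorem a_closed : ∀ r ∈ [r0, r1], ∀ v : W 4, (TA v ∨ WConj v r) → v * v = 1 ∧ Ev v ∧
    (∀ w : W 4, (TA w ∨ WConj w r) → (TA (v * w) ∨ WConj (v * w) r) ∧ v * w = w * v) := by decide +kernel

theorem a_normal : ∀ r ∈ [r0, r1], ∀ v : W 4, (TA v ∨ WConj v r) → ∀ c : W 4,
    TA (c * v * c⁻¹) ∨ WConj (c * v * c⁻¹) r := by decide +kernel

theorem a_card : ∀ r ∈ [r0, r1],
    (Finset.univ.filter fun v : W 4 => TA v ∨ WConj v r).card = 8 := by decide +kernel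

variable {G : Type u} [Group G] [Finite G]

theorem cent_conj (g a y : G) : y ∈ Subgroup.centralizer ({a} : Set G) ↔
    g * y * g⁻¹ ∈ Subgroup.centralizer ({g * a * g⁻¹} : Set G) := by
  rw [Subgroup.mem_centralizer_singleton_iff, Subgroup.mem_centralizer_singleton_iff,
    show g * y * g⁻¹ * (g * a * g⁻¹) = g * (y * a) * g⁻¹ by group,
    show g * a * g⁻¹ * (g * y * g⁻¹) = g * (a * y) * g⁻¹ by group]
  simp

theorem core_cent_conj {g a o : G} (ho : o ∈ core (Subgroup.centralizer ({a} : Set G))) :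
    g * o * g⁻¹ ∈ core (Subgroup.centralizer ({g * a * g⁻¹} : Set G)) :=
  core_conj (cent_conj g a) ho

namespace Fr

variable (D : Fr G)

/-- An odd subgroup of the centraliser normalised by a kernel element lies in the core. -/
theorem odd_le {P : Subgroup G} (hP : P ≤ D.C) (hodd : Odd (Nat.card P)) {k : W 4} (hk : Ev k) (hk1 : k ≠ 1)
    (hkz : k ≠ zz) (hn : ∀ p ∈ P, D.ι k * p * (D.ι k)⁻¹ ∈ P) : P ≤ core D.C := by
  haveI : Fact (Nat.Prime 2) := ⟨Nat.prime_two⟩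
  obtain ⟨hnorm, hfixed, -, -⟩ := D.quot_facts
  intro p hp
  suffices ((⟨p, hP hp⟩ : ↥D.C) : D.T) = 1 from ⟨⟨p, hP hp⟩, (QuotientGroup.eq_one_iff _).mp this, rfl⟩
  set P' : Subgroup D.T := (P.subgroupOf D.C).map (QuotientGroup.mk' (oddCore ↥D.C))
  have hP'odd : Odd (Nat.card P') := by
    refine hodd.of_dvd_nat ?_
    rw [← Nat.card_congr (Subgroup.subgroupOfEquivOfLe hP).toEquiv]
    exact Subgroup.card_map_dvd _ _
  set t : D.T := ((⟨p, hP hp⟩ : ↥D.C) : D.T)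
  have htP : t ∈ P' := ⟨_, hp, rfl⟩
  have hodd' : ∀ a ∈ P', Odd (orderOf a) := fun a ha => CfsgA8C.odd_orderOf hP'odd ha
  have hconj : D.ω k * t * (D.ω k)⁻¹ ∈ P' := ⟨D.κ k * ⟨p, hP hp⟩ * (D.κ k)⁻¹, hn p hp, rfl⟩
  obtain ⟨k', hk', e⟩ := hnorm t k⁻¹ (ev_inv hk)
  have hm : D.ω (k * k') ∈ P' := by
    have h1 := mul_mem hconj (inv_mem htP)
    rwa [map_mul, ← e, map_inv, show D.ω k * (t * (D.ω k)⁻¹ * t⁻¹) = D.ω k * t * (D.ω k)⁻¹ * t⁻¹ by group]
  have h1 : k * k' = 1 := by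
    have ho := hodd' _ hm
    rw [orderOf_injective D.ω D.ω_inj] at ho
    obtain ⟨j, hj⟩ := Amb.isPGroup_W (k * k')
    obtain ⟨j', -, hj'⟩ := (Nat.dvd_prime_pow Nat.prime_two).mp (orderOf_dvd_of_pow_eq_one hj)
    rw [hj'] at ho
    rw [odd_two_pow ho, pow_zero] at hj'
    exact orderOf_eq_one_iff.mp hj'
  have hk'' : k' = k⁻¹ := eq_inv_of_mul_eq_one_right h1
  rw [hk''] at e
  have hc : Commute t (D.ω k) := by
    have h2 := (D.commute_of_conj e).inv_right
    rwa [← map_inv, inv_inv] at h2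
  rcases hfixed t (hodd' _ htP) k hk hc with h | h | h
  · exact h
  · exact absurd h hk1
  · exact absurd h hkz

/-- The completion of the cores. -/
theorem exists_W0 : ∃ (r s : W 4) (W0 : Subgroup G), r ∈ [r0, r1] ∧ s ∈ [r0, r1] ∧ D.Z r ∧ ¬ D.Z s ∧
    Odd (Nat.card W0) ∧ W0 ⊓ D.C = core D.C ∧ D.C ≤ Subgroup.normalizer (W0 : Set G) ∧
    D.x ∈ Subgroup.normalizer (W0 : Set G) ∧ core (Subgroup.centralizer ({D.ι s} : Set G)) ≤ W0 := by
  classical
  haveI : Fact (Nat.Prime 2) := ⟨Nat.prime_two⟩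
  obtain ⟨-, -, hT, -, -, -⟩ := D.quot_facts
  obtain ⟨r, y, hr, hZ, hy⟩ := D.exists_y
  obtain ⟨s, hs, hsZ⟩ : ∃ s ∈ [r0, r1], ¬ D.Z s := by
    by_contra hall
    push Not at hall
    exact D.not_Z_both ⟨hall r0 (by simp), hall r1 (by simp)⟩
  let A : Subgroup (W 4) :=
    { carrier := {v | TA v ∨ WConj v r}
      one_mem' := Or.inl (Or.inl rfl)
      mul_mem' := fun {v w} hv hw => ((a_closed r hr v hv).2.2 w hw).1
      inv_mem' := fun {v} hv => by
        rw [Set.mem_ofPred_eq, inv_eq_of_mul_eq_one_right (a_closed r hr v hv).1]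
        exact hv }
  have hAm : ∀ {v : W 4}, v ∈ A ↔ TA v ∨ WConj v r := Iff.rfl
  have hTA : ∀ {v : W 4}, TA v → v ∈ A := fun h => Or.inl h
  have hrA : r ∈ A := Or.inr ⟨1, by simp⟩
  set AG := A.map D.ι
  have hzA : zz ∈ A := hTA (Or.inr (Or.inl rfl))
  have huA : uu ∈ A := hTA (Or.inr (Or.inr (Or.inl rfl)))
  have hvA : vv ∈ A := hTA (Or.inr (Or.inr (Or.inr rfl)))
  have hcom : ∀ v ∈ A, ∀ w ∈ A, Commute (D.ι v) (D.ι w) := fun v hv w hw =>
    (show Commute v w from ((a_closed r hr v hv).2.2 w hw).2).map D.ι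
  have hcen : ∀ {a b : G}, a ∈ Subgroup.centralizer ({b} : Set G) ↔ Commute a b :=
    Subgroup.mem_centralizer_singleton_iff
  -- moving an element of the subgroup to the centre
  have hmove : ∀ b ∈ A, b ≠ 1 → b ≠ zz →
      ∃ g : G, g * D.ι b * g⁻¹ = D.ι zz ∧ (g * D.ι zz * g⁻¹ = D.ι uu ∨ g * D.ι zz * g⁻¹ = D.ι vv) := by
    intro b hb hb1 hbz
    rcases hb with (h | h | h | h) | ⟨c, hc⟩
    · exact absurd h hb1
    · exact absurd h hbz
    · exact ⟨D.x, by rw [h, D.xu], Or.inr D.xz⟩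
    · refine ⟨D.x * D.x, ?_, Or.inl ?_⟩
      · rw [h, show D.x * D.x * D.ι vv * (D.x * D.x)⁻¹ = D.x * (D.x * D.ι vv * D.x⁻¹) * D.x⁻¹ by group, D.xv, D.xu]
      · rw [show D.x * D.x * D.ι zz * (D.x * D.x)⁻¹ = D.x * (D.x * D.ι zz * D.x⁻¹) * D.x⁻¹ by group, D.xz, D.xv]
    · obtain ⟨g, hg, e⟩ := D.step_Z hr hZ
      refine ⟨D.x * g * D.ι c, ?_, Or.inr ?_⟩
      · rw [show D.x * g * D.ι c * D.ι b * (D.x * g * D.ι c)⁻¹
          = D.x * (g * (D.ι c * D.ι b * (D.ι c)⁻¹) * g⁻¹) * D.x⁻¹ by group, ← map_inv, ← map_mul, ← map_mul, hc, e,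
          D.xu]
      · rw [show D.x * g * D.ι c * D.ι zz * (D.x * g * D.ι c)⁻¹
          = D.x * (g * (D.ι c * D.ι zz * (D.ι c)⁻¹) * g⁻¹) * D.x⁻¹ by group, (D.comm_zz c).eq, mul_inv_cancel_right,
          hg.eq, mul_inv_cancel_right, D.xz]
  -- odd subgroups normalised by the rotations
  have hL : ∀ b ∈ A, b ≠ 1 → ∀ P : Subgroup G, P ≤ Subgroup.centralizer {D.ι b} → Odd (Nat.card P) →
      (∀ p ∈ P, D.ι uu * p * (D.ι uu)⁻¹ ∈ P) → (∀ p ∈ P, D.ι zz * p * (D.ι zz)⁻¹ ∈ P) →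
      P ≤ core (Subgroup.centralizer ({D.ι b} : Set G)) := by
    intro b hb hb1 P hP hodd hu hz
    by_cases hbz : b = zz
    · subst hbz
      exact D.odd_le hP hodd (by decide) uu_ne uu_ne_zz hu
    obtain ⟨g, e1, e2⟩ := hmove b hb hb1 hbz
    set P' := P.map (MulAut.conj g).toMonoidHom
    have hP' : P' ≤ D.C := by
      rintro _ ⟨p, hp, rfl⟩
      show g * p * g⁻¹ ∈ Subgroup.centralizer ({D.ι zz} : Set G)
      rw [← e1]
      exact (cent_conj g _ p).mp (hP hp)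
    have hodd' : Odd (Nat.card P') := by rwa [Subgroup.card_map_of_injective (MulAut.conj g).injective]
    have hle : P' ≤ core D.C := by
      have hn : ∀ w, g * D.ι zz * g⁻¹ = D.ι w → ∀ p ∈ P', D.ι w * p * (D.ι w)⁻¹ ∈ P' := by
        rintro w e _ ⟨p, hp, rfl⟩
        refine ⟨D.ι zz * p * (D.ι zz)⁻¹, hz p hp, ?_⟩
        show g * (D.ι zz * p * (D.ι zz)⁻¹) * g⁻¹ = D.ι w * (g * p * g⁻¹) * (D.ι w)⁻¹
        rw [← e]; group
      rcases e2 with e | e
      · exact D.odd_le hP' hodd' (by decide) uu_ne uu_ne_zz (hn _ e)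
      · exact D.odd_le hP' hodd' (by decide) vv_ne vv_ne_zz (hn _ e)
    intro p hp
    have h1 := core_cent_conj (g := g⁻¹) (hle ⟨p, hp, rfl⟩)
    rw [show g⁻¹ * D.ι zz * g⁻¹⁻¹ = D.ι b by rw [← e1]; group] at h1
    simpa [mul_assoc] using h1
  set θ : G → Subgroup G := fun a => core (Subgroup.centralizer ({a} : Set G))
  have hθn : ∀ a ∈ AG, ∀ b ∈ AG, ∀ p ∈ θ a, b * p * b⁻¹ ∈ θ a := by
    rintro _ ⟨v, hv, rfl⟩ _ ⟨w, hw, rfl⟩ p hp
    exact core_conj_mem (hcen.mpr (hcom w hw v hv)) hp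
  have hne : ∀ v : W 4, D.ι v ≠ 1 → v ≠ 1 := fun v h e => h (by rw [e, map_one])
  have hcard : 2 ^ 3 ≤ Nat.card AG := by
    rw [Subgroup.card_map_of_injective D.inj, Nat.card_eq_fintype_card, Fintype.card_subtype]
    exact le_of_eq ((a_card r hr).symm.trans (congrArg Finset.card (Finset.filter_congr fun v _ => hAm.symm)))
  have hbal := Cfsg.Agent.S0217.result (p := 2) AG
    (by rintro _ ⟨v, hv, rfl⟩ _ ⟨w, hw, rfl⟩; exact (hcom v hv w hw).eq)
    (by rintro _ ⟨v, hv, rfl⟩; rw [pow_two, ← map_mul, (a_closed r hr v hv).1, map_one]) hcard θ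
    (fun a _ _ => core_le _)
    (fun a _ _ hd => Nat.not_even_iff_odd.mpr (core_odd _) (even_iff_two_dvd.mpr hd))
    (fun a ha _ b hb p hp => hθn a ha b hb p hp)
    (fun a _ _ => CITQuot.solvable_of_odd (core_odd _))
    (by
      rintro _ ⟨a, ha, rfl⟩ - _ ⟨b, hb, rfl⟩ hb1
      refine hL b hb (hne b hb1) _ inf_le_right (odd_mono inf_le_left (core_odd _)) ?_ ?_
      · exact fun p hp => ⟨hθn _ ⟨a, ha, rfl⟩ _ ⟨uu, huA, rfl⟩ p hp.1,
          Subgroup.mul_mem _ (Subgroup.mul_mem _ (hcen.mpr (hcom uu huA b hb)) hp.2)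
            (Subgroup.inv_mem _ (hcen.mpr (hcom uu huA b hb)))⟩
      · exact fun p hp => ⟨hθn _ ⟨a, ha, rfl⟩ _ ⟨zz, hzA, rfl⟩ p hp.1,
          Subgroup.mul_mem _ (Subgroup.mul_mem _ (hcen.mpr (hcom zz hzA b hb)) hp.2)
            (Subgroup.inv_mem _ (hcen.mpr (hcom zz hzA b hb)))⟩)
  set W0 : Subgroup G := ⨆ a : {a : G // a ∈ AG ∧ a ≠ 1}, θ a with hW0
  have hodd : Odd (Nat.card W0) := Nat.odd_iff.mpr (Nat.two_dvd_ne_zero.mp hbal.1)
  have hz1 : D.ι zz ≠ 1 := fun h => zz_ne (D.inj (h.trans (map_one D.ι).symm))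
  have hinf : ∀ v ∈ A, v ≠ 1 → W0 ⊓ Subgroup.centralizer {D.ι v} = θ (D.ι v) := fun v hv h1 =>
    hbal.2 _ ⟨v, hv, rfl⟩ fun h => h1 (D.inj (h.trans (map_one D.ι).symm))
  have hθle : ∀ v ∈ A, v ≠ 1 → θ (D.ι v) ≤ W0 := fun v hv h1 => (hinf v hv h1).ge.trans inf_le_left
  -- the subgroup is generated by the three fixed point groups
  have hA_le : AG ≤ Subgroup.normalizer (W0 : Set G) := by
    intro b hb
    refine mem_normalizer_of_le ?_
    suffices hle : W0 ≤ W0.comap (MulAut.conj b).toMonoidHom from fun p hp => hle hp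
    refine iSup_le fun a p hp => ?_
    exact le_iSup (fun a : {a : G // a ∈ AG ∧ a ≠ 1} => θ a) a (hθn a a.2.1 b hb p hp)
  have hgen : ∀ K : Subgroup G, θ (D.ι zz) ≤ K → θ (D.ι uu) ≤ K → θ (D.ι vv) ≤ K → W0 ≤ K := by
    intro K h1 h2 h3
    have hcz := hcom zz hzA uu huA
    refine CfsgPSp43Real.odd_le_of_four (a := D.ι zz) (b := D.ι uu) (by rw [← map_mul, zz_sq, map_one])
      (by rw [← map_mul, uu_sq, map_one]) hcz hz1
      (fun h => uu_ne (D.inj (h.trans (map_one D.ι).symm))) (fun h => uu_ne_zz (D.inj h.symm)) W0 K hodd ?_ ?_ ?_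
    · intro o ho
      have := (Subgroup.mem_normalizer_iff.mp (hA_le ⟨zz, hzA, rfl⟩) o).mp ho
      rwa [inv_eq_of_mul_eq_one_right (by rw [← map_mul, zz_sq, map_one])] at this
    · intro o ho
      have := (Subgroup.mem_normalizer_iff.mp (hA_le ⟨uu, huA, rfl⟩) o).mp ho
      rwa [inv_eq_of_mul_eq_one_right (by rw [← map_mul, uu_sq, map_one])] at this
    · intro o ho hc
      rcases hc with hc | hc | hc
      · exact h1 ((hinf zz hzA zz_ne).le ⟨ho, hcen.mpr hc⟩)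
      · exact h2 ((hinf uu huA uu_ne).le ⟨ho, hcen.mpr hc⟩)
      · rw [← map_mul] at hc
        exact h3 ((hinf vv hvA vv_ne).le ⟨ho, hcen.mpr hc⟩)
  -- the normaliser
  have hN : ∀ g : G, (∀ v, v = zz ∨ v = uu ∨ v = vv → ∃ w ∈ A, g * D.ι v * g⁻¹ = D.ι w) →
      g ∈ Subgroup.normalizer (W0 : Set G) := by
    intro g hg
    refine mem_normalizer_of_le ?_
    suffices hle : W0 ≤ W0.comap (MulAut.conj g).toMonoidHom from fun p hp => hle hp
    have key : ∀ v, v = zz ∨ v = uu ∨ v = vv → θ (D.ι v) ≤ W0.comap (MulAut.conj g).toMonoidHom := by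
      intro v hv p hp
      obtain ⟨w, hw, e⟩ := hg v hv
      have h1 : w ≠ 1 := fun h => by
        rw [h, map_one] at e
        have := D.inj ((conj_eq_one_iff.mp e).trans (map_one D.ι).symm)
        rcases hv with rfl | rfl | rfl
        exacts [zz_ne this, uu_ne this, vv_ne this]
      exact hθle w hw h1 (e ▸ core_cent_conj (g := g) hp)
    exact hgen _ (key _ (Or.inl rfl)) (key _ (Or.inr (Or.inl rfl))) (key _ (Or.inr (Or.inr rfl)))
  have hWn : ∀ c : W 4, D.ι c ∈ Subgroup.normalizer (W0 : Set G) := fun c => hN _ fun v hv =>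
    ⟨c * v * c⁻¹, hAm.mpr (a_normal r hr v (by rcases hv with rfl | rfl | rfl <;> assumption) c),
      by rw [map_mul, map_mul, map_inv]⟩
  have hx : D.x ∈ Subgroup.normalizer (W0 : Set G) := hN _ fun v hv => by
    rcases hv with rfl | rfl | rfl
    exacts [⟨vv, hvA, D.xz⟩, ⟨zz, hzA, D.xu⟩, ⟨uu, huA, D.xv⟩]
  have hy0 : (y : G) * D.ι uu * (y : G)⁻¹ = D.ι r := congrArg Subtype.val hy
  have hyN : (y : G) ∈ Subgroup.normalizer (W0 : Set G) := hN _ fun v hv => by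
    rcases hv with rfl | rfl | rfl
    · exact ⟨zz, hzA, by rw [Subgroup.mem_centralizer_singleton_iff.mp y.2, mul_inv_cancel_right]⟩
    · exact ⟨r, hrA, hy0⟩
    · refine ⟨r * zz, A.mul_mem hrA hzA, ?_⟩
      rw [map_mul, ← hy0, show vv = uu * zz by decide, map_mul]
      have hyz : Commute (y : G) (D.ι zz) := Subgroup.mem_centralizer_singleton_iff.mp y.2
      calc (y : G) * (D.ι uu * D.ι zz) * (y : G)⁻¹ = (y : G) * D.ι uu * (D.ι zz * (y : G)⁻¹) := by group
        _ = (y : G) * D.ι uu * ((y : G)⁻¹ * D.ι zz) := by rw [hyz.inv_left.eq]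
        _ = _ := by group
  have hC : D.C ≤ Subgroup.normalizer (W0 : Set G) := by
    set U := (Subgroup.normalizer (W0 : Set G)).subgroupOf D.C
    have hker : (QuotientGroup.mk' (oddCore ↥D.C)).ker ≤ U := by
      rw [QuotientGroup.ker_mk']
      intro c hc
      exact Subgroup.mem_subgroupOf.mpr (Subgroup.le_normalizer (hθle zz hzA zz_ne ⟨c, hc, rfl⟩))
    set U' := U.map (QuotientGroup.mk' (oddCore ↥D.C))
    have hW' : D.ω.range ≤ U' := by
      rintro _ ⟨w, rfl⟩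
      exact ⟨D.κ w, Subgroup.mem_subgroupOf.mpr (hWn w), rfl⟩
    have htop : U' = ⊤ := by
      have h1 := Subgroup.card_dvd_of_le hW'
      rw [D.card_range] at h1
      have h2 := Subgroup.card_subgroup_dvd_card U'
      rw [hT] at h2
      obtain ⟨a, ha⟩ := h1
      rw [ha, show (192 : ℕ) = 64 * 3 by norm_num] at h2
      rcases (Nat.dvd_prime Nat.prime_three).mp (Nat.dvd_of_mul_dvd_mul_left (by norm_num) h2) with rfl | rfl
      · exfalso
        have heq : D.ω.range = U' := Subgroup.eq_of_le_of_card_ge hW' (by rw [D.card_range, ha])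
        obtain ⟨c, hc⟩ : ((y : ↥D.C) : D.T) ∈ D.ω.range := heq ▸ ⟨y, Subgroup.mem_subgroupOf.mpr hyN, rfl⟩
        have h : c * uu * c⁻¹ = r := D.ω_inj (by
          rw [map_mul, map_mul, map_inv, hc]
          exact congrArg (QuotientGroup.mk' (oddCore ↥D.C)) hy)
        exact (r_class r hr r ⟨1, by simp⟩).2.1 (h ▸ uu_orbit c)
      · exact Subgroup.eq_top_of_card_eq _ (by rw [ha, hT])
    intro c hc
    have : (⟨c, hc⟩ : ↥D.C) ∈ U'.comap (QuotientGroup.mk' (oddCore ↥D.C)) := htop ▸ Subgroup.mem_top _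
    rw [Subgroup.comap_map_eq_self hker] at this
    exact this
  refine ⟨r, s, W0, hr, hs, hZ, hsZ, hodd, hinf zz hzA zz_ne, hC, hx, ?_⟩
  -- the core of the other centraliser
  obtain ⟨-, hsu⟩ := refl_pair s hs
  have hsc : ∀ v, v = zz ∨ v = uu ∨ v = vv → D.ι v ∈ Subgroup.centralizer ({D.ι s} : Set G) := by
    intro v hv
    refine hcen.mpr ((show Commute v s from ?_).map D.ι)
    rcases hv with rfl | rfl | rfl
    · exact (zz_comm s).symm
    · exact hsu
    · rw [show vv = uu * zz by decide]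
      exact (show Commute uu s from hsu).mul_left (zz_comm s).symm
  have hpart : ∀ v, v = zz ∨ v = uu ∨ v = vv → ∀ o ∈ core (Subgroup.centralizer ({D.ι s} : Set G)),
      Commute o (D.ι v) → o ∈ W0 := by
    intro v hv o ho hc
    have hvA' : v ∈ A := by rcases hv with rfl | rfl | rfl <;> assumption
    have hv1 : v ≠ 1 := by rcases hv with rfl | rfl | rfl <;> [exact zz_ne; exact uu_ne; exact vv_ne]
    refine hθle v hvA' hv1 (hL v hvA' hv1
      (core (Subgroup.centralizer ({D.ι s} : Set G)) ⊓ Subgroup.centralizer {D.ι v}) inf_le_right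
      (odd_mono inf_le_left (core_odd _)) ?_ ?_ ⟨ho, hcen.mpr hc⟩)
    · exact fun p hp => ⟨core_conj_mem (hsc _ (Or.inr (Or.inl rfl))) hp.1,
        Subgroup.mul_mem _ (Subgroup.mul_mem _ (hcen.mpr (hcom uu huA v hvA')) hp.2)
          (Subgroup.inv_mem _ (hcen.mpr (hcom uu huA v hvA')))⟩
    · exact fun p hp => ⟨core_conj_mem (hsc _ (Or.inl rfl)) hp.1,
        Subgroup.mul_mem _ (Subgroup.mul_mem _ (hcen.mpr (hcom zz hzA v hvA')) hp.2)
          (Subgroup.inv_mem _ (hcen.mpr (hcom zz hzA v hvA')))⟩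
  refine CfsgPSp43Real.odd_le_of_four (a := D.ι zz) (b := D.ι uu) (by rw [← map_mul, zz_sq, map_one])
    (by rw [← map_mul, uu_sq, map_one]) (hcom zz hzA uu huA) hz1
    (fun h => uu_ne (D.inj (h.trans (map_one D.ι).symm))) (fun h => uu_ne_zz (D.inj h.symm))
    _ W0 (core_odd _) ?_ ?_ ?_
  · intro o ho
    have := core_conj_mem (hsc _ (Or.inl rfl)) ho
    rwa [inv_eq_of_mul_eq_one_right (by rw [← map_mul, zz_sq, map_one])] at this
  · intro o ho
    have := core_conj_mem (hsc _ (Or.inr (Or.inl rfl))) ho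
    rwa [inv_eq_of_mul_eq_one_right (by rw [← map_mul, uu_sq, map_one])] at this
  · intro o ho hc
    rcases hc with hc | hc | hc
    · exact hpart _ (Or.inl rfl) o ho hc
    · exact hpart _ (Or.inr (Or.inl rfl)) o ho hc
    · rw [← map_mul] at hc
      exact hpart _ (Or.inr (Or.inr rfl)) o ho hc

end Fr

end CfsgLib.M12Sylow
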