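/-
The centraliser of an involution of the other class and a subgroup containing the centraliser of the central one.
-/
import Cfsg.Agent.Lib.M12Sylow.Wzero
import Cfsg.Agent.Lib.M12Sylow.Steps
import Cfsg.Agent.Lib.TwoR.Setup
import Cfsg.Agent.Lib.Bender.GoodAll
import Cfsg.Agent.Lib.ZStar.Main
import Cfsg.Agent.S3277

set_option autoImplicit false
set_option maxRecDepth 100000
set_option linter.unusedSectionVars false
set_option linter.style.haveILetI false

namespace CfsgLib.M12Sylow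

open Cfsg CfsgLib.G2Sylow CfsgA8C

universe u

theorem s_facts : ∀ s ∈ [r0, r1], s * s = 1 ∧ s ≠ 1 ∧ ¬ TA s ∧ swp * s = s * swp ∧
    (WConj (swp * s) swp ∨ WConj (swp * s) swr) ∧
    (∀ a : W 4, TA a → a * s = s * a ∧ (a ≠ 1 → WConj (a * s) s)) := by decide +kernel

theorem cs_half : ∀ s ∈ [r0, r1], ∀ w : W 4, w * s = s * w → w.s = false → TA w ∨ TA (w * s) := by decide +kernel

theorem cs_invol : ∀ s ∈ [r0, r1], ∀ w : W 4, w * s = s * w → w * w = 1 →
    TA w ∨ WConj w s ∨ WConj w swp ∨ WConj w swr := by decide +kernel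

theorem swp_s_not : ∀ s ∈ [r0, r1], ¬ TA swp ∧ ¬ TA (swp * s) := by decide +kernel

theorem ta_closed : ∀ a : W 4, TA a → ∀ b : W 4, TA b → TA (a * b) := by decide +kernel

theorem ta_card : (Finset.univ.filter fun a : W 4 => TA a).card = 4 := by decide +kernel

theorem s_flag : ∀ w : W 4, w.s = true → (w * swp).s = false := by decide +kernel

theorem swp_flag : (swp : W 4).s = true ∧ (swp : W 4) * swp = 1 := by decide

variable {G : Type u} [Group G] [Finite G]

namespace Fr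

variable (D : Fr G)

set_option maxHeartbeats 1600000 in
/-- An element of the odd class whose centraliser leaves the normaliser. -/
theorem s_side {s : W 4} (hs : s ∈ [r0, r1]) (hsZ : ¬ D.Z s) (W0 : Subgroup G) (hodd : Odd (Nat.card W0))
    (hinf : W0 ⊓ D.C = core D.C) (hC : D.C ≤ Subgroup.normalizer (W0 : Set G))
    (hx : D.x ∈ Subgroup.normalizer (W0 : Set G)) (hcs : core (Subgroup.centralizer ({D.ι s} : Set G)) ≤ W0)
    (hnot : ¬ Subgroup.centralizer ({D.ι s} : Set G) ≤ Subgroup.normalizer (W0 : Set G)) :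
    (∃ h : G, h ∈ Subgroup.normalizer (W0 : Set G) ∧ Commute h (D.ι s) ∧ h * D.ι zz * h⁻¹ = D.ι uu) ∧
    ∃ n : ℕ, ¬ 5 ∣ n ∧ ∀ c ∈ Subgroup.normalizer (W0 : Set G), Commute c (D.ι s) → c ^ n ∈ W0 := by
  classical
  haveI : Fact (Nat.Prime 2) := ⟨Nat.prime_two⟩
  obtain ⟨-, hfixed, -, -⟩ := D.quot_facts
  obtain ⟨hss, hs1, hsta, hswp, hswps, hta⟩ := s_facts s hs
  obtain ⟨hswp_ta, hswps_ta⟩ := swp_s_not s hs
  obtain ⟨hswpflag, hswp2⟩ := swp_flag
  set U := Subgroup.normalizer (W0 : Set G) with hUdef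
  set Cs := Subgroup.centralizer ({D.ι s} : Set G) with hCsdef
  have hιU : ∀ w, D.ι w ∈ U := fun w =>
    hC (Subgroup.mem_centralizer_singleton_iff.mpr (D.comm_zz w).eq)
  have hx' : D.x ∈ U := hx
  -- conjugating rotations lies in the normaliser
  have hto : ∀ a, (a = zz ∨ a = uu ∨ a = vv) → ∃ g ∈ U, g * D.ι zz * g⁻¹ = D.ι a := by
    rintro a (rfl | rfl | rfl)
    · exact ⟨1, one_mem _, by group⟩
    · refine ⟨D.x⁻¹, inv_mem hx', ?_⟩
      rw [← D.xu]; group
    · exact ⟨D.x, hx', D.xz⟩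
  have hmem : ∀ {g : G} {a b : W 4}, (a = zz ∨ a = uu ∨ a = vv) → (b = zz ∨ b = uu ∨ b = vv) →
      g * D.ι a * g⁻¹ = D.ι b → g ∈ U := by
    intro g a b ha hb e
    obtain ⟨ga, hga, ea⟩ := hto a ha
    obtain ⟨gb, hgb, eb⟩ := hto b hb
    have h1 : gb⁻¹ * g * ga ∈ D.C := by
      refine Subgroup.mem_centralizer_singleton_iff.mpr (mul_inv_eq_iff_eq_mul.mp ?_)
      rw [show gb⁻¹ * g * ga * D.ι zz * (gb⁻¹ * g * ga)⁻¹ = gb⁻¹ * (g * (ga * D.ι zz * ga⁻¹) * g⁻¹) * gb by group,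
        ea, e, ← eb]
      group
    rw [show g = gb * (gb⁻¹ * g * ga) * ga⁻¹ by group]
    exact mul_mem (mul_mem hgb (hC h1)) (inv_mem hga)
  -- the model in the centraliser
  set Cw := Subgroup.centralizer ({s} : Set (W 4))
  have hCw : ∀ {w : W 4}, w ∈ Cw ↔ w * s = s * w := Subgroup.mem_centralizer_singleton_iff
  let j : Cw →* Cs := (D.ι.comp Cw.subtype).codRestrict Cs fun w =>
    Subgroup.mem_centralizer_singleton_iff.mpr ((show Commute (w : W 4) s from hCw.mp w.2).map D.ι).eq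
  have hj : ∀ w : Cw, (j w : G) = D.ι w := fun w => rfl
  have hjinj : Function.Injective j := fun a b e => Subtype.ext (D.inj (congrArg Subtype.val e))
  let sW : Cw := ⟨s, hCw.mpr rfl⟩
  -- the quotient
  set O := oddCore ↥Cs
  set p := QuotientGroup.mk' O
  set sY := p (j sW) with hsY
  have hs2 : sY * sY = 1 := by
    rw [hsY, ← map_mul, ← map_mul, show sW * sW = 1 from Subtype.ext hss, map_one, map_one]
  have hsc : ∀ g, Commute g sY := by
    intro g
    obtain ⟨c, rfl⟩ := QuotientGroup.mk'_surjective O g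
    exact (show Commute c (j sW) from Subtype.ext (Subgroup.mem_centralizer_singleton_iff.mp c.2)).map p
  haveI : (Subgroup.zpowers sY).Normal := ⟨fun a ha g => by
    have : Commute g a := by
      rcases zpowers_two hs2 ha with h | h <;> rw [h]
      · exact Commute.one_right g
      · exact hsc g
    rw [this.eq, mul_inv_cancel_right]
    exact ha⟩
  set f : ↥Cs →* (↥Cs ⧸ O) ⧸ Subgroup.zpowers sY := (QuotientGroup.mk' (Subgroup.zpowers sY)).comp p with hf
  have hfsurj : Function.Surjective f :=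
    (QuotientGroup.mk'_surjective _).comp (QuotientGroup.mk'_surjective O)
  have hf1 : ∀ g, f g = 1 → g ∈ O ∨ g * j sW ∈ O := by
    intro g hg
    rcases zpowers_two hs2 ((QuotientGroup.eq_one_iff (p g)).mp hg) with h | h
    · exact Or.inl ((QuotientGroup.eq_one_iff g).mp h)
    · refine Or.inr ((QuotientGroup.eq_one_iff (g * j sW)).mp ?_)
      show p (g * j sW) = 1
      rw [map_mul, h, ← hsY, hs2]
  have hfs : f (j sW) = 1 := (QuotientGroup.eq_one_iff (p (j sW))).mpr (Subgroup.mem_zpowers _)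
  have hfO : ∀ g ∈ O, f g = 1 := fun g hg => by
    show QuotientGroup.mk' (Subgroup.zpowers sY) (p g) = 1
    rw [show p g = 1 from (QuotientGroup.eq_one_iff g).mpr hg, map_one]
  have hOW : ∀ g ∈ O, (g : G) ∈ W0 := fun g hg => hcs ⟨g, hg, rfl⟩
  have hOK : oddCore ((↥Cs ⧸ O) ⧸ Subgroup.zpowers sY) = ⊥ :=
    oddCore_quot_central (pPrimeCore_quotient_eq_bot 2) hs2 hsc
  set τ := f.comp j with hτ
  have hjodd : ∀ w : Cw, j w ∈ O → w = 1 := by
    intro w hw
    have ho := CfsgLib.AfterFT.PairClosed.odd_orderOf_of_mem odd_card_oddCore hw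
    rw [orderOf_injective j hjinj, ← Subgroup.orderOf_coe] at ho
    obtain ⟨k, hk⟩ := Amb.isPGroup_W (w : W 4)
    obtain ⟨i, -, hi⟩ := (Nat.dvd_prime_pow Nat.prime_two).mp (orderOf_dvd_of_pow_eq_one hk)
    rw [hi] at ho
    rw [odd_two_pow ho, pow_zero] at hi
    exact Subtype.ext (orderOf_eq_one_iff.mp hi)
  have hτ1 : ∀ w : Cw, τ w = 1 → (w : W 4) = 1 ∨ (w : W 4) = s := by
    intro w hw
    rcases hf1 _ hw with h | h
    · exact Or.inl (congrArg Subtype.val (hjodd w h))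
    · rw [← map_mul] at h
      have h' : (w : W 4) * s = 1 := congrArg Subtype.val (hjodd _ h)
      exact Or.inr ((eq_inv_of_mul_eq_one_left h').trans (inv_eq_of_mul_eq_one_right hss))
  have hτs : ∀ w : Cw, τ (w * sW) = τ w := fun w => by
    rw [map_mul, show τ sW = 1 from hfs, mul_one]
  -- exact lifts
  have hlift : ∀ (g : ↥Cs) (a b : Cw), (a : W 4) * a = 1 → (b : W 4) * b = 1 → f g * τ a * (f g)⁻¹ = τ b →
      ∃ h : ↥Cs, f h = f g ∧ ((h : G) * D.ι a * (h : G)⁻¹ = D.ι b ∨ (h : G) * D.ι a * (h : G)⁻¹ = D.ι (b * s)) := by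
    intro g a b ha hb e
    set p0 := g * j a * g⁻¹
    have hp0 : p0 * p0 = 1 := by
      show g * j a * g⁻¹ * (g * j a * g⁻¹) = 1
      rw [show g * j a * g⁻¹ * (g * j a * g⁻¹) = g * (j a * j a) * g⁻¹ by group, ← map_mul,
        show a * a = 1 from Subtype.ext ha, map_one]
      group
    have hb2 : ∀ b' : Cw, (b' : W 4) * b' = 1 → p0 * j b' ∈ O →
        ∃ h : ↥Cs, f h = f g ∧ (h : G) * D.ι a * (h : G)⁻¹ = D.ι b' := by
      intro b' hb' hm
      obtain ⟨c, hc, ec⟩ := conj_mem_of_congr odd_card_oddCore hp0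
        (b := j b') (by rw [← map_mul, show b' * b' = 1 from Subtype.ext hb', map_one]) hm
      refine ⟨c * g, by rw [map_mul, hfO c hc, one_mul], ?_⟩
      rw [← hj, ← hj, ← ec]
      show (c : G) * g * j a * ((c : G) * g)⁻¹ = (c : G) * ((g : G) * j a * (g : G)⁻¹) * (c : G)⁻¹
      group
    have hone : f (p0 * j b) = 1 := by
      show f (g * j a * g⁻¹ * j b) = 1
      rw [map_mul, map_mul, map_mul, map_inv]
      show f g * τ a * (f g)⁻¹ * τ b = 1
      rw [e, ← map_mul, show b * b = 1 from Subtype.ext hb, map_one]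
    rcases hf1 _ hone with h | h
    · obtain ⟨h0, e1, e2⟩ := hb2 b hb h
      exact ⟨h0, e1, Or.inl e2⟩
    · rw [mul_assoc, ← map_mul] at h
      have hbs : ((b * sW : Cw) : W 4) * (b * sW : Cw) = 1 := by
        show (b : W 4) * s * (b * s) = 1
        rw [show (b : W 4) * s * (b * s) = b * (s * b) * s by group, ← hCw.mp b.2,
          show (b : W 4) * (b * s) * s = b * b * (s * s) by group, hb, hss, one_mul]
      obtain ⟨h0, e1, e2⟩ := hb2 _ hbs h
      exact ⟨h0, e1, Or.inr e2⟩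
  -- the classes
  have hZta : ∀ {a : W 4}, TA a → a ≠ 1 → a = zz ∨ a = uu ∨ a = vv := fun {a} h h1 => h.resolve_left h1
  have hZ3 : ∀ {a : W 4}, (a = zz ∨ a = uu ∨ a = vv) → D.Z a := by
    rintro a (rfl | rfl | rfl)
    exacts [IsConj.refl _, D.Z_uu, D.Z_vv]
  have hZconj : ∀ {h : G} {a b : W 4}, h * D.ι a * h⁻¹ = D.ι b → (D.Z a ↔ D.Z b) := fun {h a b} e => by
    have hc : IsConj (D.ι a) (D.ι b) := isConj_iff.mpr ⟨h, e⟩
    exact ⟨fun h' => hc.symm.trans h', fun h' => hc.trans h'⟩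
  have hsC : ∀ {a : W 4}, TA a → a ∈ Cw := fun h => hCw.mpr (hta _ h).1
  let Vw : Subgroup Cw :=
    { carrier := {w | TA (w : W 4)}
      one_mem' := Or.inl rfl
      mul_mem' := fun {a b} ha hb => ta_closed _ ha _ hb
      inv_mem' := fun {a} ha => by
        show TA ((a : W 4)⁻¹)
        rw [inv_eq_of_mul_eq_one_right (ta_facts _ ha).2.1]
        exact ha }
  set V1 := Vw.map τ
  set Tk := τ.range
  have hV1mem : ∀ v ∈ V1, v ≠ 1 → ∃ a : Cw, ((a : W 4) = zz ∨ (a : W 4) = uu ∨ (a : W 4) = vv) ∧ τ a = v := by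
    rintro _ ⟨a, ha, rfl⟩ hne
    exact ⟨a, hZta ha fun h => hne (by rw [show a = 1 from Subtype.ext h, map_one]), rfl⟩
  set UK := (U.subgroupOf Cs).map f
  have hkerU : f.ker ≤ U.subgroupOf Cs := by
    intro g hg
    rcases hf1 g hg with h | h
    · exact Subgroup.mem_subgroupOf.mpr (Subgroup.le_normalizer (hOW g h))
    · have h1 := mul_mem (Subgroup.le_normalizer (hOW _ h)) (inv_mem (hιU s))
      refine Subgroup.mem_subgroupOf.mpr ?_
      rwa [show ((g * j sW : ↥Cs) : G) * (D.ι s)⁻¹ = g from mul_inv_cancel_right (g : G) (D.ι s)] at h1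
  have hmovU : ∀ k, ∀ v ∈ V1, v ≠ 1 → ∀ v' ∈ V1, v' ≠ 1 → k * v * k⁻¹ = v' → k ∈ UK := by
    intro k v hv hv1 v' hv' hv'1 e
    obtain ⟨g, rfl⟩ := hfsurj k
    obtain ⟨a, ha, rfl⟩ := hV1mem v hv hv1
    obtain ⟨b, hb, rfl⟩ := hV1mem v' hv' hv'1
    have hinv : ∀ c : Cw, ((c : W 4) = zz ∨ (c : W 4) = uu ∨ (c : W 4) = vv) → (c : W 4) * c = 1 := fun c hc => by
      rcases hc with h | h | h <;> rw [h] <;> [exact zz_sq; exact uu_sq; exact vv_sq]
    obtain ⟨h, hfh, eh | eh⟩ := hlift g a b (hinv a ha) (hinv b hb) e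
    · exact ⟨h, Subgroup.mem_subgroupOf.mpr (hmem ha hb eh), hfh⟩
    · exfalso
      have hb1 : (b : W 4) ≠ 1 := by
        rcases hb with h | h | h <;> rw [h] <;> [exact zz_ne; exact uu_ne; exact vv_ne]
      have hbT : TA (b : W 4) := Or.inr hb
      exact hsZ ((D.Z_of_WConj ((hta _ hbT).2 hb1)).mp ((hZconj eh).mp (hZ3 ha)))
  have htop : UK ≠ ⊤ := by
    intro e
    refine hnot fun g hg => ?_
    have h1 : (⟨g, hg⟩ : ↥Cs) ∈ UK.comap f := e ▸ Subgroup.mem_top _
    rw [Subgroup.comap_map_eq_self hkerU] at h1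
    exact h1
  have hTkU : Tk ≤ UK := by
    rintro _ ⟨w, rfl⟩
    exact ⟨j w, Subgroup.mem_subgroupOf.mpr (hιU _), rfl⟩
  let zC : Cw := ⟨zz, hsC (Or.inr (Or.inl rfl))⟩
  let uC : Cw := ⟨uu, hsC (Or.inr (Or.inr (Or.inl rfl)))⟩
  let wC : Cw := ⟨swp, hCw.mpr hswp⟩
  have hzV : τ zC ∈ V1 := ⟨zC, Or.inr (Or.inl rfl), rfl⟩
  have huV : τ uC ∈ V1 := ⟨uC, Or.inr (Or.inr (Or.inl rfl)), rfl⟩
  have hτne : ∀ {a : Cw}, TA (a : W 4) → (a : W 4) ≠ 1 → τ a ≠ 1 := fun {a} ha h1 e => by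
    rcases hτ1 a e with h | h
    · exact h1 h
    · exact hsta (h ▸ ha)
  have hzne : τ zC ≠ 1 := hτne (Or.inr (Or.inl rfl)) zz_ne
  have huz : τ uC ≠ 1 := hτne (Or.inr (Or.inr (Or.inl rfl))) uu_ne
  -- the Sylow subgroup
  have hTkp : IsPGroup 2 Tk := (Amb.isPGroup_W.to_subgroup Cw).of_surjective τ.rangeRestrict τ.rangeRestrict_surjective
  have hTkidx : ¬ 2 ∣ Tk.index := by
    intro h
    have hs4 : s ∈ reps4 := by
      simp only [List.mem_cons, List.not_mem_nil, or_false] at hs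
      rcases hs with h | h <;> simp [reps4, h]
    obtain ⟨-, -, hcw, -⟩ := rep_facts s hs4
    have hQ : Cw.map D.ι ≤ Cs := by
      rintro _ ⟨w, hw, rfl⟩
      exact (j ⟨w, hw⟩).2
    obtain ⟨-, hrel⟩ := into_max (D.isPGroup_map Cw) (D.isPGroup_map Cw) hQ hQ (by rw [D.card_map, card_cw, hcw])
      (fun R hR hle => D.bound_s hs4 hsZ hR hle)
    refine hrel (h.trans ?_)
    rw [show Tk = j.range.map f from MonoidHom.range_comp _ _]
    refine (Subgroup.index_map_dvd _ hfsurj).trans (dvd_of_eq ?_)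
    rw [Subgroup.relIndex]
    congr 1
    ext g
    rw [Subgroup.mem_subgroupOf]
    exact ⟨fun ⟨w, e⟩ => ⟨w, w.2, congrArg Subtype.val e⟩, fun ⟨w, hw, e⟩ => ⟨⟨w, hw⟩, Subtype.ext e⟩⟩
  set P : Sylow 2 ((↥Cs ⧸ O) ⧸ Subgroup.zpowers sY) := hTkp.toSylow hTkidx
  have hP : (P : Subgroup ((↥Cs ⧸ O) ⧸ Subgroup.zpowers sY)) = Tk := IsPGroup.toSylow_coe _ _
  -- fusion of the central involution
  obtain ⟨h, hh⟩ : ∃ h : ↥Cs, (h : G) * D.ι zz * (h : G)⁻¹ = D.ι uu := by
    by_contra hno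
    push Not at hno
    have hiso : IsIsolated (τ zC) := by
      intro g hg
      set y := g * τ zC * g⁻¹
      have hy : y ∈ Subgroup.centralizer ({τ zC} : Set ((↥Cs ⧸ O) ⧸ Subgroup.zpowers sY)) :=
        Subgroup.mem_centralizer_singleton_iff.mpr hg.eq.symm
      set Ck := Subgroup.centralizer ({τ zC} : Set ((↥Cs ⧸ O) ⧸ Subgroup.zpowers sY))
      have hTC : Tk ≤ Ck := by
        rintro _ ⟨w, rfl⟩
        exact Subgroup.mem_centralizer_singleton_iff.mpr
          ((show Commute w zC from Subtype.ext (zz_comm (w : W 4))).map τ).eq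
      have hy2 : y * y = 1 := by
        show g * τ zC * g⁻¹ * (g * τ zC * g⁻¹) = 1
        rw [show g * τ zC * g⁻¹ * (g * τ zC * g⁻¹) = g * (τ zC * τ zC) * g⁻¹ by group, ← map_mul,
          show zC * zC = 1 from Subtype.ext zz_sq, map_one]
        group
      have hyp : IsPGroup 2 (Subgroup.zpowers (⟨y, hy⟩ : Ck)) := fun a => by
        obtain ⟨a, ha⟩ := a
        refine ⟨1, Subtype.ext ?_⟩
        rcases zpowers_two (show (⟨y, hy⟩ : Ck) * ⟨y, hy⟩ = 1 from Subtype.ext hy2) ha with e | e <;> subst e <;>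
          simp [sq, hy2, Subtype.ext_iff]
      obtain ⟨c, hc⟩ := CfsgLib.G2Cent.into (P.subtype (hP ▸ hTC)) hyp
      have hcy : (c : (↥Cs ⧸ O) ⧸ Subgroup.zpowers sY) * y * (c : (↥Cs ⧸ O) ⧸ Subgroup.zpowers sY)⁻¹ ∈ Tk :=
        hP ▸ (hc _ (Subgroup.mem_zpowers _) : _)
      obtain ⟨w, hw⟩ := hcy
      obtain ⟨g0, hg0⟩ := hfsurj ((c : (↥Cs ⧸ O) ⧸ Subgroup.zpowers sY) * g)
      have e0 : f g0 * τ zC * (f g0)⁻¹ = τ w := by
        rw [hw, hg0]
        show _ = (c : (↥Cs ⧸ O) ⧸ Subgroup.zpowers sY) * (g * τ zC * g⁻¹) * (c : (↥Cs ⧸ O) ⧸ Subgroup.zpowers sY)⁻¹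
        group
      have hww : (w : W 4) * w = 1 ∨ (w : W 4) * w = s := by
        refine hτ1 (w * w) ?_
        rw [map_mul, hw,
          show (c : (↥Cs ⧸ O) ⧸ Subgroup.zpowers sY) * y * (c : (↥Cs ⧸ O) ⧸ Subgroup.zpowers sY)⁻¹ *
            ((c : (↥Cs ⧸ O) ⧸ Subgroup.zpowers sY) * y * (c : (↥Cs ⧸ O) ⧸ Subgroup.zpowers sY)⁻¹) =
            c * (y * y) * (c : (↥Cs ⧸ O) ⧸ Subgroup.zpowers sY)⁻¹ by group, hy2]
        group
      have hw2 : (w : W 4) * w = 1 := hww.resolve_right fun e => by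
        have h1 : ∀ s ∈ [r0, r1], ∀ w : W 4, w * w ≠ s := by decide +kernel
        exact h1 s hs _ e
      have key : ∀ w : Cw, (w : W 4) * w = 1 → ∀ g : ↥Cs, (g : G) * D.ι zz * (g : G)⁻¹ = D.ι w →
          (w : W 4) = zz := by
        intro w hw2 g eg
        have hZ : D.Z w := (hZconj eg).mp (IsConj.refl _)
        rcases cs_invol s hs w (hCw.mp w.2) hw2 with h | h | h | h
        · rcases h with h | h | h | h
          · rw [h, map_one] at eg
            exact absurd (D.inj ((conj_eq_one_iff.mp eg).trans (map_one D.ι).symm)) zz_ne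
          · exact h
          · exact absurd (h ▸ eg) (hno g)
          · refine absurd ?_ (hno (j wC * g))
            show D.ι swp * g * D.ι zz * (D.ι swp * (g : G))⁻¹ = D.ι uu
            rw [show D.ι swp * g * D.ι zz * (D.ι swp * (g : G))⁻¹
              = D.ι swp * ((g : G) * D.ι zz * (g : G)⁻¹) * (D.ι swp)⁻¹ by group, eg, h, ← map_inv, ← map_mul,
              ← map_mul, swp_uu.2.1]
        · exact absurd ((D.Z_of_WConj h).mp hZ) hsZ
        · exact absurd ((D.Z_of_WConj h).mp hZ) D.not_Z_swp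
        · exact absurd ((D.Z_of_WConj h).mp hZ) D.not_Z_swr
      have hτw : τ w = τ zC := by
        obtain ⟨h0, -, e | e⟩ := hlift g0 zC w zz_sq hw2 e0
        · rw [show w = zC from Subtype.ext (key w hw2 h0 e)]
        · have hws : ((w * sW : Cw) : W 4) * (w * sW : Cw) = 1 := by
            show (w : W 4) * s * (w * s) = 1
            rw [show (w : W 4) * s * (w * s) = w * (s * w) * s by group, ← hCw.mp w.2,
              show (w : W 4) * (w * s) * s = w * w * (s * s) by group, hw2, hss, one_mul]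
          rw [← hτs w, show w * sW = zC from Subtype.ext (key (w * sW) hws h0 e)]
      have hcz : (c : (↥Cs ⧸ O) ⧸ Subgroup.zpowers sY) * τ zC = τ zC * c :=
        Subgroup.mem_centralizer_singleton_iff.mp c.2
      rw [hτw] at hw
      exact (mul_left_cancel (mul_right_cancel ((show (c : (↥Cs ⧸ O) ⧸ Subgroup.zpowers sY) * τ zC *
        (c : (↥Cs ⧸ O) ⧸ Subgroup.zpowers sY)⁻¹ = τ zC by rw [hcz, mul_inv_cancel_right]).trans hw))).symm
    refine htop (eq_top_iff.mpr fun k _ => ?_)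
    have hk := CfsgLib.ZStar.inZStar (orderOf_eq_prime (by
      rw [sq, ← map_mul, show zC * zC = 1 from Subtype.ext zz_sq, map_one]) hzne) hiso k
    rw [show pPrimeCore 2 ((↥Cs ⧸ O) ⧸ Subgroup.zpowers sY) = oddCore _ from rfl, hOK, Subgroup.mem_bot,
      mul_inv_eq_one] at hk
    exact hmovU k _ hzV hzne _ hzV hzne hk
  have hhU : (h : G) ∈ U := hmem (Or.inl rfl) (Or.inr (Or.inl rfl)) hh
  refine ⟨⟨h, hhU, Subgroup.mem_centralizer_singleton_iff.mp h.2, hh⟩, ?_⟩
  -- the subgroup of index two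
  have hfh : f h * τ zC * (f h)⁻¹ = τ uC := by
    show f h * f (j zC) * (f h)⁻¹ = f (j uC)
    rw [← map_inv, ← map_mul, ← map_mul]
    exact congrArg f (Subtype.ext hh)
  have hhalf : ∀ w : Cw, (w : W 4).s = false → τ w ∈ V1 := by
    intro w hw
    rcases cs_half s hs w (hCw.mp w.2) hw with h | h
    · exact ⟨w, h, rfl⟩
    · exact ⟨w * sW, h, hτs w⟩
  have hwnot : τ wC ∉ V1 := by
    rintro ⟨a, ha, e⟩
    have h1 : τ (a * wC) = 1 := by
      rw [map_mul, e, ← map_mul, show wC * wC = 1 from Subtype.ext hswp2, map_one]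
    obtain ⟨-, ha2, -⟩ := ta_facts _ ha
    rcases hτ1 _ h1 with h' | h'
    · refine hswp_ta ?_
      rw [show swp = (a : W 4) from ((eq_inv_of_mul_eq_one_right (show (a : W 4) * swp = 1 from h')).trans
        (inv_eq_of_mul_eq_one_right ha2))]
      exact ha
    · refine hswps_ta ?_
      rw [show (swp : W 4) = a * s from by
        rw [← show (a : W 4) * swp = s from h', ← mul_assoc, ha2, one_mul], mul_assoc, hss, mul_one]
      exact ha
  have hV1Tk : V1 ≤ Tk := Subgroup.map_le_range _ _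
  have hrel2 : V1.relIndex (P : Subgroup ((↥Cs ⧸ O) ⧸ Subgroup.zpowers sY)) = 2 := by
    rw [hP]
    refine Subgroup.index_eq_two_iff.mpr ⟨⟨τ wC, wC, rfl⟩, ?_⟩
    rintro ⟨_, w, rfl⟩
    show Xor (τ w * τ wC ∈ V1) (τ w ∈ V1)
    cases hw : (w : W 4).s
    · refine Or.inr ⟨hhalf w hw, fun h' => hwnot ?_⟩
      have := V1.mul_mem (V1.inv_mem (hhalf w hw)) h'
      rwa [inv_mul_cancel_left] at this
    · have h' : τ w * τ wC ∈ V1 := by
        rw [← map_mul]
        exact hhalf _ (s_flag _ hw)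
      refine Or.inl ⟨h', fun h'' => hwnot ?_⟩
      have := V1.mul_mem (V1.inv_mem h'') h'
      rwa [inv_mul_cancel_left] at this
  obtain ⟨χ, hχ⟩ := transfer_neg P V1 (hP ▸ hV1Tk) hrel2 (τ wC)
    (by rw [← map_mul, show wC * wC = 1 from Subtype.ext hswp2, map_one]) (fun g hg => by
      obtain ⟨g0, rfl⟩ := hfsurj g
      obtain ⟨a, ha, e⟩ := hg
      obtain ⟨-, ha2, -⟩ := ta_facts _ ha
      obtain ⟨h0, -, eh | eh⟩ := hlift g0 wC a hswp2 ha2 e.symm
      · rcases ha with h' | h'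
        · rw [h', map_one] at eh
          exact hswp_ta (Or.inl (D.inj ((conj_eq_one_iff.mp eh).trans (map_one D.ι).symm)))
        · exact D.not_Z_swp ((hZconj eh).mpr (hZ3 h'))
      · rcases ha with h' | h'
        · rw [h', one_mul] at eh
          refine hwnot ⟨1, Or.inl rfl, ?_⟩
          have hfe : f h0 * τ wC * (f h0)⁻¹ = τ sW := by
            show f h0 * f (j wC) * (f h0)⁻¹ = f (j sW)
            rw [← map_inv, ← map_mul, ← map_mul]
            exact congrArg f (Subtype.ext eh)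
          rw [show τ sW = 1 from hfs] at hfe
          rw [map_one, conj_eq_one_iff.mp hfe]
        · have hns : ¬ D.Z (swp * s) := fun hZ' => by
            rcases hswps with hc | hc
            · exact D.not_Z_swp ((D.Z_of_WConj hc).mp hZ')
            · exact D.not_Z_swr ((D.Z_of_WConj hc).mp hZ')
          have hh0 : Commute (h0 : G) (D.ι s) := Subgroup.mem_centralizer_singleton_iff.mp h0.2
          refine hns ((hZconj (h := (h0 : G)) (b := (a : W 4)) ?_).mpr (hZ3 h'))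
          calc (h0 : G) * D.ι (swp * s) * (h0 : G)⁻¹
              = ((h0 : G) * D.ι swp * (h0 : G)⁻¹) * ((h0 : G) * D.ι s * (h0 : G)⁻¹) := by rw [map_mul]; group
            _ = D.ι ((a : W 4) * s) * D.ι s := by rw [eh, hh0.eq, mul_inv_cancel_right]
            _ = D.ι (a : W 4) := by rw [← map_mul, mul_assoc, hss, mul_one])
  have hχz : χ (τ zC) = 1 := by
    have h1 : zC = wC * uC * wC⁻¹ * uC⁻¹ := Subtype.ext swp_uu_comm.symm
    rw [h1]
    simp only [map_mul, map_inv]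
    rw [mul_comm (χ (τ wC)) (χ (τ uC)), mul_inv_cancel_right, mul_inv_cancel]
  have hχu : χ (τ uC) = 1 := by
    rw [← hfh, map_mul, map_mul, map_inv, hχz, mul_one, mul_inv_cancel]
  have hV1K : V1 ≤ χ.ker := by
    rintro _ ⟨a, ha, rfl⟩
    rw [MonoidHom.mem_ker]
    rcases ha with h' | h' | h' | h'
    · rw [show a = 1 from Subtype.ext h', map_one, map_one]
    · rw [show a = zC from Subtype.ext h', hχz]
    · rw [show a = uC from Subtype.ext h', hχu]
    · rw [show a = uC * zC from Subtype.ext (h'.trans (show (vv : W 4) = uu * zz by decide)), map_mul, map_mul, hχu,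
        hχz, mul_one]
  set K0 := χ.ker
  have hK0i : K0.index = 2 := by
    rw [Subgroup.index_ker, MonoidHom.range_eq_top.mpr, Subgroup.card_top, Nat.card_eq_fintype_card,
      Fintype.card_units_int]
    intro b
    rcases Int.units_eq_one_or b with rfl | rfl
    · exact ⟨1, map_one χ⟩
    · exact ⟨τ wC, hχ⟩
  have hV14 : Nat.card V1 = 4 := by
    have h1 : Nat.card Vw = 4 := by
      refine Eq.trans ?_ ta_card
      rw [← Fintype.card_subtype, ← Nat.card_eq_fintype_card]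
      exact Nat.card_congr
        { toFun := fun a => ⟨((a : Cw) : W 4), a.2⟩
          invFun := fun a => ⟨⟨a.1, hsC a.2⟩, a.2⟩
          left_inv := fun a => rfl
          right_inv := fun a => rfl }
    rw [← h1]
    refine Nat.card_congr (Equiv.ofBijective (fun a : Vw => (⟨τ a, a, a.2, rfl⟩ : V1)) ⟨fun a b e => ?_, ?_⟩).symm
    · have e' : τ ((a : Cw)⁻¹ * b) = 1 := by
        rw [map_mul, map_inv, show τ (a : Cw) = τ b from congrArg Subtype.val e, inv_mul_cancel]
      refine Subtype.ext ((inv_mul_eq_one).mp ?_)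
      by_contra hne
      exact hτne (Vw.mul_mem (Vw.inv_mem a.2) b.2) (fun h' => hne (Subtype.ext h')) e'
    · rintro ⟨_, a, ha, rfl⟩
      exact ⟨⟨a, ha⟩, rfl⟩
  have hTk8 : Nat.card Tk = 8 := by
    rw [hP] at hrel2
    rw [← (V1.subgroupOf Tk).card_mul_index, show (V1.subgroupOf Tk).index = 2 from hrel2,
      Nat.card_congr (Subgroup.subgroupOfEquivOfLe hV1Tk).toEquiv, hV14]
  have hVp : IsPGroup 2 (V1.subgroupOf K0) := IsPGroup.of_card (n := 2) (by
    rw [Nat.card_congr (Subgroup.subgroupOfEquivOfLe hV1K).toEquiv, hV14]; norm_num)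
  have hVidx : ¬ 2 ∣ (V1.subgroupOf K0).index := by
    have h1 := (V1.subgroupOf K0).card_mul_index
    rw [Nat.card_congr (Subgroup.subgroupOfEquivOfLe hV1K).toEquiv, hV14] at h1
    have h2 := K0.card_mul_index
    rw [hK0i, ← Tk.card_mul_index, hTk8] at h2
    omega
  set BS : Sylow 2 K0 := hVp.toSylow hVidx
  have hBS : (BS : Subgroup K0) = V1.subgroupOf K0 := IsPGroup.toSylow_coe _ _
  set H0 := UK.subgroupOf K0
  have hH0 : H0 ≠ ⊤ := by
    intro e
    refine htop (eq_top_iff.mpr fun k _ => ?_)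
    have hK : ∀ a ∈ K0, a ∈ UK := fun a ha => (show (⟨a, ha⟩ : K0) ∈ H0 from e ▸ Subgroup.mem_top _)
    by_cases hk : k ∈ K0
    · exact hK k hk
    · have hw : τ wC ∉ K0 := fun h' => by
        rw [MonoidHom.mem_ker, hχ] at h'
        exact absurd h' (by decide)
      have h1 := hK _ ((Subgroup.mul_mem_iff_of_index_two hK0i).mpr ⟨fun h' => absurd h' hk, fun h' => absurd h' hw⟩ :
        k * τ wC ∈ K0)
      have h2 := UK.mul_mem h1 (UK.inv_mem (hTkU ⟨wC, rfl⟩))
      rwa [mul_inv_cancel_right] at h2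
  have hV1sq : ∀ v ∈ V1, v * v = 1 := by
    rintro _ ⟨a, ha, rfl⟩
    rw [← map_mul, show a * a = 1 from Subtype.ext (ta_facts _ ha).2.1, map_one]
  have hBab : ∀ a ∈ (BS : Subgroup K0), ∀ b ∈ (BS : Subgroup K0), a * b = b * a := by
    intro a ha b hb
    rw [hBS, Subgroup.mem_subgroupOf] at ha hb
    refine Subtype.ext ?_
    show (a : (↥Cs ⧸ O) ⧸ Subgroup.zpowers sY) * b = b * a
    have h1 := inv_eq_of_mul_eq_one_right (hV1sq _ (V1.mul_mem ha hb))
    rw [mul_inv_rev, inv_eq_of_mul_eq_one_right (hV1sq _ ha), inv_eq_of_mul_eq_one_right (hV1sq _ hb)] at h1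
    exact h1.symm
  have hBne : (BS : Subgroup K0) ≠ ⊥ := fun e => by
    have h1 : Nat.card (BS : Subgroup K0) = 4 := by
      rw [hBS, Nat.card_congr (Subgroup.subgroupOfEquivOfLe hV1K).toEquiv, hV14]
    rw [e, Subgroup.card_bot] at h1
    omega
  have hNB : Subgroup.normalizer ((BS : Subgroup K0) : Set K0) ≤ H0 := by
    intro k hk
    rw [hBS] at hk
    have h1 : (k : (↥Cs ⧸ O) ⧸ Subgroup.zpowers sY) * τ zC * (k : (↥Cs ⧸ O) ⧸ Subgroup.zpowers sY)⁻¹ ∈ V1 :=
      (Subgroup.mem_normalizer_iff.mp hk ⟨τ zC, hV1K hzV⟩).mp hzV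
    exact hmovU _ _ hzV hzne _ h1 (fun e => hzne (conj_eq_one_iff.mp e)) rfl
  have hCB : ∀ t ∈ (BS : Subgroup K0), orderOf t = 2 → Subgroup.centralizer ({t} : Set K0) ≤ H0 := by
    intro t ht ho k hk
    rw [hBS, Subgroup.mem_subgroupOf] at ht
    have hne : (t : (↥Cs ⧸ O) ⧸ Subgroup.zpowers sY) ≠ 1 := fun e => by
      rw [← Subgroup.orderOf_coe, e, orderOf_one] at ho; omega
    refine hmovU _ _ ht hne _ ht hne ?_
    have h1 : (k : (↥Cs ⧸ O) ⧸ Subgroup.zpowers sY) * t = t * k :=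
      congrArg Subtype.val (Subgroup.mem_centralizer_singleton_iff.mp hk)
    show (k : (↥Cs ⧸ O) ⧸ Subgroup.zpowers sY) * t * (k : (↥Cs ⧸ O) ⧸ Subgroup.zpowers sY)⁻¹ = t
    rw [h1, mul_inv_cancel_right]
  have hse : IsStronglyEmbedded H0 := CfsgLib.TwoR.strongly_embedded_of BS hH0 hBne hNB hCB hBab
  have hO0 : oddCore K0 = ⊥ := by
    have h1 := map_pPrimeCore_le 2 K0
    rw [show pPrimeCore 2 ((↥Cs ⧸ O) ⧸ Subgroup.zpowers sY) = oddCore _ from rfl, hOK, le_bot_iff,
      Subgroup.map_eq_bot_iff_of_injective _ K0.subtype_injective] at h1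
    exact h1
  -- the odd part of the normaliser
  set N1 := (W0.subgroupOf Cs).map f
  have hN1odd : Odd (Nat.card N1) := by
    refine Odd.of_dvd_nat ?_ (Subgroup.card_map_dvd _ _)
    rw [← Subgroup.card_map_of_injective Cs.subtype_injective, Subgroup.subgroupOf_map_subtype]
    exact odd_mono inf_le_left hodd
  have hN1U : N1 ≤ UK := Subgroup.map_mono fun g hg => Subgroup.le_normalizer hg
  have hN1K : ∀ a ∈ N1, a ∈ K0 := fun a ha => CfsgLib.AfterFT.PairClosed.mem_of_sq_mem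
    (CfsgA8C.odd_orderOf hN1odd ha) (Subgroup.mul_self_mem_of_index_two hK0i a)
  have hN1 : N1 = ⊥ := by
    set N2 := (N1.subgroupOf K0).subgroupOf H0
    have hN2n : N2.Normal := ⟨by
      rintro a ha ⟨⟨k, hk⟩, hkU⟩
      obtain ⟨c, hc, ec⟩ := (hkU : k ∈ UK)
      obtain ⟨d, hd, ed⟩ := (ha : (((a : H0) : K0) : (↥Cs ⧸ O) ⧸ Subgroup.zpowers sY) ∈ N1)
      refine ⟨c * d * c⁻¹, (Subgroup.mem_normalizer_iff.mp (hc : (c : G) ∈ U) _).mp hd, ?_⟩
      show f (c * d * c⁻¹) = k * _ * k⁻¹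
      rw [map_mul, map_mul, map_inv, ec, ed]; rfl⟩
    have hle : N1.subgroupOf K0 ≤ H0 := fun a ha => hN1U ha
    have h2 : Odd (Nat.card N2) := by
      rw [Nat.card_congr (Subgroup.subgroupOfEquivOfLe hle).toEquiv,
        Nat.card_congr (Subgroup.subgroupOfEquivOfLe (fun a ha => hN1K a ha)).toEquiv]
      exact hN1odd
    have h3 := (Subgroup.map_mono (f := H0.subtype) (le_oddCore h2)).trans
      (CfsgLib.Bender.Assembly.oddCore_le CfsgLib.Bender.Assembly.goodAll hse)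
    rw [hO0, le_bot_iff, Subgroup.map_eq_bot_iff_of_injective _ H0.subtype_injective] at h3
    refine (Subgroup.eq_bot_iff_forall _).mpr fun a ha => ?_
    have h4 : (⟨⟨a, hN1K a ha⟩, hN1U ha⟩ : H0) ∈ N2 := ha
    rw [h3, Subgroup.mem_bot] at h4
    exact congrArg (fun t : H0 => ((t : K0) : (↥Cs ⧸ O) ⧸ Subgroup.zpowers sY)) h4
  -- the centraliser of the central involution
  set zK : K0 := ⟨τ zC, hV1K hzV⟩
  have hcent : Subgroup.centralizer ({zK} : Set K0) = (BS : Subgroup K0) := by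
    refine BS.is_maximal' ?_ fun a ha => ?_
    · intro k
      obtain ⟨g, hg⟩ := hfsurj ((k : K0) : (↥Cs ⧸ O) ⧸ Subgroup.zpowers sY)
      have hcomm : ((k : K0) : (↥Cs ⧸ O) ⧸ Subgroup.zpowers sY) * τ zC *
          ((k : K0) : (↥Cs ⧸ O) ⧸ Subgroup.zpowers sY)⁻¹ = τ zC := by
        have h1 := congrArg Subtype.val (Subgroup.mem_centralizer_singleton_iff.mp k.2)
        exact mul_inv_eq_iff_eq_mul.mpr h1
      obtain ⟨c, hc, ec | ec⟩ := hlift g zC zC zz_sq zz_sq (by rw [hg]; exact hcomm)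
      · obtain ⟨e, m, hm, he⟩ := Nat.exists_eq_two_pow_mul_odd (orderOf_pos c).ne'
        refine ⟨e, Subtype.ext (Subtype.ext ?_)⟩
        show ((k : K0) : (↥Cs ⧸ O) ⧸ Subgroup.zpowers sY) ^ 2 ^ e = 1
        rw [← hg, ← hc, ← map_pow, ← Subgroup.mem_bot, ← hN1]
        refine ⟨c ^ 2 ^ e, ?_, rfl⟩
        show ((c ^ 2 ^ e : ↥Cs) : G) ∈ W0
        have hcC : (c : G) ∈ D.C := Subgroup.mem_centralizer_singleton_iff.mpr (mul_inv_eq_iff_eq_mul.mp ec)
        set d : ↥D.C := ⟨(c : G) ^ 2 ^ e, pow_mem hcC _⟩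
        have ho : Odd (orderOf d) := by
          rw [← Subgroup.orderOf_coe]
          show Odd (orderOf ((c : G) ^ 2 ^ e))
          refine hm.of_dvd_nat (orderOf_dvd_of_pow_eq_one ?_)
          rw [← pow_mul, ← he, ← Subgroup.orderOf_coe, pow_orderOf_eq_one]
        have hd : Commute d (D.κ s) := Subtype.ext
          ((show Commute (c : G) (D.ι s) from Subgroup.mem_centralizer_singleton_iff.mp c.2).pow_left _).eq
        rcases hfixed ((d : ↥D.C) : D.T)
          (ho.of_dvd_nat (orderOf_map_dvd (QuotientGroup.mk' (oddCore ↥D.C)) d)) s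
          (by simp only [List.mem_cons, List.not_mem_nil, or_false] at hs; rcases hs with h' | h' <;> subst h' <;> decide)
          (hd.map (QuotientGroup.mk' (oddCore ↥D.C))) with h' | h' | h'
        · exact (hinf ▸ ⟨d, (QuotientGroup.eq_one_iff d).mp h', rfl⟩ :
            ((c : G) ^ 2 ^ e) ∈ W0 ⊓ D.C).1
        · exact absurd h' hs1
        · exact absurd (h' ▸ Or.inr (Or.inl rfl)) hsta
      · exfalso
        refine hsZ ((D.Z_of_WConj ((hta _ (Or.inr (Or.inl rfl))).2 zz_ne)).mp ((hZconj ec).mp ?_))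
        exact IsConj.refl _
    · exact Subgroup.mem_centralizer_singleton_iff.mpr (hBab a ha zK (by rw [hBS]; exact hzV))
  have hz2 : orderOf zK = 2 := orderOf_eq_prime (by
    rw [sq]
    exact Subtype.ext (hV1sq _ hzV)) fun e => hzne (congrArg Subtype.val e)
  obtain ⟨e5⟩ := Cfsg.Agent.S3277.result zK hz2
    (by rw [hcent, hBS, Nat.card_congr (Subgroup.subgroupOfEquivOfLe hV1K).toEquiv, hV14])
    (fun a ha => by
      rw [hcent, hBS, Subgroup.mem_subgroupOf] at ha
      rw [sq]; exact Subtype.ext (hV1sq _ ha))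
    (by
      rintro ⟨P', N, hN, hcomp⟩
      have hNodd : Odd (Nat.card N) := by
        rw [← hcomp.index_eq_card, Nat.odd_iff, ← Nat.two_dvd_ne_zero]
        exact P'.not_dvd_index
      have hN1' : N = ⊥ := le_bot_iff.mp (hO0 ▸ @le_oddCore _ _ N hN hNodd)
      rw [hN1', Subgroup.isComplement'_bot_left] at hcomp
      obtain ⟨g, hg⟩ := MulAction.exists_smul_eq K0 BS P'
      have h1 : Nat.card (BS : Subgroup K0) = Nat.card K0 := by
        rw [BS.card_eq_multiplicity, ← P'.card_eq_multiplicity, hcomp, Subgroup.card_top]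
      have h2 : (BS : Subgroup K0) = ⊤ := Subgroup.eq_top_of_card_eq _ h1
      refine hH0 (top_le_iff.mp ?_)
      rw [← h2, hBS]
      exact fun a ha => hTkU (hV1Tk ha))
    (by
      intro E hE hEe
      refine ⟨fun hc => ?_, fun hc => ?_⟩
      · obtain ⟨a, ha⟩ := exists_prime_orderOf_dvd_card' (G := E) 2 (by rw [hc])
        rw [← Subgroup.orderOf_coe] at ha
        have hle : E ≤ (BS : Subgroup K0) := by
          intro b hb
          obtain ⟨g, hg⟩ := CfsgLib.G2Cent.into BS (IsPGroup.of_card (G := E) (n := 1) (by rw [hc, pow_one]))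
          have h' := hg _ (hE.conj_mem b hb g⁻¹)
          rwa [show g * (g⁻¹ * b * g⁻¹⁻¹) * g⁻¹ = b by group] at h'
        refine hH0 (top_le_iff.mp fun k _ => hCB a (hle a.2) ha (Subgroup.mem_centralizer_singleton_iff.mpr ?_))
        have hcyc : ∀ b ∈ E, b = 1 ∨ b = (a : K0) := by
          intro b hb
          have : Subgroup.zpowers (a : K0) = E := Subgroup.eq_of_le_of_card_ge
            (Subgroup.zpowers_le.mpr a.2) (by rw [hc, Nat.card_zpowers, ha])
          rw [← this] at hb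
          exact zpowers_two (by rw [← sq]; exact orderOf_dvd_iff_pow_eq_one.mp (dvd_of_eq ha)) hb
        rcases hcyc _ (hE.conj_mem _ a.2 k) with h' | h'
        · rw [conj_eq_one_iff.mp h', orderOf_one] at ha; omega
        · exact mul_inv_eq_iff_eq_mul.mp h'
      · have hle : E = (BS : Subgroup K0) := by
          refine Subgroup.eq_of_le_of_card_ge ?_ ?_
          · intro b hb
            obtain ⟨g, hg⟩ := CfsgLib.G2Cent.into BS (IsPGroup.of_card (G := E) (n := 2) (by rw [hc]; norm_num))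
            have h' := hg _ (hE.conj_mem b hb g⁻¹)
            rwa [show g * (g⁻¹ * b * g⁻¹⁻¹) * g⁻¹ = b by group] at h'
          · rw [hc, hBS, Nat.card_congr (Subgroup.subgroupOfEquivOfLe hV1K).toEquiv, hV14]
        refine hH0 (top_le_iff.mp fun k _ => hNB ?_)
        rw [← hle]
        exact (Subgroup.normalizer_eq_top_iff.mpr hE) ▸ Subgroup.mem_top k)
  -- five does not divide
  have h60 : Nat.card K0 = 60 := by
    rw [Nat.card_congr e5.toEquiv, nat_card_alternatingGroup, Nat.card_fin]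
    decide
  refine ⟨2 * Nat.card UK, fun h5 => ?_, fun c hc hcs' => ?_⟩
  · have h5' : 5 ∣ Nat.card UK := (Nat.prime_five.dvd_mul.mp h5).resolve_left (by norm_num)
    haveI : Fact (Nat.Prime 5) := ⟨Nat.prime_five⟩
    obtain ⟨a, ha⟩ := exists_prime_orderOf_dvd_card' (G := UK) 5 h5'
    rw [← Subgroup.orderOf_coe] at ha
    have haK : (a : (↥Cs ⧸ O) ⧸ Subgroup.zpowers sY) ∈ K0 := CfsgLib.AfterFT.PairClosed.mem_of_sq_mem
      (by rw [ha]; decide) (Subgroup.mul_self_mem_of_index_two hK0i _)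
    have h1 : 5 ∣ Nat.card H0 := by
      have := orderOf_dvd_natCard (⟨⟨_, haK⟩, a.2⟩ : H0)
      rwa [← Subgroup.orderOf_coe, ← Subgroup.orderOf_coe, ha] at this
    have h2 : 4 ∣ Nat.card H0 := by
      have hle : (BS : Subgroup K0) ≤ H0 := Subgroup.le_normalizer.trans hNB
      have := Subgroup.card_dvd_of_le hle
      rwa [hBS, Nat.card_congr (Subgroup.subgroupOfEquivOfLe hV1K).toEquiv, hV14] at this
    have h3 := H0.card_mul_index
    rw [h60] at h3
    obtain ⟨i, hi⟩ := Nat.Coprime.mul_dvd_of_dvd_of_dvd (by norm_num : Nat.Coprime 4 5) h2 h1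
    have hne : H0.index ≠ 1 := fun e => hH0 (Subgroup.index_eq_one.mp e)
    rw [hi, show (60 : ℕ) = 4 * 5 * 3 by norm_num, mul_assoc (4 * 5)] at h3
    have hdvd : H0.index ∣ 3 := Dvd.intro_left _ (Nat.eq_of_mul_eq_mul_left (by norm_num) h3)
    have hi3 : H0.index = 3 := ((Nat.dvd_prime Nat.prime_three).mp hdvd).resolve_left hne
    haveI : IsSimpleGroup K0 := e5.isSimpleGroup
    have hcore : H0.normalCore = ⊥ := ((Subgroup.normalCore_normal H0).eq_bot_or_eq_top).resolve_right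
      fun e => hH0 (top_le_iff.mp (e ▸ Subgroup.normalCore_le H0))
    have hinj : Function.Injective (MulAction.toPermHom K0 (K0 ⧸ H0)) := by
      rw [← MonoidHom.ker_eq_bot_iff, ← Subgroup.normalCore_eq_ker, hcore]
    have h4 := Nat.card_le_card_of_injective _ hinj
    rw [h60, Nat.card_perm, show Nat.card (K0 ⧸ H0) = 3 from hi3] at h4
    exact absurd h4 (by decide)
  · set cc : ↥Cs := ⟨c, Subgroup.mem_centralizer_singleton_iff.mpr hcs'.eq⟩
    have h1 : f (cc ^ Nat.card UK) = 1 := by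
      rw [map_pow]
      have h2 : (⟨f cc, cc, hc, rfl⟩ : UK) ^ Nat.card UK = 1 := pow_card_eq_one'
      exact congrArg Subtype.val h2
    rw [mul_comm, pow_mul]
    rcases hf1 _ h1 with h' | h'
    · exact pow_mem (hOW _ h' : c ^ Nat.card UK ∈ W0) 2
    · have h2 : (c ^ Nat.card UK * D.ι s) ^ 2 ∈ W0 := pow_mem (hOW _ h') 2
      rwa [((show Commute c (D.ι s) from hcs').pow_left _).mul_pow, sq (D.ι s), ← map_mul, hss, map_one, mul_one] at h2

end Fr

end CfsgLib.M12Sylow
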