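/-
An element of order ten in the Mathieu group of degree twelve.
-/
import Cfsg.Agent.Lib.M12Sylow.Model

set_option autoImplicit false
set_option maxRecDepth 100000

namespace CfsgLib.M12Sylow

open Cfsg CfsgM12Amalgam CfsgGolay

/-- The word. -/
def gTen : List ℕ := [2, 3, 5, 4]

theorem ten_checks : (∀ q : GolayPt, wd (gTen ++ gTen ++ gTen ++ gTen ++ gTen ++ gTen ++ gTen ++ gTen ++ gTen ++ gTen) q = q)
    ∧ (¬ ∀ q : GolayPt, wd (gTen ++ gTen ++ gTen ++ gTen ++ gTen) q = q) ∧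
    (¬ ∀ q : GolayPt, wd (gTen ++ gTen) q = q) := by decide +kernel

theorem exists_ten : ∃ x : ↥Spor.M12, orderOf x = 10 := by
  refine ⟨⟨wd gTen, wd_mem _⟩, ?_⟩
  rw [← Subgroup.orderOf_coe]
  have h : orderOf (wd gTen) ∣ 10 := orderOf_dvd_of_pow_eq_one (by
    refine Equiv.ext fun q => ?_
    simp only [pow_succ, pow_zero, one_mul, ← wd_append]
    exact ten_checks.1 q)
  have h5 : wd gTen ^ 5 ≠ 1 := fun e => ten_checks.2.1 fun q => by
    simpa only [pow_succ, pow_zero, one_mul, ← wd_append, Equiv.Perm.one_apply] using Equiv.congr_fun e q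
  have h2 : wd gTen ^ 2 ≠ 1 := fun e => ten_checks.2.2 fun q => by
    simpa only [pow_succ, pow_zero, one_mul, ← wd_append, Equiv.Perm.one_apply] using Equiv.congr_fun e q
  have hle := Nat.le_of_dvd (by norm_num) h
  have hd5 : ¬ orderOf (wd gTen) ∣ 5 := fun e => h5 (orderOf_dvd_iff_pow_eq_one.mp e)
  have hd2 : ¬ orderOf (wd gTen) ∣ 2 := fun e => h2 (orderOf_dvd_iff_pow_eq_one.mp e)
  generalize orderOf (wd gTen) = n at *
  interval_cases n <;> omega

end CfsgLib.M12Sylow
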