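/-
The centraliser of the central involution has trivial odd core.
-/
import Cfsg.Agent.Lib.M12Sylow.Sside
import Cfsg.Agent.Lib.M12Sylow.NoAlt
import Cfsg.Agent.Lib.M12Sylow.Ten
import Cfsg.Agent.Lib.Golay.Mathieu

set_option autoImplicit false
set_option maxRecDepth 100000
set_option linter.unusedSectionVars false
set_option linter.style.haveILetI false

namespace CfsgLib.M12Sylow

open Cfsg CfsgLib.G2Sylow CfsgA8C

universe u

theorem all_invol : ∀ w : W 4, w * w = 1 → w ≠ 1 →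
    TA w ∨ WConj w r0 ∨ WConj w r1 ∨ WConj w tt ∨ WConj w swp ∨ WConj w swr := by decide +kernel

theorem reach_z : ∀ w : W 4, w * w = 1 → w ≠ 1 → w ≠ zz → ∃ c : W 4, c * w * c⁻¹ * w = zz := by decide +kernel

theorem comm_r : ∀ r ∈ [r0, r1], ∀ s ∈ [r0, r1], r ≠ s → r * s * r * s = zz := by decide +kernel

theorem no_uu_comm : ∀ s ∈ [r0, r1], ∀ w : W 4, w * w = 1 → w * uu = uu * w →
    (∀ c : W 4, c * w * c⁻¹ * w = w * (c * w * c⁻¹)) → w * s * w * s ≠ uu := by decide +kernel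

variable {G : Type u} [Group G] [Finite G]

namespace Fr

variable (D : Fr G)

/-- The odd core of the centraliser is trivial. -/
theorem core_bot : oddCore ↥D.C = ⊥ := by
  classical
  haveI : Fact (Nat.Prime 2) := ⟨Nat.prime_two⟩
  haveI := D.hG
  obtain ⟨r, s, W0, hr, hs, hZ, hsZ, hodd, hinf, hC, hx, hcs⟩ := D.exists_W0
  by_contra hne
  set U := Subgroup.normalizer (W0 : Set G) with hUdef
  have hUtop : U ≠ ⊤ := by
    intro e
    haveI : W0.Normal := Subgroup.normalizer_eq_top_iff.mp e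
    rcases (inferInstance : W0.Normal).eq_bot_or_eq_top with h | h
    · refine hne ?_
      have h1 := hinf
      rw [h, bot_inf_eq] at h1
      exact (Subgroup.map_eq_bot_iff_of_injective _ D.C.subtype_injective).mp h1.symm
    · rw [h, Subgroup.card_top] at hodd
      have h2 := orderOf_dvd_natCard (D.ι zz)
      rw [D.order_two zz_sq zz_ne] at h2
      exact Nat.not_even_iff_odd.mpr hodd (even_iff_two_dvd.mpr h2)
  have hιU : ∀ w, D.ι w ∈ U := fun w =>
    hC (Subgroup.mem_centralizer_singleton_iff.mpr (D.comm_zz w).eq)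
  have hCz : ∀ {g : G}, Commute g (D.ι zz) → g ∈ U := fun h =>
    hC (Subgroup.mem_centralizer_singleton_iff.mpr h.eq)
  have hS : (D.S : Subgroup G) ≤ U := by
    rw [← D.range_eq]
    rintro _ ⟨w, rfl⟩
    exact hιU w
  have hs4 : ∀ {t : W 4}, t ∈ [r0, r1] → t ∈ reps4 := fun {t} ht => by
    simp only [List.mem_cons, List.not_mem_nil, or_false] at ht
    rcases ht with h | h <;> simp [reps4, h]
  -- fusion in the normaliser
  have hbase : ∀ w : W 4, w * w = 1 → w ≠ 1 →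
      ∃ g ∈ U, g * D.ι w * g⁻¹ = D.ι zz ∨ g * D.ι w * g⁻¹ = D.ι s := by
    intro w hw hw1
    have hconj : ∀ {v v' : W 4}, WConj v v' →
        (∃ g ∈ U, g * D.ι v' * g⁻¹ = D.ι zz ∨ g * D.ι v' * g⁻¹ = D.ι s) →
        ∃ g ∈ U, g * D.ι v * g⁻¹ = D.ι zz ∨ g * D.ι v * g⁻¹ = D.ι s := by
      rintro v v' ⟨c, hc⟩ ⟨g, hg, e⟩
      refine ⟨g * D.ι c, mul_mem hg (hιU c), ?_⟩
      rwa [show g * D.ι c * D.ι v * (g * D.ι c)⁻¹ = g * (D.ι c * D.ι v * (D.ι c)⁻¹) * g⁻¹ by group, ← map_inv,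
        ← map_mul, ← map_mul, hc]
    have hS' : ∀ t ∈ reps4, ¬ D.Z t → ∃ g ∈ U, g * D.ι t * g⁻¹ = D.ι zz ∨ g * D.ι t * g⁻¹ = D.ι s := by
      intro t ht htZ
      obtain ⟨g, hg, e⟩ := D.step_S ht (hs4 hs) htZ hsZ
      exact ⟨g, hCz hg, Or.inr e⟩
    have hrefl : ∀ t ∈ [r0, r1], ∃ g ∈ U, g * D.ι t * g⁻¹ = D.ι zz ∨ g * D.ι t * g⁻¹ = D.ι s := by
      intro t ht
      by_cases htZ : D.Z t
      · obtain ⟨g, hg, e⟩ := D.step_Z ht htZ
        refine ⟨D.x * g, mul_mem hx (hCz hg), Or.inl ?_⟩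
        rw [show D.x * g * D.ι t * (D.x * g)⁻¹ = D.x * (g * D.ι t * g⁻¹) * D.x⁻¹ by group, e, D.xu]
      · exact hS' t (hs4 ht) htZ
    rcases all_invol w hw hw1 with (h | h | h | h) | h | h | h | h | h
    · exact absurd h hw1
    · exact ⟨1, one_mem _, Or.inl (by rw [h]; group)⟩
    · exact ⟨D.x, hx, Or.inl (by rw [h, D.xu])⟩
    · refine ⟨D.x * D.x, mul_mem hx hx, Or.inl ?_⟩
      rw [h, show D.x * D.x * D.ι vv * (D.x * D.x)⁻¹ = D.x * (D.x * D.ι vv * D.x⁻¹) * D.x⁻¹ by group, D.xv, D.xu]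
    · exact hconj h (hrefl r0 (by simp))
    · exact hconj h (hrefl r1 (by simp))
    · refine hconj h ?_
      obtain ⟨v, hv, hve, e, hp⟩ := D.act r1 rfl rfl
      obtain ⟨c, hc⟩ := (refl_rep v hv hve).2.2.2 (hp.trans (by decide))
      obtain ⟨g, hg, e'⟩ := hrefl r1 (by simp)
      refine ⟨g * (D.ι c * D.x)⁻¹, mul_mem hg (inv_mem (mul_mem (hιU c) hx)), ?_⟩
      rwa [show g * (D.ι c * D.x)⁻¹ * D.ι tt * (g * (D.ι c * D.x)⁻¹)⁻¹
        = g * (D.x⁻¹ * ((D.ι c)⁻¹ * D.ι tt * D.ι c) * D.x) * g⁻¹ by group,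
        show (D.ι c)⁻¹ * D.ι tt * D.ι c = D.ι v by rw [← hc, map_mul, map_mul, map_inv]; group, ← e,
        show g * (D.x⁻¹ * (D.x * D.ι r1 * D.x⁻¹) * D.x) * g⁻¹ = g * D.ι r1 * g⁻¹ by group]
    · exact hconj h (hS' swp (by simp [reps4]) D.not_Z_swp)
    · exact hconj h (hS' swr (by simp [reps4]) D.not_Z_swr)
  have hfus : ∀ t ∈ U, t * t = 1 → t ≠ 1 →
      ∃ g ∈ U, g * t * g⁻¹ = D.ι zz ∨ g * t * g⁻¹ = D.ι s := by
    intro t ht ht2 ht1
    have hp : IsPGroup 2 (Subgroup.zpowers (⟨t, ht⟩ : U)) := IsPGroup.of_card (n := 1) (by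
      rw [Nat.card_zpowers, pow_one, Subgroup.orderOf_mk]
      exact orderOf_eq_prime (by rw [sq, ht2]) ht1)
    obtain ⟨c, hc⟩ := CfsgLib.G2Cent.into (D.S.subtype hS) hp
    have h1 : (c : G) * t * (c : G)⁻¹ ∈ (D.S : Subgroup G) := (hc _ (Subgroup.mem_zpowers _) : _)
    rw [← D.range_eq] at h1
    obtain ⟨w, hw⟩ := h1
    have hw2 : w * w = 1 := D.inj (by
      rw [map_mul, hw, map_one, show (c : G) * t * (c : G)⁻¹ * ((c : G) * t * (c : G)⁻¹)
        = (c : G) * (t * t) * (c : G)⁻¹ by group, ht2]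
      group)
    have hw1 : w ≠ 1 := fun e => by
      rw [e, map_one] at hw
      exact ht1 (conj_eq_one_iff.mp hw.symm)
    obtain ⟨g, hg, e⟩ := hbase w hw2 hw1
    refine ⟨g * c, mul_mem hg c.2, ?_⟩
    rwa [show g * (c : G) * t * (g * (c : G))⁻¹ = g * ((c : G) * t * (c : G)⁻¹) * g⁻¹ by group, ← hw]
  -- it suffices that the other centraliser lies in the normaliser
  by_cases hCs : Subgroup.centralizer ({D.ι s} : Set G) ≤ U
  · have hcent : ∀ t ∈ U, t * t = 1 → t ≠ 1 → ∀ g : G, Commute g t → g ∈ U := by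
      intro t ht ht2 ht1 g hg
      obtain ⟨k, hk, e⟩ := hfus t ht ht2 ht1
      have h1 : k * g * k⁻¹ ∈ U := by
        have hc : Commute (k * g * k⁻¹) (k * t * k⁻¹) := hg.map (MulAut.conj k).toMonoidHom
        rcases e with e | e <;> rw [e] at hc
        · exact hCz hc
        · exact hCs (Subgroup.mem_centralizer_singleton_iff.mpr hc.eq)
      rw [show g = k⁻¹ * (k * g * k⁻¹) * k by group]
      exact mul_mem (mul_mem (inv_mem hk) h1) hk
    have hclass : ∀ t ∈ U, t * t = 1 → t ≠ 1 → ∃ g ∈ U, g * t * g⁻¹ = if IsConj t (D.ι zz) then D.ι zz else D.ι s := by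
      intro t ht ht2 ht1
      obtain ⟨g, hg, e⟩ := hfus t ht ht2 ht1
      refine ⟨g, hg, ?_⟩
      rcases e with e | e
      · rw [if_pos (isConj_iff.mpr ⟨g, e⟩), e]
      · rw [if_neg (fun h => hsZ ((isConj_iff.mpr ⟨g, e⟩ : IsConj t (D.ι s)).symm.trans h)), e]
    have hse : IsStronglyEmbedded U := by
      refine ⟨hUtop, ?_, fun g hg => Nat.not_even_iff_odd.mp fun hev => hg ?_⟩
      · rw [even_iff_two_dvd, ← D.order_two zz_sq zz_ne]
        exact Subgroup.orderOf_dvd_natCard U (hιU zz)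
      obtain ⟨t, ht⟩ := exists_prime_orderOf_dvd_card' (G := ↥(U ⊓ U.map (MulAut.conj g).toMonoidHom)) 2
        (even_iff_two_dvd.mp hev)
      rw [← Subgroup.orderOf_coe] at ht
      obtain ⟨t, htU, t', ht'U, he⟩ := t
      have he' : g * t' * g⁻¹ = t := he
      change orderOf t = 2 at ht
      have ht2 : t * t = 1 := by rw [← sq]; exact orderOf_dvd_iff_pow_eq_one.mp (dvd_of_eq ht)
      have ht1 : t ≠ 1 := fun e => by rw [e, orderOf_one] at ht; omega
      have ht'2 : t' * t' = 1 := by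
        have h1 : g * (t' * t') * g⁻¹ = 1 := by
          rw [show g * (t' * t') * g⁻¹ = g * t' * g⁻¹ * (g * t' * g⁻¹) by group, he', ht2]
        exact conj_eq_one_iff.mp h1
      have ht'1 : t' ≠ 1 := fun e => ht1 (by rw [← he', e]; group)
      obtain ⟨a, ha, ea⟩ := hclass t htU ht2 ht1
      obtain ⟨b, hb, eb⟩ := hclass t' ht'U ht'2 ht'1
      have hiff : IsConj t (D.ι zz) ↔ IsConj t' (D.ι zz) := by
        have hc : IsConj t' t := isConj_iff.mpr ⟨g, he'⟩
        exact ⟨fun h => hc.trans h, fun h => hc.symm.trans h⟩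
      simp only [hiff] at ea
      have hmem : b⁻¹ * a * g ∈ U := by
        refine hcent t' ht'U ht'2 ht'1 _ (mul_inv_eq_iff_eq_mul.mp ?_ : b⁻¹ * a * g * t' = t' * (b⁻¹ * a * g))
        rw [show b⁻¹ * a * g * t' * (b⁻¹ * a * g)⁻¹ = b⁻¹ * (a * (g * t' * g⁻¹) * a⁻¹) * b by group, he', ea, ← eb]
        group
      rw [show g = a⁻¹ * b * (b⁻¹ * a * g) by group]
      exact mul_mem (mul_mem (inv_mem ha) hb) hmem
    obtain ⟨hs2, hs1, -⟩ := s_facts s hs
    obtain ⟨g, -, e⟩ := CfsgLib.JComp.se_involutions hse (hιU s) (by rw [← map_mul, hs2, map_one])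
      (fun h => hs1 (D.inj (h.trans (map_one D.ι).symm))) (hιU zz) (by rw [← map_mul, zz_sq, map_one])
      (fun h => zz_ne (D.inj (h.trans (map_one D.ι).symm)))
    exact hsZ (isConj_iff.mpr ⟨g, e⟩)
  obtain ⟨⟨h, hhU, hhs, hhz⟩, n, hn5, hn⟩ := D.s_side hs hsZ W0 hodd hinf hC hx hcs hCs
  -- the quotient
  haveI : (W0.subgroupOf U).Normal := Subgroup.normal_in_normalizer
  set q := QuotientGroup.mk' (W0.subgroupOf U)
  set fC := q.comp (Subgroup.inclusion hC)
  have hqodd : Odd (Nat.card (W0.subgroupOf U)) := by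
    rwa [Nat.card_congr (Subgroup.subgroupOfEquivOfLe Subgroup.le_normalizer).toEquiv]
  have hlift : ∀ (a : G) (haU : a ∈ U), a * a = 1 → ∀ m : U, Commute (q m) (q ⟨a, haU⟩) →
      ∃ c : U, q c = q m ∧ Commute (c : G) a := by
    intro a haU ha2 m hm
    obtain ⟨d, hd, e⟩ := conj_mem_of_congr hqodd (a := m * ⟨a, haU⟩ * m⁻¹) (b := ⟨a, haU⟩)
      (by rw [show m * ⟨a, haU⟩ * m⁻¹ * (m * ⟨a, haU⟩ * m⁻¹) = m * (⟨a, haU⟩ * ⟨a, haU⟩ : U) * m⁻¹ by group,
        show (⟨a, haU⟩ * ⟨a, haU⟩ : U) = 1 from Subtype.ext ha2]; group) (Subtype.ext ha2)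
      (by
        rw [← QuotientGroup.eq_one_iff]
        show q (m * ⟨a, haU⟩ * m⁻¹ * ⟨a, haU⟩) = 1
        rw [map_mul, map_mul, map_mul, map_inv, hm.eq, mul_inv_cancel_right, ← map_mul,
          show (⟨a, haU⟩ * ⟨a, haU⟩ : U) = 1 from Subtype.ext ha2, map_one])
    refine ⟨d * m, ?_, ?_⟩
    · rw [map_mul, show q d = 1 from (QuotientGroup.eq_one_iff d).mpr hd, one_mul]
    · have h1 := congrArg Subtype.val e
      simp only [Subgroup.coe_mul, Subgroup.coe_inv] at h1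
      exact mul_inv_eq_iff_eq_mul.mp (show ((d * m : U) : G) * a * ((d * m : U) : G)⁻¹ = a by
        simp only [Subgroup.coe_mul]
        conv_rhs => rw [← h1]
        group)
  have hker : fC.ker = oddCore ↥D.C := by
    ext c
    show q (Subgroup.inclusion hC c) = 1 ↔ _
    rw [show q (Subgroup.inclusion hC c) = 1 ↔ (c : G) ∈ W0 from QuotientGroup.eq_one_iff _]
    constructor
    · intro h'
      obtain ⟨c', hc', e⟩ := (hinf ▸ ⟨h', c.2⟩ : (c : G) ∈ core D.C)
      exact (Subtype.ext e : c' = c) ▸ hc'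
    · intro h'
      exact (hinf ▸ ⟨c, h', rfl⟩ : (c : G) ∈ W0 ⊓ D.C).1
  set zU : U := ⟨D.ι zz, hιU zz⟩
  have hrange : fC.range = Subgroup.centralizer {fC (D.κ zz)} := by
    refine le_antisymm ?_ fun k hk => ?_
    · rintro _ ⟨c, rfl⟩
      refine Subgroup.mem_centralizer_singleton_iff.mpr ?_
      rw [← map_mul, ← map_mul]
      exact congrArg fC (Subtype.ext (Subgroup.mem_centralizer_singleton_iff.mp c.2))
    · obtain ⟨m, rfl⟩ := QuotientGroup.mk'_surjective (W0.subgroupOf U) k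
      obtain ⟨c, e, hc⟩ := hlift (D.ι zz) (hιU zz) (by rw [← map_mul, zz_sq, map_one]) m
        (Subgroup.mem_centralizer_singleton_iff.mp hk)
      exact ⟨⟨c, Subgroup.mem_centralizer_singleton_iff.mpr hc.eq⟩, e⟩
  have hnwc : ∃ g : U ⧸ W0.subgroupOf U, g * fC (D.κ zz) * g⁻¹ = fC (D.κ uu) := by
    refine ⟨q ⟨D.x⁻¹, inv_mem hx⟩, ?_⟩
    show q _ * q zU * (q _)⁻¹ = q ⟨D.ι uu, hιU uu⟩
    rw [← map_inv, ← map_mul, ← map_mul]
    refine congrArg q (Subtype.ext ?_)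
    show D.x⁻¹ * D.ι zz * D.x⁻¹⁻¹ = D.ι uu
    rw [← D.xu]; group
  set eH : W 4 →* U ⧸ W0.subgroupOf U := fC.comp D.κ with heH
  have heinj : Function.Injective eH := by
    refine (injective_iff_map_eq_one eH).mpr fun w hw => ?_
    have h1 : D.κ w ∈ oddCore ↥D.C := hker ▸ hw
    have h2 := CfsgLib.AfterFT.PairClosed.odd_orderOf_of_mem odd_card_oddCore h1
    rw [← Subgroup.orderOf_coe, coe_κ, orderOf_injective D.ι D.inj] at h2
    obtain ⟨k, hk⟩ := Amb.isPGroup_W w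
    obtain ⟨j, -, hj⟩ := (Nat.dvd_prime_pow Nat.prime_two).mp (orderOf_dvd_of_pow_eq_one hk)
    rw [hj] at h2
    rw [odd_two_pow h2, pow_zero] at hj
    exact orderOf_eq_one_iff.mp hj
  have hidx : ¬ 2 ∣ eH.range.index := by
    intro h2
    have h1 : 128 ∣ Nat.card G := by
      refine dvd_trans (dvd_trans ?_ (Subgroup.card_quotient_dvd_card (W0.subgroupOf U)))
        (Subgroup.card_subgroup_dvd_card U)
      rw [← eH.range.card_mul_index, ← Nat.card_congr (MonoidHom.ofInjective heinj).toEquiv, card_W]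
      norm_num
      exact Nat.mul_dvd_mul_left 64 h2
    have h3 : Nat.card (D.S : Subgroup G) = 64 := by
      rw [← D.range_eq, ← Nat.card_congr (MonoidHom.ofInjective D.inj).toEquiv, card_W]
      norm_num
    rw [← (D.S : Subgroup G).card_mul_index, h3, show (128 : ℕ) = 64 * 2 by norm_num] at h1
    exact D.S.not_dvd_index (Nat.dvd_of_mul_dvd_mul_left (by norm_num) h1)
  set hU : U := ⟨h, hhU⟩
  rcases D.apply_3344 fC hker hrange hnwc with ⟨N, hN, hNc, hN2, hN8, -⟩ | h8 | h9 | h12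
  · -- an elementary abelian normal subgroup
    have hNp : IsPGroup 2 N := IsPGroup.of_card (n := 3) (by rw [hN8]; norm_num)
    have hWp : IsPGroup 2 eH.range := Amb.isPGroup_W.of_surjective eH.rangeRestrict eH.rangeRestrict_surjective
    obtain ⟨g, hg⟩ := CfsgLib.G2Cent.into (hWp.toSylow hidx) hNp
    have hNle : ∀ a ∈ N, ∃ w, eH w = a := fun a ha => by
      have h1 := hg _ (hN.conj_mem a ha g⁻¹)
      rw [IsPGroup.toSylow_coe, show g * (g⁻¹ * a * g⁻¹⁻¹) * g⁻¹ = a by group] at h1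
      exact h1
    set NW := N.comap eH
    have hNW : ∀ {w}, w ∈ NW ↔ eH w ∈ N := Iff.rfl
    have hNWsq : ∀ w ∈ NW, w * w = 1 := fun w hw => heinj (by
      rw [map_mul, map_one, ← sq]; exact hN2 _ hw)
    have hNWc : ∀ v ∈ NW, ∀ w ∈ NW, v * w = w * v := fun v hv w hw => heinj (by
      rw [map_mul, map_mul]
      exact congrArg Subtype.val (hNc.is_comm.comm (⟨_, hv⟩ : N) ⟨_, hw⟩))
    obtain ⟨a, ha, ha1⟩ : ∃ a ∈ N, a ≠ 1 := by
      by_contra hall
      push Not at hall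
      rw [(Subgroup.eq_bot_iff_forall N).mpr hall, Subgroup.card_bot] at hN8
      omega
    obtain ⟨w, hwa⟩ := hNle a ha
    have hw : w ∈ NW := by rw [hNW, hwa]; exact ha
    have hconjW : ∀ c, ∀ v ∈ NW, c * v * c⁻¹ ∈ NW := fun c v hv => by
      rw [hNW, map_mul, map_mul, map_inv]; exact hN.conj_mem _ hv _
    have hz : zz ∈ NW := by
      by_cases hwz : w = zz
      · exact hwz ▸ hw
      obtain ⟨c, hc⟩ := reach_z w (hNWsq w hw) (fun e => ha1 (by rw [← hwa, e, map_one])) hwz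
      exact hc ▸ NW.mul_mem (hconjW c w hw) hw
    have hmoveN : ∀ (g : G) (hgU : g ∈ U) (v v' : W 4), v ∈ NW → g * D.ι v * g⁻¹ = D.ι v' → v' ∈ NW := by
      intro g hgU v v' hv e
      have h1 : q ⟨g, hgU⟩ * eH v * (q ⟨g, hgU⟩)⁻¹ = eH v' := by
        show q _ * q ⟨D.ι v, hιU v⟩ * (q _)⁻¹ = q ⟨D.ι v', hιU v'⟩
        rw [← map_inv, ← map_mul, ← map_mul]
        exact congrArg q (Subtype.ext e)
      rw [hNW, ← h1]
      exact hN.conj_mem _ hv _
    have hu : uu ∈ NW := hmoveN D.x⁻¹ (inv_mem hx) zz uu hz (by rw [← D.xu]; group)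
    have hrN : r ∈ NW := by
      obtain ⟨g, hg, e⟩ := D.step_Z hr hZ
      exact hmoveN g⁻¹ (inv_mem (hCz hg)) uu r hu (by rw [← e]; group)
    have hrs : r ≠ s := fun e => hsZ (e ▸ hZ)
    obtain ⟨w', hw'⟩ := hNle _ (hN.conj_mem _ (hNW.mp hrN) (q hU))
    have hw'N : w' ∈ NW := by rw [hNW, hw']; exact hN.conj_mem _ (hNW.mp hrN) _
    have hsfix : q hU * eH s * (q hU)⁻¹ = eH s := by
      show q _ * q ⟨D.ι s, hιU s⟩ * (q _)⁻¹ = q ⟨D.ι s, hιU s⟩
      rw [← map_inv, ← map_mul, ← map_mul]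
      exact congrArg q (Subtype.ext (show h * D.ι s * h⁻¹ = D.ι s by rw [hhs.eq, mul_inv_cancel_right]))
    have hzu : q hU * eH zz * (q hU)⁻¹ = eH uu := by
      show q _ * q ⟨D.ι zz, hιU zz⟩ * (q _)⁻¹ = q ⟨D.ι uu, hιU uu⟩
      rw [← map_inv, ← map_mul, ← map_mul]
      exact congrArg q (Subtype.ext hhz)
    refine no_uu_comm s hs w' (hNWsq _ hw'N) (hNWc _ hw'N _ hu)
      (fun c => hNWc _ (hconjW c _ hw'N) _ hw'N) (heinj ?_)
    rw [← hzu, ← comm_r r hr s hs hrs, map_mul, map_mul, map_mul, map_mul, map_mul, map_mul, hw']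
    calc q hU * eH r * (q hU)⁻¹ * eH s * (q hU * eH r * (q hU)⁻¹) * eH s
        = q hU * eH r * (q hU)⁻¹ * (q hU * eH s * (q hU)⁻¹) * (q hU * eH r * (q hU)⁻¹) *
            (q hU * eH s * (q hU)⁻¹) := by rw [hsfix]
      _ = q hU * (eH r * eH s * eH r * eH s) * (q hU)⁻¹ := by group
  · exact not_alt (Or.inl rfl) eH heinj h8
  · exact not_alt (Or.inr rfl) eH heinj h9
  · -- an element of order ten
    obtain ⟨ψ⟩ : Nonempty (↥U ⧸ W0.subgroupOf U ≃* ↥Spor.M12) := h12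
    obtain ⟨t, ht⟩ := exists_ten
    set d := ψ.symm t
    have hd : orderOf d = 10 := (MulEquiv.orderOf_eq ψ.symm t).trans ht
    set a := d ^ 5
    set b := d ^ 2
    have ha2 : orderOf a = 2 := by
      rw [orderOf_pow' d (by norm_num : 5 ≠ 0), hd]
      norm_num
    have hb5 : orderOf b = 5 := by
      rw [orderOf_pow' d (by norm_num : 2 ≠ 0), hd]
      norm_num
    obtain ⟨m, hm⟩ := QuotientGroup.mk'_surjective (W0.subgroupOf U) a
    have hmm : m * m ∈ W0.subgroupOf U := (QuotientGroup.eq_one_iff _).mp (by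
      show q (m * m) = 1
      rw [map_mul, show q m = a from hm, ← sq]
      exact orderOf_dvd_iff_pow_eq_one.mp (dvd_of_eq ha2))
    obtain ⟨k, hk⟩ := CfsgLib.AfterFT.PairClosed.odd_orderOf_of_mem hqodd hmm
    set m' := m ^ (2 * k + 1)
    have hm'2 : m' * m' = 1 := by
      rw [← (Commute.refl m).mul_pow, ← hk, pow_orderOf_eq_one]
    have hm'q : q m' = a := by
      rw [map_pow, show q m = a from hm, pow_succ, pow_mul, orderOf_dvd_iff_pow_eq_one.mp (dvd_of_eq ha2), one_pow,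
        one_mul]
    have hm'1 : (m' : G) ≠ 1 := fun e => by
      have e' : m' = 1 := Subtype.ext e
      rw [e', map_one] at hm'q
      rw [← hm'q, orderOf_one] at ha2
      omega
    obtain ⟨g, hg, e⟩ := hfus m' m'.2 (congrArg Subtype.val hm'2) hm'1
    set b' := q ⟨g, hg⟩ * b * (q ⟨g, hg⟩)⁻¹
    have hb' : orderOf b' = 5 := by
      rw [← hb5]
      exact MulEquiv.orderOf_eq (MulAut.conj (q ⟨g, hg⟩)) b
    have hb'c : ∀ v : W 4, g * (m' : G) * g⁻¹ = D.ι v → Commute b' (eH v) := by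
      intro v e
      have h1 : eH v = q ⟨g, hg⟩ * a * (q ⟨g, hg⟩)⁻¹ := by
        rw [← hm'q, ← map_inv, ← map_mul, ← map_mul]
        exact congrArg q (Subtype.ext e.symm)
      rw [h1]
      exact (((Commute.refl d).pow_pow 2 5)).map (MulAut.conj (q ⟨g, hg⟩)).toMonoidHom
    rcases e with e | e
    · have h1 : b' ∈ fC.range := by
        rw [hrange]
        exact Subgroup.mem_centralizer_singleton_iff.mpr (hb'c zz e).eq
      have h2 := Subgroup.orderOf_dvd_natCard fC.range h1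
      rw [hb', ← Subgroup.index_ker, hker, show (oddCore ↥D.C).index = 192 from D.quot_facts.2.2.1] at h2
      norm_num at h2
    · obtain ⟨bm, hbm⟩ := QuotientGroup.mk'_surjective (W0.subgroupOf U) b'
      obtain ⟨c, ec, hc⟩ := hlift (D.ι s) (hιU s) (by rw [← map_mul, (s_facts s hs).1, map_one]) bm (by
        rw [show q bm = b' from hbm]
        exact hb'c s e)
      have h1 : q (c ^ n) = 1 := (QuotientGroup.eq_one_iff _).mpr (hn c c.2 hc)
      rw [map_pow, ec, show q bm = b' from hbm] at h1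
      exact hn5 (hb' ▸ orderOf_dvd_of_pow_eq_one h1)

end Fr

end CfsgLib.M12Sylow
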