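/-
A trivial odd core of the central centraliser gives the Mathieu group of degree twelve.
-/
import Cfsg.Agent.Lib.M12Sylow.Apply
import Cfsg.Agent.Lib.M12Sylow.NoAlt

set_option autoImplicit false
set_option linter.unusedSectionVars false
set_option linter.style.haveILetI false

namespace CfsgLib.M12Sylow

open Cfsg CfsgLib.G2Sylow

universe u

variable {G : Type u} [Group G] [Finite G]

theorem Fr.m12_of_core_bot (D : Fr G) (h : oddCore ↥D.C = ⊥) : Cfsg.Spor.IsoM12 G := by
  rcases D.apply_3344 D.C.subtype (by rw [h, Subgroup.ker_subtype])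
    (by rw [Subgroup.range_subtype]; rfl) (isConj_iff.mp (D.Z_uu).symm) with ⟨N, hN, -, -, hN8, -⟩ | h8 | h9 | h12
  · haveI := D.hG
    rcases hN.eq_bot_or_eq_top with e | e
    · rw [e, Subgroup.card_bot] at hN8
      omega
    · rw [e, Subgroup.card_top] at hN8
      have h64 := Nat.card_le_card_of_injective D.ι D.inj
      rw [card_W, hN8] at h64
      norm_num at h64
  · exact absurd h8 (not_alt (Or.inl rfl) D.ι D.inj)
  · exact absurd h9 (not_alt (Or.inr rfl) D.ι D.inj)
  · exact h12

end CfsgLib.M12Sylow
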