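/-
Simple groups with the Sylow 2-subgroup of the Mathieu group of degree twelve and two classes of involutions.
-/
import Cfsg.Agent.Lib.M12Sylow.Model
import Cfsg.Agent.Lib.M12Sylow.Core
import Cfsg.Agent.Lib.M12Sylow.CoreFree

set_option autoImplicit false
set_option linter.unusedSectionVars false
set_option linter.style.haveILetI false

namespace CfsgLib.M12Sylow

open Cfsg CfsgLib.G2Sylow

universe u

/-- The theorem. -/
theorem main {G : Type u} [Group G] [Finite G] [hG : IsSimpleGroup G] (S : Sylow 2 G) (P : Sylow 2 ↥Cfsg.Spor.M12)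
    (hS : Nonempty (↥(S : Subgroup G) ≃* ↥(P : Subgroup ↥Cfsg.Spor.M12)))
    (h2 : ∃ x y : G, orderOf x = 2 ∧ orderOf y = 2 ∧ ¬ IsConj x y) : Cfsg.Spor.IsoM12 G := by
  obtain ⟨e⟩ := hS
  obtain ⟨e'⟩ := exists_iso P
  set φ := e'.trans e.symm
  set ι : W 4 →* G := (S : Subgroup G).subtype.comp φ.toMonoidHom
  have hinj : Function.Injective ι := (S : Subgroup G).subtype_injective.comp φ.injective
  have hrange : ι.range = (S : Subgroup G) := by
    rw [MonoidHom.range_comp, MonoidHom.range_eq_top.mpr φ.surjective, ← MonoidHom.range_eq_map, Subgroup.range_subtype]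
  have htwo : ¬ IsConj (ι swp) (ι zz) := by
    intro hconj
    obtain ⟨x, y, hx, hy, hxy⟩ := h2
    have key : ∀ w : G, orderOf w = 2 → IsConj w (ι zz) := fun w hw => by
      rcases CfsgLib.G2Sylow.two_classes (h := 2) (by norm_num) (by decide) le_rfl S ι hinj hrange w hw with h | h
      · exact h
      · exact h.trans hconj
    exact hxy ((key x hx).trans (key y hy).symm)
  obtain ⟨D⟩ := exists_frame (⟨hG, S, ι, hinj, hrange, htwo⟩ : Amb G)
  exact D.m12_of_core_bot D.core_bot

end CfsgLib.M12Sylow
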